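import Groth.Agent.ObsLib.Groups
import Groth.Agent.DiagRepLib.Scheme
import Groth.Agent.ThetaBGLib.GLProps
import Groth.Prelude.Def_GLin4
import Groth.Prelude.Def_GLin5

/-!
# Homomorphisms to general linear groups from representations of the points
-/

set_option autoImplicit false
set_option linter.style.haveILetI false
set_option linter.unusedSectionVars false
set_option backward.isDefEq.respectTransparency false
set_option backward.isDefEq.respectTransparency.types false
set_option maxHeartbeats 1000000
set_option synthInstance.maxHeartbeats 400000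

noncomputable section

universe u

open CategoryTheory MonoidalCategory CartesianMonoidalCategory AlgebraicGeometry WithConv
open scoped MonObj TensorProduct
open CoactBr (sp pt)
open CoordGrp (GLn)

namespace Groth.Agent.ObsLib

open BorelLib BlowRegLib

attribute [-instance] CategoryTheory.Hom.commGroup
attribute [local instance] pTop pTopTensor

variable {k : Type u} [Field k]

/-- Maps out of the coordinate ring of the general linear group are determined on the matrix entries. -/
theorem gln_ext {C : Type u} [CommRing C] [Algebra k C] {n : ℕ} {f g : GLn n k →ₐ[k] C}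
    (h : ∀ i j, f (GLn.X i j) = g (GLn.X i j)) : f = g := by
  refine GLn.algHom_ext h ?_
  have hd : f GLn.det = g GLn.det := by
    rw [GLn.det_eq, AlgHom.map_det, AlgHom.map_det]
    congr 1
    ext i j
    exact h i j
  have h1 : f GLn.det * f GLn.Dinv = 1 := by rw [← map_mul, GLn.det_mul_Dinv, map_one]
  refine (IsUnit.of_mul_eq_one _ h1).mul_left_cancel ?_
  rw [h1, hd, ← map_mul, GLn.det_mul_Dinv, map_one]

/-- The general linear group is smooth. -/
theorem smooth_gln (n : ℕ) : Smooth (sp k (GLn n k)).hom := by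
  obtain ⟨e⟩ := ThetaBG.nonempty_gln_equiv n k
  haveI : Algebra.Smooth k (Localization.Away (ThetaBG.detP n k)) := by
    haveI : Algebra.Smooth k (MvPolynomial (Fin n × Fin n) k) := ⟨inferInstance, inferInstance⟩
    haveI : Algebra.Smooth (MvPolynomial (Fin n × Fin n) k) (Localization.Away (ThetaBG.detP n k)) :=
      Algebra.Smooth.of_isLocalization_Away (ThetaBG.detP n k)
    exact Algebra.Smooth.comp k (MvPolynomial (Fin n × Fin n) k) _
  haveI : Algebra.Smooth k (GLn n k) := Algebra.Smooth.of_equiv e.symm
  show Smooth (Spec.map (CommRingCat.ofHom (algebraMap k (GLn n k))))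
  rw [HasRingHomProperty.Spec_iff (P := @Smooth)]
  exact RingHom.smooth_algebraMap.mpr inferInstance

variable [IsAlgClosed k] {A : Type u} [CommRing A] [HopfAlgebra k A] [Algebra.FiniteType k A] [_root_.IsReduced A]
  {V : Type u} [AddCommGroup V] [Module k V]

/-- The homomorphism of a representation of the points in a basis. -/
theorem exists_homOfRep {n : ℕ} (b : Module.Basis (Fin n) k V) (r : RegRep (⊤ : Subgroup (Pt k A)) V) :
    ∃ f : GLn n k →ₐ[k] A, IsMonHom (pt f) ∧ ∀ (x : Pt k A) i j, x.ofConv (f (GLn.X i j)) = b.coord i (r.ρ x (b j)) := by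
  classical
  haveI : FiniteDimensional k V := b.finiteDimensional_of_finite
  choose a ha using fun (i j : Fin n) => r.reg (b.coord i) (b j)
  simp only at ha
  let t : Matrix (Fin n) (Fin n) A := Matrix.of a
  let t' : Matrix (Fin n) (Fin n) A := t.map (HopfAlgebra.antipodeAlgHom k A)
  have hmat : ∀ x : Pt k A, x.ofConv.mapMatrix t = LinearMap.toMatrix b b (r.ρ x) := fun x => by
    ext i j
    rw [LinearMap.toMatrix_apply]
    exact (ha i j x).symm
  have hd : t.det * t'.det = 1 := by
    refine ext_pts (k := k) fun x => ?_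
    rw [map_mul, map_one, AlgHom.map_det, AlgHom.map_det, hmat]
    have e : x.ofConv.mapMatrix t' = x⁻¹.ofConv.mapMatrix t := by
      ext i j
      rfl
    rw [e, hmat, ← Matrix.det_mul, ← LinearMap.toMatrix_mul, ← r.map_mul x trivial _ trivial, mul_inv_cancel,
      r.map_one, LinearMap.toMatrix_one, Matrix.det_one]
  let f : GLn n k →ₐ[k] A := GLn.pt n k t t'.det hd
  have hf : ∀ i j, f (GLn.X i j) = a i j := fun i j => GLn.pt_X _ _ _ i j
  refine ⟨f, Groth.Agent.DiagRep.isMonHom_pt f (gln_ext fun i j => ?_) (gln_ext fun i j => ?_), fun x i j => by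
    rw [hf, ← ha]⟩
  · rw [AlgHom.comp_apply, hf, Bialgebra.counitAlgHom_apply, Bialgebra.counitAlgHom_apply, GLn.counit_X]
    have h1 := ha i j 1
    rw [r.map_one, Module.End.one_apply, Module.Basis.coord_apply, b.repr_self, AlgHom.convOne_apply,
      Algebra.algebraMap_self, RingHom.id_apply] at h1
    rw [← h1, Finsupp.single_apply]
    rcases eq_or_ne i j with rfl | hij
    · simp
    · simp [hij, Ne.symm hij]
  · show Algebra.TensorProduct.map f f (CoalgebraStruct.comul (R := k) (GLn.X i j)) =
      CoalgebraStruct.comul (R := k) (f (GLn.X i j))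
    rw [GLn.comul_X, map_sum, hf]
    simp only [Algebra.TensorProduct.map_tmul, hf]
    symm
    rw [← sub_eq_zero]
    refine eq_zero_of_forall_pair fun x y => ?_
    rw [map_sub, sub_eq_zero, ← mul_ofConv, map_sum, ← ha, r.mul_apply trivial trivial]
    conv_lhs => rw [← b.sum_repr (r.ρ y (b j))]
    simp only [map_sum, map_smul, smul_eq_mul, pair_tmul, ← ha, Module.Basis.coord_apply]
    exact Finset.sum_congr rfl fun l _ => mul_comm _ _

/-- A representation on `V × k` obtained from one on `V` by shifting along a vector. -/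
def shiftRep (r : RegRep (⊤ : Subgroup (Pt k A)) V) (δ : V) : RegRep (⊤ : Subgroup (Pt k A)) (V × k) where
  ρ g := (r.ρ g ∘ₗ (LinearMap.fst k V k + (LinearMap.snd k V k).smulRight δ) - (LinearMap.snd k V k).smulRight δ).prod
    (LinearMap.snd k V k)
  map_one := by
    refine LinearMap.ext fun p => ?_
    simp [r.map_one]
  map_mul g _ h _ := by
    refine LinearMap.ext fun p => ?_
    simp [r.map_mul g trivial h trivial]
  reg φ p := by
    have e : (fun g => φ ((r.ρ g ∘ₗ (LinearMap.fst k V k + (LinearMap.snd k V k).smulRight δ) -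
        (LinearMap.snd k V k).smulRight δ).prod (LinearMap.snd k V k) p)) =
        fun g => (φ ∘ₗ LinearMap.inl k V k) (r.ρ g (p.1 + p.2 • δ)) + φ (-(p.2 • δ), p.2) := by
      funext g
      rw [LinearMap.comp_apply, ← map_add]
      refine congrArg φ ?_
      simp [sub_eq_add_neg]
    rw [e]
    exact (r.reg _ _).add (IsReg.const _)

lemma shiftRep_apply (r : RegRep (⊤ : Subgroup (Pt k A)) V) (δ : V) (g : Pt k A) (p : V × k) :
    (shiftRep r δ).ρ g p = (r.ρ g (p.1 + p.2 • δ) - p.2 • δ, p.2) := rfl

variable {G : Over (Spec (CommRingCat.of k))} [GrpObj G] (v : sp k A ≅ G) [IsMonHom v.hom]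
  {B : Type u} [CommRing B] [HopfAlgebra k B] [Algebra.FiniteType k B] [_root_.IsReduced B]
  {H : Over (Spec (CommRingCat.of k))} [GrpObj H] (w : sp k B ≅ H) [IsMonHom w.hom]
  {i : H ⟶ G} [IsMonHom i] {π : A →ₐ[k] B} (hπ : w.hom ≫ i = gpt v π)
include hπ

/-- Invariant vectors over all test algebras. -/
theorem fixedUnder_iff (m : VecGrp.GMod G V) (u : V) :
    u ∈ m.fixedUnder i ↔ ∀ y : Pt k B, (toRep v m).ρ (pull π y) u = u := by
  constructor
  · intro h y
    refine (rho_fix_iff v m _ u).1 ?_
    rw [← ptk_comp v w hπ]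
    exact h k _
  · intro h C _ _ g
    obtain ⟨ψ, rfl⟩ := exists_gpt w g
    rw [gpt_comp v w hπ, rho_gpt]
    have key : VecGrp.Wmap π (uval v m u) = (1 : B) ⊗ₜ[k] u := by
      refine tens_ext fun y => ?_
      rw [VecGrp.Wmap_tmul, map_one, Wmap_comp π y.ofConv, ← rho_gpt v m (y.ofConv.comp π) u]
      exact (rho_fix_iff v m (pull π y) u).2 (h y)
    rw [← Wmap_comp π ψ, key, VecGrp.Wmap_tmul, map_one]

end Groth.Agent.ObsLib
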