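import Groth.Agent.ObsLib.InvFG
import Groth.Agent.ObsLib.GLHom

/-!
# Actions on algebras from universal formulas on points
-/

set_option autoImplicit false
set_option linter.style.haveILetI false
set_option linter.unusedSectionVars false
set_option backward.isDefEq.respectTransparency false
set_option backward.isDefEq.respectTransparency.types false
set_option maxHeartbeats 1000000
set_option synthInstance.maxHeartbeats 400000

noncomputable section

universe u

open CategoryTheory MonoidalCategory CartesianMonoidalCategory AlgebraicGeometry WithConv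
open scoped MonObj TensorProduct
open CoactBr (sp pt)

namespace Groth.Agent.ObsLib

open BorelLib BlowRegLib

attribute [-instance] CategoryTheory.Hom.commGroup
attribute [local instance] pTop pTopTensor

variable {k : Type u} [Field k] [IsAlgClosed k] {A : Type u} [CommRing A] [HopfAlgebra k A] [Algebra.FiniteType k A]
  [_root_.IsReduced A] {R : Type u} [CommRing R] [Algebra k R]

/-- Evaluation at a point. -/
def evR (x : Pt k A) : A ⊗[k] R →ₐ[k] R :=
  Algebra.TensorProduct.lift ((Algebra.ofId k R).comp x.ofConv) (AlgHom.id k R) fun _ _ => Commute.all _ _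

@[simp] lemma evR_tmul (x : Pt k A) (a : A) (r : R) : evR x (a ⊗ₜ r) = x.ofConv a • r := by
  rw [evR, Algebra.TensorProduct.lift_tmul, Algebra.smul_def]
  rfl

lemma lid_Wmap_eq (x : Pt k A) (z : A ⊗[k] R) : TensorProduct.lid k R (VecGrp.Wmap x.ofConv z) = evR x z := by
  induction z using TensorProduct.induction_on with
  | zero => simp
  | add a c ha hc => simp only [map_add, ha, hc]
  | tmul a c => simp

lemma evR_ext {z z' : A ⊗[k] R} (h : ∀ x : Pt k A, evR x z = evR x z') : z = z' :=
  tens_ext fun x => (TensorProduct.lid k R).injective (by rw [lid_Wmap_eq, lid_Wmap_eq]; exact h x)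

variable {G : Over (Spec (CommRingCat.of k))} [GrpObj G] (v : sp k A ≅ G) [IsMonHom v.hom]

/-- The universal value of an action on an algebra. -/
def uvalAlg (m : VecGrp.GMod G R) (hm : m.IsMult) : R →ₐ[k] A ⊗[k] R :=
  AlgHom.ofLinearMap (uval v m) (by
      show m.ρ A (gpt v (AlgHom.id k A)) ((1 : A) ⊗ₜ[k] (1 : R)) = 1
      exact (hm A _).2)
    fun a b => by
      show m.ρ A (gpt v (AlgHom.id k A)) ((1 : A) ⊗ₜ[k] (a * b)) =
        m.ρ A (gpt v (AlgHom.id k A)) ((1 : A) ⊗ₜ[k] a) * m.ρ A (gpt v (AlgHom.id k A)) ((1 : A) ⊗ₜ[k] b)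
      rw [← (hm A _).1, Algebra.TensorProduct.tmul_mul_tmul, _root_.one_mul]

lemma evR_uvalAlg (m : VecGrp.GMod G R) (hm : m.IsMult) (x : Pt k A) (u : R) :
    evR x (uvalAlg v m hm u) = (toRep v m).ρ x u := (lid_Wmap_eq x _).symm

/-- An action on an algebra from a universal formula. -/
theorem exists_algMod (δ : R →ₐ[k] A ⊗[k] R) (h1 : ∀ u, evR 1 (δ u) = u)
    (hmul : ∀ x y u, evR (x * y) (δ u) = evR x (δ (evR y (δ u)))) :
    ∃ m : VecGrp.GMod G R, m.IsMult ∧ ∀ x u, (toRep v m).ρ x u = evR x (δ u) := by
  let δ' : R →ₗ[k] R ⊗[k] A := (TensorProduct.comm k A R).toLinearMap ∘ₗ δ.toLinearMap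
  haveI := finiteType_tensor (k := k) (R := A) (R' := A)
  haveI : _root_.IsReduced (A ⊗[k] A) := isReduced_tensor (k := k)
  have hco : Groth.Agent.S6094.IsCoaction δ' := by
    refine ⟨LinearMap.ext fun u => ?_, LinearMap.ext fun u => ?_⟩
    · refine (TensorProduct.comm k R (A ⊗[k] A)).injective (tens_ext fun P => ?_)
      obtain ⟨x, y, rfl⟩ : ∃ x y : Pt k A, P = pair x y := ⟨fstP P, sndP P, (pair_fstP_sndP P).symm⟩
      refine (TensorProduct.lid k R).injective ?_
      have e1 : ∀ z : R ⊗[k] A, TensorProduct.lid k R (VecGrp.Wmap (pair x y).ofConv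
          (TensorProduct.comm k R (A ⊗[k] A) (TensorProduct.assoc k R A A (δ'.rTensor A z)))) =
            evR x (δ (evR y (TensorProduct.comm k R A z))) := fun z => by
        induction z using TensorProduct.induction_on with
        | zero => simp
        | add a c ha hc => simp only [map_add, ha, hc]
        | tmul r a =>
          simp only [LinearMap.rTensor_tmul, δ', LinearMap.coe_comp, Function.comp_apply, LinearEquiv.coe_coe,
            AlgHom.toLinearMap_apply, TensorProduct.comm_tmul, evR_tmul, map_smul]
          generalize δ r = t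
          induction t using TensorProduct.induction_on with
          | zero => simp
          | add p q hp hq => simp only [map_add, TensorProduct.add_tmul, hp, hq, smul_add]
          | tmul p q =>
            simp only [TensorProduct.comm_tmul, TensorProduct.assoc_tmul, VecGrp.Wmap_tmul, TensorProduct.lid_tmul,
              pair_tmul, evR_tmul, smul_smul, mul_comm]
      have e2 : ∀ z : R ⊗[k] A, TensorProduct.lid k R (VecGrp.Wmap (pair x y).ofConv
          (TensorProduct.comm k R (A ⊗[k] A) ((CoalgebraStruct.comul (R := k) (A := A)).lTensor R z))) =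
            evR (x * y) (TensorProduct.comm k R A z) := fun z => by
        induction z using TensorProduct.induction_on with
        | zero => simp
        | add a c ha hc => simp only [map_add, ha, hc]
        | tmul r a =>
          simp only [LinearMap.lTensor_tmul, TensorProduct.comm_tmul, evR_tmul, VecGrp.Wmap_tmul,
            TensorProduct.lid_tmul, mul_ofConv]
      have e3 : ∀ u, TensorProduct.comm k R A (δ' u) = δ u := fun u =>
        (TensorProduct.comm k A R).symm_apply_apply (δ u)
      simp only [LinearMap.coe_comp, Function.comp_apply, LinearEquiv.coe_coe]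
      rw [e1, e2, e3, hmul]
    · refine (TensorProduct.rid k R).injective ?_
      simp only [LinearMap.coe_comp, Function.comp_apply, LinearMap.flip_apply, TensorProduct.mk_apply,
        TensorProduct.rid_tmul, one_smul]
      refine Eq.trans ?_ (h1 u)
      simp only [δ', LinearMap.coe_comp, Function.comp_apply, LinearEquiv.coe_coe, AlgHom.toLinearMap_apply]
      generalize δ u = t
      induction t using TensorProduct.induction_on with
      | zero => simp
      | add p q hp hq => simp only [map_add, hp, hq]
      | tmul p q => simp [AlgHom.convOne_apply]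
  let m₀ := Groth.Agent.S6094.toGMod hco
  let m : VecGrp.GMod G R :=
    { ρ := fun C _ _ => (m₀.ρ C).comp
        (MonoidHom.mk' (fun g : VecGrp.pt k C ⟶ G => g ≫ v.inv) fun g g' => MonObj.mul_comp g g' v.inv)
      naturality := fun φ g x => by
        show VecGrp.Wmap φ (m₀.ρ _ (g ≫ v.inv) x) = m₀.ρ _ ((VecGrp.ptMap φ ≫ g) ≫ v.inv) _
        rw [Category.assoc]
        exact m₀.naturality φ _ x }
  have hρ : ∀ (C : Type u) [CommRing C] [Algebra k C] (ψ : A →ₐ[k] C) (z : C ⊗[k] R),
      m.ρ C (gpt v ψ) z = Groth.Agent.S6094.act δ' ψ z := by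
    intro C _ _ ψ z
    show Groth.Agent.S6094.act δ' (Groth.Agent.S6094.algOf (gpt v ψ ≫ v.inv)).ofConv z = _
    rw [show gpt v ψ ≫ v.inv = Groth.Agent.S6094.ptOf (toConv ψ) by
      show (pt ψ ≫ v.hom) ≫ v.inv = _
      rw [Category.assoc, v.hom_inv_id, Category.comp_id]
      rfl, Groth.Agent.S6094.algOf_ptOf]
  have hev : ∀ (C : Type u) [CommRing C] [Algebra k C] (ψ : A →ₐ[k] C) (u : R),
      Groth.Agent.S6094.evalAt ψ (δ' u) = Algebra.TensorProduct.map ψ (AlgHom.id k R) (δ u) := by
    intro C _ _ ψ u
    simp only [δ', LinearMap.coe_comp, Function.comp_apply, LinearEquiv.coe_coe, AlgHom.toLinearMap_apply]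
    generalize δ u = t
    induction t using TensorProduct.induction_on with
    | zero => simp
    | add p q hp hq => simp only [map_add, hp, hq]
    | tmul p q => simp
  refine ⟨m, fun C _ _ g => ?_, fun x u => ?_⟩
  · obtain ⟨ψ, rfl⟩ := exists_gpt v g
    let M : C ⊗[k] R →ₐ[k] C ⊗[k] R := Algebra.TensorProduct.lift Algebra.TensorProduct.includeLeft
      ((Algebra.TensorProduct.map ψ (AlgHom.id k R)).comp δ) fun _ _ => Commute.all _ _
    have hM : ∀ z, m.ρ C (gpt v ψ) z = M z := fun z => by
      rw [hρ]
      induction z using TensorProduct.induction_on with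
      | zero => simp
      | add a c ha hc => simp only [map_add, ha, hc]
      | tmul c r =>
        rw [Groth.Agent.S6094.act_tmul, hev, show M (c ⊗ₜ[k] r) = (c ⊗ₜ[k] (1 : R)) *
          Algebra.TensorProduct.map ψ (AlgHom.id k R) (δ r) from Algebra.TensorProduct.lift_tmul _ _ _ _ _]
        generalize Algebra.TensorProduct.map ψ (AlgHom.id k R) (δ r) = t
        induction t using TensorProduct.induction_on with
        | zero => simp
        | add p q hp hq => simp only [smul_add, mul_add, hp, hq]
        | tmul p q => simp [TensorProduct.smul_tmul']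
    exact ⟨fun a b => by rw [hM, hM, hM, map_mul], by rw [hM, map_one]⟩
  · refine (TensorProduct.lid k R).symm.injective ?_
    show (1 : k) ⊗ₜ[k] (toRep v m).ρ x u = (1 : k) ⊗ₜ[k] evR x (δ u)
    rw [← rho_ptk, ← lid_Wmap_eq, ptk, hρ, Groth.Agent.S6094.act_tmul, one_smul, hev]
    exact ((TensorProduct.lid k R).symm_apply_apply _).symm

/-- The translation action on functions. -/
theorem exists_rTMod : ∃ m : VecGrp.GMod G A, m.IsMult ∧ ∀ x u, (toRep v m).ρ x u = rT x u := by
  let δ : A →ₐ[k] A ⊗[k] A := (Algebra.TensorProduct.comm k A A).toAlgHom.comp (Bialgebra.comulAlgHom k A)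
  have hδ : ∀ (x : Pt k A) (u : A), evR x (δ u) = rT x u := fun x u => by
    refine ext_pts (k := k) fun y => ?_
    rw [eval_rT, mul_ofConv]
    simp only [δ, AlgHom.coe_comp, Function.comp_apply, Bialgebra.comulAlgHom_apply]
    generalize CoalgebraStruct.comul (R := k) u = t
    induction t using TensorProduct.induction_on with
    | zero => simp
    | add p q hp hq => simp only [map_add, hp, hq]
    | tmul p q => simp [mul_comm]
  obtain ⟨m, hm, hρ⟩ := exists_algMod v δ (fun u => by rw [hδ, rT_one]; rfl)
    (fun x y u => by rw [hδ, hδ, hδ, rT_mul]; rfl)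
  exact ⟨m, hm, fun x u => by rw [hρ, hδ]⟩

end Groth.Agent.ObsLib

end
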