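import Groth.Agent.ObsLib.Transfer

/-!
# Stability over all test algebras from stability on points
-/

set_option autoImplicit false
set_option linter.style.haveILetI false
set_option linter.unusedSectionVars false
set_option backward.isDefEq.respectTransparency false
set_option backward.isDefEq.respectTransparency.types false
set_option maxHeartbeats 1000000
set_option synthInstance.maxHeartbeats 400000

noncomputable section

universe u

open CategoryTheory MonoidalCategory CartesianMonoidalCategory AlgebraicGeometry WithConv
open scoped MonObj TensorProduct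
open CoactBr (sp pt)

namespace Groth.Agent.ObsLib

open BorelLib BlowRegLib

attribute [-instance] CategoryTheory.Hom.commGroup
attribute [local instance] pTop pTopTensor

variable {k : Type u} [Field k] [IsAlgClosed k] {A : Type u} [CommRing A] [HopfAlgebra k A] [Algebra.FiniteType k A]
  [_root_.IsReduced A] {G : Over (Spec (CommRingCat.of k))} [GrpObj G] (v : sp k A ≅ G) [IsMonHom v.hom]
  {V : Type u} [AddCommGroup V] [Module k V]

/-- The identity as a map of coordinate rings. -/
lemma hom_comp_id : v.hom ≫ 𝟙 G = gpt v (AlgHom.id k A) := by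
  rw [gpt, Category.comp_id, show pt (AlgHom.id k A) = 𝟙 _ from ?_]
  · exact (Category.id_comp _).symm
  refine Over.OverMorphism.ext ?_
  show Spec.map (CommRingCat.ofHom (AlgHom.id k A).toRingHom) = 𝟙 _
  exact Spec.map_id _

/-- Being fixed by a whole group is checked on points. -/
lemma fixedUnder_id_iff (m : VecGrp.GMod G V) (u : V) :
    u ∈ m.fixedUnder (𝟙 G) ↔ ∀ x : Pt k A, (toRep v m).ρ x u = u :=
  (fixedUnder_iff v v (hom_comp_id v) m u).trans (forall_congr' fun _ => Iff.rfl)

/-- Stability is checked on points. -/
theorem isStable_of_pts (m : VecGrp.GMod G V) {W : Submodule k V}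
    (hW : ∀ (x : Pt k A), ∀ u ∈ W, (toRep v m).ρ x u ∈ W) : m.IsStable (𝟙 G) W := by
  intro C _ _ g u hu
  obtain ⟨ψ, rfl⟩ := exists_gpt v g
  rw [Category.comp_id, rho_gpt]
  have hz : W.mkQ.lTensor A (uval v m u) = 0 := by
    refine tens_ext fun x => ?_
    rw [map_zero]
    have e : ∀ t : A ⊗[k] V, TensorProduct.lid k (V ⧸ W) (VecGrp.Wmap x.ofConv (W.mkQ.lTensor A t)) =
        W.mkQ (TensorProduct.lid k V (VecGrp.Wmap x.ofConv t)) := fun t => by
      induction t using TensorProduct.induction_on with
      | zero => simp
      | add a c ha hc => simp only [map_add, ha, hc]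
      | tmul a c => simp
    refine (TensorProduct.lid k (V ⧸ W)).injective ?_
    rw [e, map_zero, Submodule.mkQ_apply, Submodule.Quotient.mk_eq_zero]
    exact hW x u hu
  have hex : Function.Exact (W.subtype.lTensor A) (W.mkQ.lTensor A) :=
    lTensor_exact A (LinearMap.exact_subtype_mkQ W) W.mkQ_surjective
  obtain ⟨z, hz'⟩ := (hex _).1 hz
  rw [← hz']
  clear hz'
  induction z using TensorProduct.induction_on with
  | zero => simp
  | add p q hp hq => rw [map_add, map_add]; exact add_mem hp hq
  | tmul a c =>
    rw [LinearMap.lTensor_tmul, VecGrp.Wmap_tmul]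
    exact Submodule.tmul_mem_baseChange_of_mem _ c.2

end Groth.Agent.ObsLib

end
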