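import Groth.Agent.ObsLib.Index
import Groth.Agent.BorelLib.Perfect
import Groth.Agent.BorelLib.RedQuot
import Groth.Agent.DiagRepLib.Coords

/-!
# Normal subgroups and radicals
-/

set_option autoImplicit false
set_option linter.style.haveILetI false
set_option linter.unusedSectionVars false
set_option maxHeartbeats 1000000

noncomputable section

universe u v w

open WithConv
open scoped TensorProduct commutatorElement

namespace Groth.Agent.ObsLib

open BorelLib

attribute [local instance] pTop pTopTensor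

variable {k : Type u} [Field k] [IsAlgClosed k] {A : Type u} [CommRing A] [HopfAlgebra k A] [Algebra.FiniteType k A]
  [IsReduced A] {S R : Subgroup (Pt k A)}

/-- **Normal subgroups are observable**. -/
theorem obs_of_normal (hR : IsClosed (R : Set (Pt k A))) (hn : ∀ g, conjSub g R ≤ R) : Obs R := by
  classical
  refine CharInv.obs hR ?_
  intro a χ ha h1
  obtain ⟨V, _, _, _, r, v, hv, hwt⟩ := weight_of_semiInv ha h1
  have hmul : ∀ x y : Pt k A, r.ρ (x * y) = r.ρ x * r.ρ y := fun x y => r.map_mul x trivial y trivial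
  let c : Pt k A → Pt k A → k := fun g h => χ (g⁻¹ * h * g)
  have hc : ∀ g, ∀ h ∈ R, r.ρ h (r.ρ g v) = c g h • r.ρ g v := fun g h hh => by
    have hmem : g⁻¹ * h * g ∈ R := hn g⁻¹ ⟨h, hh, by simp⟩
    rw [← map_smul, ← hwt _ hmem, ← Module.End.mul_apply, ← hmul, ← Module.End.mul_apply, ← hmul]
    congr 2
    group
  let P : Set V := {w | ∃ g, w = r.ρ g v ∧ ∃ h ∈ R, c g h ≠ χ h}
  have key : ∀ s : Finset V, (↑s : Set V) ⊆ P →
      ∀ w ∈ Submodule.span k (s : Set V), (∀ h ∈ R, r.ρ h w = χ h • w) → w = 0 := by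
    intro s
    induction s using Finset.induction_on with
    | empty => intro _ w hw _; simpa using hw
    | insert x s hx ih =>
      intro hsub w hw hww
      rw [Finset.coe_insert] at hw hsub
      obtain ⟨t, z, hz, rfl⟩ := Submodule.mem_span_insert.1 hw
      obtain ⟨g, rfl, h₀, hh₀, hne⟩ := hsub (Set.mem_insert _ _)
      have hsP : (↑s : Set V) ⊆ P := fun y hy => hsub (Set.mem_insert_of_mem _ hy)
      -- apply `h₀ - c g h₀`
      have hz' : r.ρ h₀ z - c g h₀ • z ∈ Submodule.span k (s : Set V) := by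
        refine sub_mem ?_ (Submodule.smul_mem _ _ hz)
        clear hww hw
        induction hz using Submodule.span_induction with
        | mem y hy =>
          obtain ⟨g', rfl, -⟩ := hsP hy
          rw [hc g' h₀ hh₀]
          exact Submodule.smul_mem _ _ (Submodule.subset_span hy)
        | zero => simp
        | add y y' _ _ hy hy' => rw [map_add]; exact add_mem hy hy'
        | smul d y _ hy => rw [map_smul]; exact Submodule.smul_mem _ d hy
      have e : (χ h₀ - c g h₀) • (t • r.ρ g v + z) = r.ρ h₀ z - c g h₀ • z := by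
        rw [sub_smul, ← hww h₀ hh₀, map_add, map_smul, hc g h₀ hh₀, smul_add, smul_comm (c g h₀) t]
        abel
      refine ih hsP _ ?_ hww
      exact (Submodule.smul_mem_iff _ (sub_ne_zero.2 (Ne.symm hne))).1 (e ▸ hz')
  have hvP : v ∉ Submodule.span k P := fun hmem => by
    obtain ⟨s, hsP, hvs⟩ := Submodule.mem_span_finite_of_mem_span hmem
    exact hv (key s hsP v hvs hwt)
  obtain ⟨φ, hφ1, hφ0⟩ := Submodule.exists_dual_map_eq_bot_of_notMem hvP inferInstance
  have hφP : ∀ w ∈ P, φ w = 0 := fun w hw => by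
    have : φ w ∈ (Submodule.span k P).map φ := Submodule.mem_map_of_mem (Submodule.subset_span hw)
    rwa [hφ0, Submodule.mem_bot] at this
  -- the eigen functional
  obtain ⟨b₀, hb₀⟩ := r.reg φ v
  simp only at hb₀
  let V₁ : Submodule k V := Submodule.span k (Set.range fun g => r.ρ g v)
  have hV₁ : r.Stable ⊤ V₁ := fun g _ w hw => by
    induction hw using Submodule.span_induction with
    | mem y hy =>
      obtain ⟨g', rfl⟩ := hy
      exact Submodule.subset_span ⟨g * g', by show r.ρ (g * g') v = _; rw [hmul]; rfl⟩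
    | zero => simp
    | add y y' _ _ hy hy' => rw [map_add]; exact add_mem hy hy'
    | smul d y _ hy => rw [map_smul]; exact Submodule.smul_mem _ d hy
  obtain ⟨r₁, hr₁⟩ := r.exists_sub hV₁
  let v₁ : V₁ := ⟨v, Submodule.subset_span ⟨1, by simp [r.map_one]⟩⟩
  let φ₁ : Module.Dual k V₁ := φ ∘ₗ V₁.subtype
  have heig : ∀ h ∈ R, ∀ w ∈ V₁, φ (r.ρ h w) = χ h * φ w := fun h hh w hw => by
    induction hw using Submodule.span_induction with
    | mem y hy =>
      obtain ⟨g, rfl⟩ := hy
      show φ (r.ρ h (r.ρ g v)) = χ h * φ (r.ρ g v)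
      rw [hc g h hh, map_smul, smul_eq_mul]
      by_cases hP : ∃ h' ∈ R, c g h' ≠ χ h'
      · rw [hφP _ ⟨g, rfl, hP⟩, mul_zero, mul_zero]
      · push Not at hP
        rw [hP h hh]
    | zero => simp
    | add y y' _ _ hy hy' => simp only [map_add, hy, hy', mul_add]
    | smul d y _ hy => simp only [map_smul, smul_eq_mul, hy]; ring
  refine semiInv_of_weight r₁.dual (v := φ₁) (fun h0 => hφ1 (LinearMap.congr_fun h0 v₁)) fun h hh => ?_
  refine LinearMap.ext fun w => ?_
  show φ ((r₁.ρ h⁻¹ w : V₁) : V) = (χ h)⁻¹ * φ (w : V)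
  rw [hr₁ _ trivial, heig _ (inv_mem hh) _ w.2, ha.char_inv h1 hh]

/-- A representation with kernel a given observable normal subgroup. -/
theorem Obs.exists_rep_ker (h : Obs R) (hn : ∀ g, conjSub g R ≤ R) :
    ∃ (V : Type u) (_ : AddCommGroup V) (_ : Module k V) (_ : FiniteDimensional k V)
      (r : RegRep (⊤ : Subgroup (Pt k A)) V), ∀ g, g ∈ R ↔ r.ρ g = 1 := by
  classical
  obtain ⟨V, _, _, _, r, v, hv⟩ := h.isVecStab
  let V₁ : Submodule k V := Submodule.span k (Set.range fun g => r.ρ g v)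
  have hmul : ∀ x y : Pt k A, r.ρ (x * y) = r.ρ x * r.ρ y := fun x y => r.map_mul x trivial y trivial
  have hV₁ : r.Stable ⊤ V₁ := fun g _ w hw => by
    induction hw using Submodule.span_induction with
    | mem y hy =>
      obtain ⟨g', rfl⟩ := hy
      exact Submodule.subset_span ⟨g * g', by show r.ρ (g * g') v = _; rw [hmul]; rfl⟩
    | zero => simp
    | add y y' _ _ hy hy' => rw [map_add]; exact add_mem hy hy'
    | smul d y _ hy => rw [map_smul]; exact Submodule.smul_mem _ d hy
  obtain ⟨r₁, hr₁⟩ := r.exists_sub hV₁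
  refine ⟨V₁, inferInstance, inferInstance, inferInstance, r₁, fun g => ⟨fun hg => ?_, fun hg => (hv g).2 ?_⟩⟩
  · refine LinearMap.ext fun w => Subtype.ext ?_
    rw [hr₁ g trivial]
    show r.ρ g (w : V) = (w : V)
    obtain ⟨w, hw⟩ := w
    induction hw using Submodule.span_induction with
    | mem y hy =>
      obtain ⟨x, rfl⟩ := hy
      show r.ρ g (r.ρ x v) = r.ρ x v
      rw [← Module.End.mul_apply, ← hmul, show g * x = x * (x⁻¹ * g * x) by group, hmul, Module.End.mul_apply,
        (hv _).1 (hn x⁻¹ ⟨g, hg, by simp⟩)]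
    | zero => simp
    | add y y' _ _ hy hy' => simp only [map_add, hy, hy']
    | smul d y _ hy => simp only [map_smul, hy]
  · let v₁ : V₁ := ⟨v, Submodule.subset_span ⟨1, by simp [r.map_one]⟩⟩
    have := hr₁ g trivial v₁
    rw [hg] at this
    exact this.symm

omit [IsAlgClosed k] [IsReduced A] in
lemma der_add (H : Subgroup (Pt k A)) (n : ℕ) : ∀ m, der H (n + m) = der (der H n) m
  | 0 => rfl
  | m + 1 => by rw [← Nat.add_assoc, der_succ, der_succ, der_add H n m]

/-- **A connected group is perfect modulo its radical.** -/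
theorem eq_top_of_commutators_rad (hconn : _root_.IsPreconnected (Set.univ : Set (Pt k A)))
    (hR : IsClosed (R : Set (Pt k A))) (hn : ∀ g, conjSub g R ≤ R) (hs : IsSol R)
    (hmax : ∀ J : Subgroup (Pt k A), IsClosed (J : Set (Pt k A)) → _root_.IsPreconnected (J : Set (Pt k A)) →
      (∀ g, conjSub g J ≤ J) → IsSol J → J ≤ R)
    {N : Subgroup (Pt k A)} (hN : IsClosed (N : Set (Pt k A))) (hRN : R ≤ N) (hcomm : ∀ a b : Pt k A, ⁅a, b⁆ ∈ N) :
    N = ⊤ := by
  classical
  obtain ⟨V, _, _, _, r, hr⟩ := (obs_of_normal hR hn).exists_rep_ker hn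
  let b := Module.finBasis k V
  choose e he using fun (i j : Fin (Module.finrank k V)) => r.reg (b.coord i) (b j)
  simp only at he
  let X : Matrix (Fin (Module.finrank k V)) (Fin (Module.finrank k V)) A := Matrix.of e
  have hX : ∀ g : Pt k A, g.ofConv.mapMatrix X = LinearMap.toMatrix b b (r.ρ g) := fun g => by
    ext i j
    rw [LinearMap.toMatrix_apply]
    exact (he i j g).symm
  have hXmul : ∀ g h : Pt k A, (g * h).ofConv.mapMatrix X = g.ofConv.mapMatrix X * h.ofConv.mapMatrix X :=
    fun g h => by rw [hX, hX, hX, r.map_mul g trivial h trivial, LinearMap.toMatrix_mul]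
  have hX1 : (1 : Pt k A).ofConv.mapMatrix X = 1 := by rw [hX, r.map_one, LinearMap.toMatrix_one]
  have hdet : IsUnit X.det := by
    by_contra hnu
    obtain ⟨M, hM, hmem⟩ := exists_max_ideal_of_mem_nonunits hnu
    obtain ⟨x, hx⟩ := exists_toP_eq (k := k) (⟨M, hM.isPrime⟩ : PrimeSpectrum A) hM
    have h0 : x.ofConv X.det = 0 := by
      by_contra h0
      exact ((notMem_toP (x := x) (a := X.det)).2 h0) (hx.symm ▸ hmem)
    rw [AlgHom.map_det] at h0
    have := congrArg Matrix.det (hXmul x x⁻¹)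
    rw [mul_inv_cancel, hX1, Matrix.det_one, Matrix.det_mul, h0, zero_mul] at this
    exact one_ne_zero this
  let Xc := Groth.Agent.DiagRep.glnCoords k (Module.finrank k V)
  obtain ⟨φ, hφ⟩ := Xc.lift X hdet
  have hφX : ∀ g : Pt k A, (pull φ g).ofConv.mapMatrix Xc.X = g.ofConv.mapMatrix X := fun g => by
    show (g.ofConv.comp φ).mapMatrix Xc.X = _
    rw [Groth.Agent.DiagRep.mapMatrix_comp, hφ]
  let F : Pt k A →* Pt k (CoordGrp.GLn (Module.finrank k V) k) := MonoidHom.mk' (pull φ) fun g h =>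
    WithConv.ext (Xc.ext _ _ (by rw [hφX, hXmul, Groth.Agent.DiagRep.GLCoords.conv, hφX, hφX]))
  have hFm : IsMor F := IsMor.pull φ
  have hFker : ∀ g, F g = 1 ↔ g ∈ R := fun g => by
    rw [hr]
    constructor
    · intro h
      apply (LinearMap.toMatrix b b).injective
      rw [LinearMap.toMatrix_one, ← hX, ← hφX, show pull φ g = 1 from h, ← hX1, ← hφX,
        show pull φ (1 : Pt k A) = 1 from map_one F]
    · intro h
      refine WithConv.ext (Xc.ext _ _ ?_)
      show (pull φ g).ofConv.mapMatrix Xc.X = _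
      rw [hφX, hX, h, ← r.map_one, ← hX, ← hφX, show pull φ (1 : Pt k A) = 1 from map_one F]
  haveI : Algebra.FiniteType k (CoordGrp.GLn (Module.finrank k V) k) :=
    haveI : Algebra.FiniteType k (CoordGrp.GLb (Module.finrank k V) k) :=
      inferInstanceAs (Algebra.FiniteType k (MvPolynomial (CoordGrp.GLPoly.Idx (Module.finrank k V)) k))
    Algebra.FiniteType.of_surjective (CoordGrp.GLn.mk (Module.finrank k V) k)
      (Ideal.Quotient.mk_surjective : Function.Surjective (CoordGrp.GLn.mk (Module.finrank k V) k))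
  have hrc : IsClosed (F.range : Set (Pt k (CoordGrp.GLn (Module.finrank k V) k))) := by
    rw [MonoidHom.range_eq_map]
    exact (isClosed_map hFm (by rw [Subgroup.coe_top]; exact isClosed_univ) (by rwa [Subgroup.coe_top])).1
  obtain ⟨B, _, _, j, hB, hB', -, hjind, hjinj, hjr, ψ, hψ, hj⟩ := exists_frame hrc
  haveI := hB; haveI := hB'
  have hker : RingHom.ker ψ.toRingHom ≤ RingHom.ker φ.toRingHom := fun c hc => by
    rw [RingHom.mem_ker] at hc ⊢
    refine eq_zero_of_forall (k := k) fun x => ?_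
    obtain ⟨y, hy⟩ : F x ∈ j.range := hjr.symm ▸ ⟨x, rfl⟩
    have : (F x).ofConv c = 0 := by
      rw [← hy, hj, pull_apply, show ψ c = 0 from hc, map_zero]
    exact this
  let φ' : B →ₐ[k] A := (Ideal.Quotient.liftₐ (RingHom.ker ψ.toRingHom) φ fun c hc => hker hc).comp
    (Ideal.quotientKerAlgEquivOfSurjective hψ).symm.toAlgHom
  have hφ' : ∀ c, φ' (ψ c) = φ c := fun c => by
    show (Ideal.Quotient.liftₐ (RingHom.ker ψ.toRingHom) φ (fun c hc => hker hc))
      ((Ideal.quotientKerAlgEquivOfSurjective hψ).symm (ψ c)) = _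
    erw [show (Ideal.quotientKerAlgEquivOfSurjective hψ).symm (ψ c) = Ideal.Quotient.mk _ c from
      (AlgEquiv.symm_apply_eq _).2 rfl]
    rfl
  have hjf : ∀ x, j (pull φ' x) = F x := fun x => by
    rw [hj]
    refine WithConv.ext (AlgHom.ext fun c => ?_)
    show x.ofConv (φ' (ψ c)) = x.ofConv (φ c)
    rw [hφ']
  let f : Pt k A →* Pt k B := MonoidHom.mk' (pull φ') fun g h => hjinj (by
    rw [hjf, map_mul, map_mul, hjf, hjf])
  have hfm : IsMor f := IsMor.pull φ'
  have hsur : Function.Surjective f := fun y => by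
    obtain ⟨x, hx⟩ : j y ∈ F.range := hjr ▸ ⟨y, rfl⟩
    exact ⟨x, hjinj ((hjf x).trans hx)⟩
  have hfker : ∀ g, f g = 1 ↔ g ∈ R := fun g => by
    rw [← hFker, ← hjf]
    exact ⟨fun h => by rw [show pull φ' g = 1 from h, map_one],
      fun h => hjinj (by rw [map_one]; exact h)⟩
  have hconnB : _root_.IsPreconnected (Set.univ : Set (Pt k B)) := by
    rw [← hsur.range_eq, ← Set.image_univ]
    exact hconn.image _ hfm.continuous.continuousOn
  have hss : IsSSPts k B := by
    intro J hJc hJp hJn hJs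
    have hcc : IsClosed (J.comap f : Set (Pt k A)) := hJc.preimage hfm.continuous
    set M := neut (J.comap f)
    obtain ⟨n, hn'⟩ := hJs
    obtain ⟨m, hm⟩ := hs
    have hMR : M ≤ R := by
      refine hmax M (isClosed_neut hcc) (isPreconnected_neut _) (fun g => le_neut (isPreconnected_conjSub
        (isPreconnected_neut _)) ((conjSub_mono (neut_le _)).trans ?_)) ⟨n + m, ?_⟩
      · rintro _ ⟨x, hx, rfl⟩
        exact hJn (f g) ⟨f x, hx, by simp⟩
      · refine le_bot_iff.1 ((der_add M n m).le.trans ((der_mono ?_ m).trans hm.le))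
        intro x hx
        refine (hfker x).1 (Subgroup.mem_bot.1 ?_)
        rw [← hn']
        exact der_mono (Subgroup.map_le_iff_le_comap.2 (neut_le _)) n ((der_map f M n).ge ⟨x, hx, rfl⟩)
    obtain ⟨Fs, -, hFs⟩ := exists_neut_cosets hcc
    refine eq_bot_of_finite hJp ((Fs.finite_toSet.image f).subset fun y hy => ?_)
    obtain ⟨x, rfl⟩ := hsur y
    obtain ⟨r', hr', hrx⟩ := hFs x hy
    refine ⟨r', hr', ?_⟩
    have := (hfker _).2 (hMR hrx)
    rwa [map_mul, map_inv, inv_mul_eq_one] at this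
  have hfN : IsClosed (N.map f : Set (Pt k B)) := by
    obtain ⟨Fs, hFsN, hFs⟩ := exists_neut_cosets hN
    have hc := (isClosed_map hfm (isClosed_neut hN) (isPreconnected_neut N)).1
    have e : (N.map f : Set (Pt k B)) = ⋃ r ∈ Fs, (fun y => (f r)⁻¹ * y) ⁻¹' ((neut N).map f : Set (Pt k B)) := by
      ext y
      simp only [Set.mem_iUnion, Set.mem_preimage, SetLike.mem_coe]
      constructor
      · rintro ⟨x, hx, rfl⟩
        obtain ⟨r', hr', hrx⟩ := hFs x hx
        exact ⟨r', hr', _, hrx, by rw [map_mul, map_inv]⟩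
      · rintro ⟨r', hr', z, hz, hzy⟩
        exact ⟨r' * z, N.mul_mem (hFsN _ hr') (neut_le _ hz), by rw [map_mul, hzy, mul_inv_cancel_left]⟩
    rw [e]
    exact isClosed_biUnion_finset fun r' _ => hc.preimage (BorelLib.continuous_const_mul _)
  have htop : N.map f = ⊤ := hss.eq_top_of_commutators hconnB hfN fun a b => by
    obtain ⟨a, rfl⟩ := hsur a
    obtain ⟨b, rfl⟩ := hsur b
    exact ⟨⁅a, b⁆, hcomm a b, map_commutatorElement f a b⟩
  refine top_le_iff.1 fun g _ => ?_
  obtain ⟨x, hx, hxg⟩ : f g ∈ N.map f := htop ▸ Subgroup.mem_top _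
  have : x⁻¹ * g ∈ R := (hfker _).1 (by rw [map_mul, map_inv, hxg, inv_mul_cancel])
  have h2 := N.mul_mem hx (hRN this)
  rwa [mul_inv_cancel_left] at h2

/-- Characters of the identity component are trivial once trivial on the radical. -/
theorem char_eq_one_of_rad (hS : IsClosed (S : Set (Pt k A))) (hSp : _root_.IsPreconnected (S : Set (Pt k A)))
    (hRS : R ≤ S) (hR : IsClosed (R : Set (Pt k A))) (hn : ∀ g ∈ S, conjSub g R ≤ R) (hs : IsSol R)
    (hmax : ∀ J : Subgroup (Pt k A), J ≤ S → IsClosed (J : Set (Pt k A)) → _root_.IsPreconnected (J : Set (Pt k A)) →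
      (∀ g ∈ S, conjSub g J ≤ J) → IsSol J → J ≤ R)
    {a : A} {θ : Pt k A → k} (ha : SemiInv S θ a) (h1 : (1 : Pt k A).ofConv a ≠ 0) (hθ : ∀ h ∈ R, θ h = 1) :
    ∀ g ∈ S, θ g = 1 := by
  obtain ⟨B, _, _, f, hB, hB', hfm, hind, hinj, hrange, -, -, -⟩ := exists_frame hS
  haveI := hB; haveI := hB'
  have hfS : ∀ x, f x ∈ S := fun x => hrange ▸ ⟨x, rfl⟩
  have himg : ∀ J : Subgroup (Pt k B), (J.map f : Set (Pt k A)) = f '' J := fun J => Subgroup.coe_map f J
  have hcl : ∀ J : Subgroup (Pt k B), IsClosed (J : Set (Pt k B)) → IsClosed (J.map f : Set (Pt k A)) :=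
    fun J hJ => by
      rw [himg]
      obtain ⟨C, hC, hCe⟩ := hind.isClosed_iff.1 hJ
      rw [← hCe, Set.image_preimage_eq_inter_range, ← MonoidHom.coe_range, hrange]
      exact hC.inter hS
  let N : Subgroup (Pt k B) :=
    { carrier := {x | θ (f x) = 1}
      one_mem' := by show θ (f 1) = 1; rw [map_one, ha.char_one h1]
      mul_mem' := fun {x y} hx hy => by
        show θ (f (x * y)) = 1
        rw [map_mul, ha.char_mul h1 (hfS x) (hfS y), show θ (f x) = 1 from hx, show θ (f y) = 1 from hy, one_mul]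
      inv_mem' := fun {x} hx => by
        show θ (f x⁻¹) = 1
        rw [map_inv, ha.char_inv h1 (hfS x), show θ (f x) = 1 from hx, inv_one] }
  have hNc : IsClosed (N : Set (Pt k B)) := by
    have : (N : Set (Pt k B)) = {x | (f x).ofConv a = (1 : Pt k A).ofConv a} := by
      ext x
      show θ (f x) = 1 ↔ (f x).ofConv a = _
      rw [ha.char_eq h1 (hfS x), div_eq_one_iff_eq h1]
    rw [this]
    exact ((IsReg.eval a).comp hfm).isClosed_eq (IsReg.const _)
  have hpre : _root_.IsPreconnected (Set.univ : Set (Pt k B)) := isPreconnected_univ_frame hind (hrange.symm ▸ hSp)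
  have htop : N = ⊤ := by
    refine eq_top_of_commutators_rad (R := R.comap f) hpre (hR.preimage hind.continuous) ?_ ?_ ?_ hNc
      (fun x hx => hθ _ hx) fun x y => ?_
    · rintro g _ ⟨x, hx, rfl⟩
      exact hn (f g) (hfS g) ⟨f x, hx, by simp⟩
    · obtain ⟨n, hn'⟩ := hs
      refine ⟨n, Subgroup.map_injective hinj (le_bot_iff.1 ?_ |>.trans (Subgroup.map_bot f).symm)⟩
      rw [← der_map]
      exact (der_mono (Subgroup.map_comap_le f R) n).trans hn'.le
    · intro J hJc hJp hJn hJs
      rw [← Subgroup.map_le_iff_le_comap]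
      refine hmax _ (by rintro _ ⟨x, -, rfl⟩; exact hfS x) (hcl J hJc)
        (by rw [himg]; exact hJp.image _ hind.continuous.continuousOn) ?_ (hJs.map f)
      intro g hg
      obtain ⟨g, rfl⟩ : g ∈ f.range := hrange.symm ▸ hg
      rintro _ ⟨_, ⟨x, hx, rfl⟩, rfl⟩
      exact ⟨g * x * g⁻¹, hJn g ⟨x, hx, rfl⟩, by simp⟩
    · show θ (f ⁅x, y⁆) = 1
      have hx := hfS x; have hy := hfS y
      have hx0 := ha.char_ne h1 hx
      have hy0 := ha.char_ne h1 hy
      rw [map_commutatorElement, commutatorElement_def,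
        ha.char_mul h1 (S.mul_mem (S.mul_mem hx hy) (inv_mem hx)) (inv_mem hy),
        ha.char_mul h1 (S.mul_mem hx hy) (inv_mem hx), ha.char_mul h1 hx hy, ha.char_inv h1 hx, ha.char_inv h1 hy]
      field_simp
  intro g hg
  obtain ⟨x, rfl⟩ : g ∈ f.range := hrange.symm ▸ hg
  exact (htop ▸ Subgroup.mem_top x : x ∈ N)

/-- **Observability is decided by the radical.** -/
theorem obs_of_rad (hS : IsClosed (S : Set (Pt k A))) (hRS : R ≤ neut S) (hn : ∀ g ∈ neut S, conjSub g R ≤ R)
    (hs : IsSol R)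
    (hmax : ∀ J : Subgroup (Pt k A), J ≤ neut S → IsClosed (J : Set (Pt k A)) →
      _root_.IsPreconnected (J : Set (Pt k A)) → (∀ g ∈ neut S, conjSub g J ≤ J) → IsSol J → J ≤ R)
    (hR : Obs R) : Obs S := by
  classical
  rw [obs_iff_neut hS]
  refine CharInv.obs (isClosed_neut hS) (charInv_of_pow fun a χ ha h1 => ?_)
  obtain ⟨c, hc, hc1⟩ := hR.isVecStab.charInv a χ (fun x h hh => ha x h (hRS hh)) h1
  obtain ⟨U, _, _, _, r, u, hu, hwt⟩ := weight_of_semiInv hc hc1
  let E : Submodule k U :=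
    { carrier := {w | ∀ h ∈ R, r.ρ h w = (χ h)⁻¹ • w}
      zero_mem' := fun h _ => by simp
      add_mem' := fun {p q} hp hq h hh => by rw [map_add, hp h hh, hq h hh, smul_add]
      smul_mem' := fun t p hp h hh => by rw [map_smul, hp h hh, smul_comm] }
  have hE : r.Stable (neut S) E := fun s hs w hw h hh => by
    have hmem : s⁻¹ * h * s ∈ R := hn s⁻¹ (inv_mem hs) ⟨h, hh, by simp⟩
    have hχ : χ (s⁻¹ * h * s) = χ h := by
      rw [ha.char_mul h1 ((neut S).mul_mem (inv_mem hs) (hRS hh)) hs, ha.char_mul h1 (inv_mem hs) (hRS hh),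
        ha.char_inv h1 hs]
      have := ha.char_ne h1 hs
      field_simp
    rw [← r.mul_apply trivial trivial, show h * s = s * (s⁻¹ * h * s) by group, r.mul_apply trivial trivial,
      hw _ hmem, map_smul, hχ]
  let d := Module.finrank k E
  let e : Module.Basis (Fin d) k E := Module.finBasis k E
  let f : Pt k A → Fin d → E := fun h i => if hh : h ∈ neut S then ⟨r.ρ h (e i : U), hE h hh _ (e i).2⟩ else 0
  have hfd : ∀ h ∈ neut S, exteriorPower.ιMulti k d (fun i => r.ρ h (e i : U)) =
      e.det (f h) • exteriorPower.ιMulti k d (fun i => (e i : U)) := fun h hh => by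
    rw [show (fun i => r.ρ h (e i : U)) = fun i => (f h i : U) from funext fun i => by simp only [f, dif_pos hh]]
    exact alternating_eq_det_smul e ((exteriorPower.ιMulti k d).compLinearMap E.subtype) (f h)
  obtain ⟨b, hb, hb1⟩ := semiInv_of_weight (S := neut S) (χ := fun h => e.det (f h)) (extRep d r)
    (ιMulti_ne_zero (e.linearIndependent.map' E.subtype E.ker_subtype))
    (fun h hh => by rw [extRep_ιMulti]; exact hfd h hh)
  obtain ⟨n, hn'⟩ : ∃ n, d = n + 1 := Nat.exists_eq_add_one.2 (by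
    haveI : Nontrivial E := ⟨⟨⟨u, hwt⟩, 0, fun h => hu (congrArg Subtype.val h)⟩⟩
    exact Module.finrank_pos)
  refine ⟨n, b, hb.congr fun g hg => ?_, hb1⟩
  have htriv := char_eq_one_of_rad (R := R) (isClosed_neut hS) (isPreconnected_neut S) hRS hR.isClosed hn hs hmax
    ((ha.pow (n + 1)).mul hb) (by rw [map_mul, map_pow]; exact mul_ne_zero (pow_ne_zero _ h1) hb1) (fun h hh => by
      have hfh : f h = fun i => (χ h)⁻¹ • e i := funext fun i => Subtype.ext (by
        simp only [f, dif_pos (hRS hh)]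
        exact (e i).2 h hh)
      show χ h ^ (n + 1) * e.det (f h) = 1
      rw [hfh, AlternatingMap.map_smul_univ, Module.Basis.det_self, Finset.prod_const, Finset.card_fin, smul_eq_mul,
        mul_one, inv_pow, hn', mul_inv_cancel₀ (pow_ne_zero _ (ha.char_ne h1 (hRS hh)))]) g hg
  exact eq_inv_of_mul_eq_one_right htriv

omit [IsReduced A] in
/-- Unipotent elements have trivial character values. -/
theorem char_uni [IsReduced A] {a : A} {χ : Pt k A → k} (ha : SemiInv S χ a) (h1 : (1 : Pt k A).ofConv a ≠ 0)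
    {g : Pt k A} (hg : g ∈ S) (hu : IsUni g) : χ g = 1 := by
  obtain ⟨V, _, _, _, r, v, hv, hwt⟩ := weight_of_semiInv ha h1
  obtain ⟨N, hN⟩ := hu V r
  have key : ∀ n : ℕ, ((r.ρ g - 1) ^ n) v = (χ g - 1) ^ n • v := by
    intro n
    induction n with
    | zero => simp
    | succ n ih =>
      rw [pow_succ', Module.End.mul_apply, ih, map_smul, LinearMap.sub_apply, Module.End.one_apply, hwt g hg,
        pow_succ, mul_smul, sub_smul, one_smul]
  have := key N
  rw [hN, LinearMap.zero_apply, eq_comm, smul_eq_zero] at this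
  exact sub_eq_zero.1 (pow_eq_zero_iff'.1 (this.resolve_right hv)).1

/-- A subgroup without non-trivial characters is observable. -/
theorem charInv_of_trivial (h : ∀ (a : A) (χ : Pt k A → k), SemiInv S χ a → (1 : Pt k A).ofConv a ≠ 0 →
    ∀ g ∈ S, χ g = 1) : CharInv S := fun a χ ha h1 =>
  ⟨a, ha.congr fun g hg => by rw [h a χ ha h1 g hg, inv_one], h1⟩

end Groth.Agent.ObsLib

end
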