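import Groth.Agent.ObsLib.UFixed
import Groth.Agent.ObsLib.Stable
import Groth.Agent.BorelLib.Facts
import Groth.Agent.BorelLib.RedBridge

/-!
# Maximality of the unipotent radical of a Borel subgroup: A Borel subgroup is generated by a maximal torus and the unipotent radical
-/

set_option autoImplicit false
set_option linter.style.haveILetI false
set_option linter.unusedSectionVars false
set_option backward.isDefEq.respectTransparency false
set_option backward.isDefEq.respectTransparency.types false
set_option maxHeartbeats 2000000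
set_option synthInstance.maxHeartbeats 400000

noncomputable section

universe u

open CategoryTheory MonoidalCategory CartesianMonoidalCategory AlgebraicGeometry WithConv
open scoped MonObj TensorProduct
open CoactBr (sp pt)

namespace Groth.Agent.ObsLib

open BorelLib BlowRegLib

attribute [-instance] CategoryTheory.Hom.commGroup
attribute [local instance] pTop pTopTensor

variable {k : Type u} [Field k] [IsAlgClosed k] {A : Type u} [CommRing A] [HopfAlgebra k A] [Algebra.FiniteType k A]
  [_root_.IsReduced A] {G : Over (Spec (CommRingCat.of k))} [GrpObj G] [IsAffine G.left] [Smooth G.hom]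
  (v : sp k A ≅ G) [IsMonHom v.hom]

/-- A connected unipotent subgroup of a Borel subgroup lies in the unipotent radical. -/
theorem le_uniRad {Bo : Over (Spec (CommRingCat.of k))} [GrpObj Bo] {iB : Bo ⟶ G} [IsMonHom iB]
    (hB : Red.IsBorelOver k iB) {U : Over (Spec (CommRingCat.of k))} [GrpObj U] {u : U ⟶ Bo}
    (hU : Par.IsUnipotentRadical u) [IsMonHom (u ≫ iB)] {H : Subgroup (Pt k A)} (hle : H ≤ ptsSub v iB)
    (hHp : _root_.IsPreconnected (H : Set (Pt k A))) (hHu : ∀ x ∈ H, IsUni x) : H ≤ ptsSub v (u ≫ iB) := by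
  classical
  obtain ⟨-, hBc, hBsm, hBconn, hBsol, -⟩ := id hB
  haveI := hBc; haveI := hBsm; haveI := hBconn
  haveI : IsAffine Bo.left := isAffine_of_isAffineHom iB.left
  haveI : QuasiCompact G.hom := inferInstance
  set K := ptsSub v iB with hKdef
  have hKc : IsClosed (K : Set (Pt k A)) := isClosed_ptsSub v
  have hKp : _root_.IsPreconnected (K : Set (Pt k A)) := isPreconnected_ptsSub v
  have hKs : IsSol K := isSol_ptsSub v hBsol
  obtain ⟨D, hD⟩ := exists_flag_uni hKc hKp hKs
  obtain ⟨S, hSK, hS, -, hdec, -⟩ := D.exists_torus_decomp hKc hKp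
  -- the connected unipotent part lies in the radical
  obtain ⟨N, _, n, hn, hnc, hnsm, hnpts, hnconn, -⟩ := exists_scheme_sub v (isClosed_neut (D.isClosed_U hKc 1))
  haveI := hn; haveI := hnc; haveI := hnsm
  haveI := hnconn (isPreconnected_neut _)
  haveI : IsAffine N.left := isAffine_of_isAffineHom n.left
  haveI : AlgebraicGeometry.IsReduced N.left := AlgSpLib.isReduced_of_smooth N.hom
  have hnK : ptsSub v n ≤ K := hnpts ▸ (neut_le _).trans fun x hx => ((hD x).1 hx).1
  obtain ⟨f, hf⟩ := exists_factor_of_le v (i := n) (i' := iB) hnK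
  haveI : Mono iB := DiagRep.mono_of_isClosedImmersion iB inferInstance
  haveI : IsMonHom f :=
    { one_hom := (cancel_mono iB).1 (by rw [Category.assoc, hf, IsMonHom.one_hom, IsMonHom.one_hom])
      mul_hom := (cancel_mono iB).1 (by
        rw [Category.assoc, hf, IsMonHom.mul_hom, Category.assoc, IsMonHom.mul_hom (f := iB), ← Category.assoc,
          tensorHom_comp_tensorHom, hf]) }
  haveI : IsClosedImmersion (f.left ≫ iB.left) := by rw [← Over.comp_left, hf]; infer_instance
  haveI : IsClosedImmersion f.left := IsClosedImmersion.of_comp f.left iB.left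
  obtain ⟨C, _, _, w, hw, π, -, hC, hC', hπ, hsur⟩ := exists_sub_data v iB
  haveI := hw; haveI := hC; haveI := hC'
  have hNle : ptsSub v n ≤ ptsSub v (u ≫ iB) := by
    have hnorm : ∀ g, conjSub g (ptsSub w f) ≤ ptsSub w f := fun g => by
      rintro _ ⟨x, hx, rfl⟩
      rw [← comap_ptsSub v w hπ hsur (l := f)] at hx ⊢
      simp only [Subgroup.mem_comap] at hx ⊢
      have hpt : ptsSub v (f ≫ iB) = ptsSub v n := by simp only [hf]
      have hx' : subHom v w hπ x ∈ neut (D.U 1) := by rw [← hnpts, ← hpt]; exact hx
      have hgK : subHom v w hπ g ∈ K := pull_mem v w hπ g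
      show subHom v w hπ (g * x * g⁻¹) ∈ ptsSub v (f ≫ iB)
      rw [hpt, hnpts]; simp only [map_mul, map_inv]
      have hsubset : conjSub (subHom v w hπ g) (neut (D.U 1)) ≤ neut (D.U 1) :=
        le_neut (isPreconnected_conjSub (isPreconnected_neut _)) ((conjSub_mono (neut_le _)).trans (by
          rintro _ ⟨y, hy, rfl⟩
          exact D.conj_mem_U hgK hy))
      exact hsubset ⟨_, hx', rfl⟩
    have hno : Red.HasNoSubtorus k N := hasNoSubtorus_of_uni v n fun x hx => by
      rw [hnpts] at hx
      exact ((hD x).1 (neut_le _ hx)).2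
    obtain ⟨-, -, -, -, -, -, humax⟩ := hU
    obtain ⟨l, hl⟩ := humax N f inferInstance (isNormalHom_of_pts w hnorm) hnsm inferInstance
      fun s => ⟨(geom_facts s N).2.2, hasNoSubtorus_geom s hno⟩
    exact ptsSub_le_of_factor v (f := l) (by rw [← Category.assoc, hl, hf])
  exact fun x hx => hNle (hnpts.symm ▸ le_neut hHp (fun y hy => (hD y).2 ⟨hle hy, hHu y hy⟩) hx)

end Groth.Agent.ObsLib

end
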