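import Groth.Agent.ObsLib.UniFG
import Groth.Agent.ObsLib.UniMax

/-!
# Invariants of subgroups containing a maximal unipotent subgroup
-/

set_option autoImplicit false
set_option linter.style.haveILetI false
set_option linter.unusedSectionVars false
set_option backward.isDefEq.respectTransparency false
set_option backward.isDefEq.respectTransparency.types false
set_option maxHeartbeats 2000000
set_option synthInstance.maxHeartbeats 400000

noncomputable section

universe u

open CategoryTheory MonoidalCategory CartesianMonoidalCategory AlgebraicGeometry WithConv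
open scoped MonObj TensorProduct
open CoactBr (sp pt)

namespace Groth.Agent.ObsLib

open BorelLib BlowRegLib

attribute [-instance] CategoryTheory.Hom.commGroup
attribute [local instance] pTop pTopTensor

variable {k : Type u} [Field k] [IsAlgClosed k] {A : Type u} [CommRing A] [HopfAlgebra k A] [Algebra.FiniteType k A]
  [_root_.IsReduced A]

/-- **Invariants of a torus in a finitely generated algebra of invariants of a normalised subgroup.** -/
theorem fg_invAlg_torus {U S M : Subgroup (Pt k A)} (hfg : (invAlg U).FG) (hS : IsTor S)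
    (hnorm : ∀ s ∈ S, ∀ u ∈ U, s * u * s⁻¹ ∈ U) (hM : ∀ a : A, Inv M a ↔ Inv U a ∧ Inv S a) :
    (invAlg M).FG := by
  classical
  obtain ⟨G', hG'⟩ := hfg
  let E : Set A := {b : A | Inv U b ∧ ∃ χ : Pt k A → k, SemiInv S χ b}
  have hsub : ∀ g ∈ G', ∃ s : Finset A, ↑s ⊆ E ∧ g ∈ Submodule.span k (↑s : Set A) := fun g hg =>
    Submodule.mem_span_finite_of_mem_span (mem_span_semiInv hS hnorm
      (show g ∈ invAlg U from hG' ▸ Algebra.subset_adjoin hg))
  choose T hTE hTspan using hsub
  let V : Finset A := (G'.attach.biUnion fun g => T g.1 g.2).filter fun v => v ≠ 0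
  have hVE : ∀ v ∈ V, v ∈ E ∧ v ≠ 0 := fun v hv => by
    obtain ⟨g, -, hg⟩ := Finset.mem_biUnion.1 (Finset.mem_filter.1 hv).1
    exact ⟨hTE _ _ hg, (Finset.mem_filter.1 hv).2⟩
  have hgen : invAlg U ≤ Algebra.adjoin k (↑V : Set A) := by
    rw [← hG']
    refine Algebra.adjoin_le fun g hg => ?_
    have h : (↑(T g hg) : Set A) ⊆ Submodule.span k (↑V : Set A) := fun v hv => by
      by_cases h0 : v = 0
      · rw [h0]; exact zero_mem _
      · exact Submodule.subset_span (Finset.mem_coe.2 (Finset.mem_filter.2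
          ⟨Finset.mem_biUnion.2 ⟨⟨g, hg⟩, Finset.mem_attach _ _, hv⟩, h0⟩))
    exact Algebra.span_le_adjoin k _ (Submodule.span_le.2 h (hTspan g hg))
  -- weights in the lattice
  obtain ⟨C, _, _, f, hft, hred, hfm, hind, hinj, hrange, φ, hφs, hfφ⟩ := exists_frame hS.closed
  haveI := hft; haveI := hred
  have hc : ∀ x y : Pt k C, x * y = y * x := fun x y => hinj (by
    rw [map_mul, map_mul]; exact hS.comm _ (hrange ▸ ⟨x, rfl⟩) _ (hrange ▸ ⟨y, rfl⟩))
  have hconn : _root_.IsPreconnected (Set.univ : Set (Pt k C)) :=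
    isPreconnected_univ_frame hind (hrange.symm ▸ hS.conn)
  have hD : (Set.univ : Set (Pt k C)) ⊆ closure {x | IsPT x} := fun x _ => by
    rw [hind.closure_eq_preimage_closure_image]
    refine closure_mono ?_ (hS.dense (hrange ▸ ⟨x, rfl⟩ : f x ∈ S))
    rintro y ⟨hy, hyt⟩
    rw [← hrange] at hy
    obtain ⟨z, rfl⟩ := hy
    exact ⟨z, hyt.of_map hinj, rfl⟩
  obtain ⟨n, ⟨E'⟩⟩ := exists_glBasis hc hconn hD
  haveI : IsDomain C := isDomain_of_connected hconn
  have hmem : ∀ y, f y ∈ S := fun y => hrange ▸ ⟨y, rfl⟩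
  have hex : ∀ v ∈ V, ∃ m, ∀ (x : Pt k A) (y : Pt k C), (x * f y).ofConv v = y.ofConv (E'.e m) * x.ofConv v := by
    intro v hv
    obtain ⟨⟨-, χ, hχ⟩, hv0⟩ := hVE v hv
    obtain ⟨x₀, hx₀⟩ : ∃ x₀ : Pt k A, x₀.ofConv v ≠ 0 := by
      by_contra! h
      exact hv0 (eq_zero_of_forall (k := k) h)
    have h1 : (1 : Pt k A).ofConv (lT x₀ v) ≠ 0 := by rwa [eval_lT, mul_one]
    have hχ' : SemiInv S χ (lT x₀ v) := hχ.lT x₀
    have hval : ∀ y : Pt k C, χ (f y) = y.ofConv (φ (((1 : Pt k A).ofConv (lT x₀ v))⁻¹ • lT x₀ v)) := fun y => by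
      rw [hχ'.char_eq h1 (hmem y), map_smul, map_smul, smul_eq_mul, inv_mul_eq_div, hfφ]
      rfl
    have hg : IsGroupLikeElem k (φ (((1 : Pt k A).ofConv (lT x₀ v))⁻¹ • lT x₀ v)) := by
      refine isGroupLikeElem_of_mult (by rw [← hval, map_one, hχ'.char_one h1]) fun x y => ?_
      rw [← hval, ← hval, ← hval, map_mul, hχ'.char_mul h1 (hmem x) (hmem y)]
    obtain ⟨m, hm⟩ := exists_glBasis_eq E' hg
    exact ⟨m, fun x y => by rw [hχ x _ (hmem y), hval, hm]⟩
  choose m hm using hex
  -- exponents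
  let wt : (V → ℕ) →+ (Fin n → ℤ) :=
    { toFun := fun a => ∑ v : V, (a v : ℤ) • m v.1 v.2
      map_zero' := by simp
      map_add' := fun a b => by simp [add_smul, Finset.sum_add_distrib] }
  let mon : (V → ℕ) → A := fun a => ∏ v : V, (v : A) ^ a v
  have hmon : ∀ a x y, (x * f y).ofConv (mon a) = y.ofConv (E'.e (wt a)) * x.ofConv (mon a) := fun a x y => by
    have key : ∀ (s : Finset V), (x * f y).ofConv (∏ v ∈ s, (v : A) ^ a v) =
        y.ofConv (E'.e (∑ v ∈ s, (a v : ℤ) • m v.1 v.2)) * x.ofConv (∏ v ∈ s, (v : A) ^ a v) := fun s => by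
      induction s using Finset.induction_on with
      | empty => simp [E'.e_zero]
      | insert v s hv ih =>
        rw [Finset.prod_insert hv, Finset.sum_insert hv, map_mul, map_mul, ih, map_pow, hm v.1 v.2, mul_pow,
          ← E'.e_mul, map_mul, map_pow]
        have hp : ∀ l : ℕ, (y.ofConv (E'.e (m v.1 v.2))) ^ l = y.ofConv (E'.e ((l : ℤ) • m v.1 v.2)) := fun l => by
          induction l with
          | zero => simp [E'.e_zero]
          | succ l ihl => rw [pow_succ, ihl, ← map_mul, E'.e_mul, Nat.cast_succ, add_smul, one_smul]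
        rw [hp]
        ring
    exact key _
  -- Dickson
  let Ker : Set (V → ℕ) := {a | a ≠ 0 ∧ wt a = 0}
  let Mins : Set (V → ℕ) := {x | Minimal (· ∈ Ker) x}
  have hanti : IsAntichain (· ≤ ·) Mins := fun x hx y hy hne hle => hne (le_antisymm hle (hy.2 hx.1 hle))
  have hfin : Mins.Finite := hanti.finite_of_wellQuasiOrdered wellQuasiOrdered_le
  have hmons : ∀ a, wt a = 0 → mon a ∈ Algebra.adjoin k (mon '' Mins) := by
    intro a
    induction a using WellFoundedLT.induction with
    | _ a ih =>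
      intro ha
      by_cases ha0 : a = 0
      · simp only [mon, ha0, Pi.zero_apply, pow_zero, Finset.prod_const_one]
        exact one_mem _
      obtain ⟨g, ⟨hgK, hga⟩, hgmin⟩ := (wellFounded_lt (α := V → ℕ)).has_min {y | y ∈ Ker ∧ y ≤ a}
        ⟨a, ⟨ha0, ha⟩, le_rfl⟩
      have hg : g ∈ Mins := ⟨hgK, fun y hy hyg => by
        by_contra hne
        exact hgmin y ⟨hy, hyg.trans hga⟩ (lt_of_le_not_ge hyg hne)⟩
      have hsum : g + (a - g) = a := funext fun v => Nat.add_sub_cancel' (hga v)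
      have hlt : a - g < a := lt_of_le_of_ne (fun v => Nat.sub_le _ _) fun e => hgK.1 (funext fun v => by
        have h1 := congrFun e v
        have h2 : g v ≤ a v := hga v
        simp only [Pi.sub_apply] at h1
        show g v = 0
        omega)
      have h0 : wt (a - g) = 0 := by
        have h := congrArg wt hsum
        rwa [map_add, hgK.2, zero_add, ha] at h
      have hmul : mon a = mon g * mon (a - g) := by
        rw [← Finset.prod_mul_distrib]
        exact Finset.prod_congr rfl fun v _ => by rw [← pow_add, ← Pi.add_apply, hsum]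
      rw [hmul]
      exact mul_mem (Algebra.subset_adjoin ⟨g, hg, rfl⟩) (ih _ hlt h0)
  refine ⟨hfin.toFinset.image mon, le_antisymm (Algebra.adjoin_le fun b hb => ?_) fun a ha => ?_⟩
  · obtain ⟨e, he, rfl⟩ := Finset.mem_image.1 (Finset.mem_coe.1 hb)
    refine (hM _).2 ⟨?_, fun x g hg => ?_⟩
    · exact (invAlg U).prod_mem fun v _ => pow_mem (show (v : A) ∈ invAlg U from (hVE v.1 v.2).1.1) _
    · obtain ⟨y, rfl⟩ := (hrange.symm ▸ hg : g ∈ f.range)
      rw [hmon, (hfin.mem_toFinset.1 he).1.2, E'.e_zero, map_one, one_mul]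
  obtain ⟨haU, haS⟩ := (hM a).1 ha
  rw [Finset.coe_image, hfin.coe_toFinset]
  have hspan : a ∈ Submodule.span k (Set.range mon) := by
    have h1 : a ∈ Subalgebra.toSubmodule (Algebra.adjoin k (↑V : Set A)) := hgen haU
    rw [Algebra.adjoin_eq_span] at h1
    refine Submodule.span_mono ?_ h1
    intro b hb
    induction hb using Submonoid.closure_induction with
    | mem b hb =>
      refine ⟨Pi.single ⟨b, hb⟩ 1, ?_⟩
      show ∏ v : V, (v : A) ^ (Pi.single (⟨b, hb⟩ : V) 1 : V → ℕ) v = b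
      rw [Finset.prod_eq_single (⟨b, hb⟩ : V) (fun w _ hw => by rw [Pi.single_eq_of_ne hw, pow_zero])
        (fun h => absurd (Finset.mem_univ _) h), Pi.single_eq_same, pow_one]
    | one => exact ⟨0, by simp [mon]⟩
    | mul p q _ _ hp hq =>
      obtain ⟨a', rfl⟩ := hp
      obtain ⟨b', rfl⟩ := hq
      exact ⟨a' + b', by simp [mon, pow_add, Finset.prod_mul_distrib]⟩
  obtain ⟨c, hc⟩ := Finsupp.mem_span_range_iff_exists_finsupp.1 hspan
  have hzero : a = ∑ e ∈ c.support.filter (fun e => wt e = 0), c e • mon e := by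
    refine ext_pts (k := k) fun x => ?_
    have key : ∀ y : Pt k C, y.ofConv (∑ e ∈ c.support, (c e * x.ofConv (mon e)) • E'.e (wt e)) =
        y.ofConv (x.ofConv a • E'.e 0) := fun y => by
      rw [map_smul, E'.e_zero, map_one, smul_eq_mul, mul_one, ← haS x _ (hmem y), ← hc, Finsupp.sum, map_sum, map_sum]
      refine Finset.sum_congr rfl fun e _ => ?_
      rw [map_smul, map_smul, hmon, smul_eq_mul, smul_eq_mul]
      ring
    have h := congrArg (fun z => E'.e.repr z 0) (sub_eq_zero.1 (eq_zero_of_forall (k := k) fun y =>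
      (map_sub y.ofConv _ _).trans (sub_eq_zero.2 (key y))))
    simp only [map_sum, map_smul, Finsupp.finset_sum_apply, Finsupp.smul_apply, Module.Basis.repr_self,
      Finsupp.single_apply, smul_eq_mul, mul_ite, mul_one, mul_zero, if_true] at h
    rw [map_sum, Finset.sum_filter]
    refine h.symm.trans (Finset.sum_congr rfl fun e _ => ?_)
    split_ifs with he <;> simp [he]
  rw [hzero]
  exact Subalgebra.sum_mem _ fun e he => Subalgebra.smul_mem _ (hmons e (Finset.mem_filter.1 he).2) _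

variable {G : Over (Spec (CommRingCat.of k))} [GrpObj G] [IsAffine G.left] [Smooth G.hom] (v : sp k A ≅ G)
  [IsMonHom v.hom]

/-- **Functions invariant under a subgroup containing a maximal unipotent subgroup form a finitely generated
algebra.** -/
theorem fg_invAlg_contains {Bo : Over (Spec (CommRingCat.of k))} [GrpObj Bo] {iB : Bo ⟶ G} [IsMonHom iB]
    (hB : Red.IsBorelOver k iB) {U : Over (Spec (CommRingCat.of k))} [GrpObj U] {u : U ⟶ Bo}
    (hU : Par.IsUnipotentRadical u) [IsMonHom (u ≫ iB)] {H : Subgroup (Pt k A)}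
    (hH : IsClosed (H : Set (Pt k A))) (hUH : ptsSub v (u ≫ iB) ≤ H) : (invAlg H).FG := by
  classical
  obtain ⟨-, hBc, hBsm, hBconn, -, -⟩ := id hB
  haveI := hBc; haveI := hBsm; haveI := hBconn
  obtain ⟨hUc, hUsm, hUp, hUs, hUu⟩ := uni_data v iB hB u hU
  haveI := hUc; haveI := hUsm
  haveI : QuasiCompact G.hom := inferInstance
  have hBor := isBor_ptsSub v hB
  set B := ptsSub v iB
  set N := ptsSub v (u ≫ iB)
  have hNB : N ≤ B := ptsSub_le_of_factor v rfl
  have hTc : IsClosed ((⊤ : Subgroup (Pt k A)) : Set (Pt k A)) := by rw [Subgroup.coe_top]; exact isClosed_univ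
  set K : Subgroup (Pt k A) := neut ⊤
  have hKc : IsClosed (K : Set (Pt k A)) := isClosed_neut hTc
  have hKp : _root_.IsPreconnected (K : Set (Pt k A)) := isPreconnected_neut _
  have hBK' : IsBor K B := ⟨le_neut hBor.conn le_top, hBor.closed, hBor.conn, hBor.sol,
    fun H _ hHc hH hHs hle => hBor.maximal H le_top hHc hH hHs hle⟩
  -- a Borel subgroup of the identity component containing the unipotent subgroup
  set P := neut H
  have hPc : IsClosed (P : Set (Pt k A)) := isClosed_neut hH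
  have hPp : _root_.IsPreconnected (P : Set (Pt k A)) := isPreconnected_neut _
  have hNP : N ≤ P := le_neut hUp hUH
  obtain ⟨B₀, hB₀, -, huniv⟩ := IsBor.exists_conj_universal hPc hPp
  obtain ⟨g, hg, hgle⟩ := huniv N hNP hUp hUs
  set B' := conjSub g B₀
  have hB' : IsBor P B' := hB₀.conjSub hg
  have hNB' : N ≤ B' := by
    have h := conjSub_mono (a := g) hgle
    rwa [conjSub_conjSub, mul_inv_cancel, conjSub_one] at h
  obtain ⟨D, hD⟩ := exists_flag_uni hB'.closed hB'.conn hB'.sol
  obtain ⟨S, hSB, hS, -, hdec, -⟩ := D.exists_torus_decomp hB'.closed hB'.conn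
  set Q := neut (D.U 1)
  have hQu : ∀ x ∈ Q, IsUni x := fun x hx => ((hD x).1 (neut_le _ hx)).2
  have hNQ : N ≤ Q := le_neut hUp fun x hx => (hD x).2 ⟨hNB' hx, hUu x hx⟩
  have hQN : Q ≤ N := by
    obtain ⟨a, -, ha⟩ := hBK'.exists_conj_le hKc hKp
      (le_neut hB'.conn le_top : B' ≤ K) hB'.conn hB'.sol
    have hQ' : conjSub a Q ≤ N := le_uniRad v hB hU
      ((conjSub_mono ((neut_le _).trans fun x hx => ((hD x).1 hx).1)).trans ha)
      (isPreconnected_conjSub (isPreconnected_neut _)) fun x hx => by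
        obtain ⟨y, hy, rfl⟩ := hx
        exact (hQu y hy).conj a
    have hN' : conjSub a N = N :=
      conjSub_eq_of_le (isClosed_ptsSub v) ((conjSub_mono hNQ).trans hQ')
    intro x hx
    have h1 : a * x * a⁻¹ ∈ conjSub a N := hN'.symm ▸ hQ' ⟨x, hx, rfl⟩
    rw [mem_conjSub] at h1
    simpa [mul_assoc] using h1
  have hnorm : ∀ s ∈ S, ∀ x ∈ N, s * x * s⁻¹ ∈ N := fun s hs x hx => hQN
    (le_neut (isPreconnected_conjSub (isPreconnected_neut _)) ((conjSub_mono (neut_le _)).trans (by
      rintro _ ⟨y, hy, rfl⟩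
      exact D.conj_mem_U (hSB hs) hy)) ⟨x, hNQ hx, rfl⟩)
  obtain ⟨F, hF, hcov⟩ := exists_neut_cosets (D.isClosed_U hB'.closed 1)
  have hgen : ∀ M : Subgroup (Pt k A), IsClosed (M : Set (Pt k A)) → S ≤ M → N ≤ M → B' ≤ M := by
    intro M hM hSM hUM
    let M' := M ⊓ B'
    have hM' : IsClosed (M' : Set (Pt k A)) := hM.inter hB'.closed
    have hSN : ∀ g ∈ B', ∃ r ∈ F, ∃ m ∈ M', g = r * m := fun g hg => by
      obtain ⟨s, hs, hsu⟩ := hdec g⁻¹ (inv_mem hg)
      obtain ⟨r, hr, hrn⟩ := hcov _ ((D.U 1).inv_mem hsu)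
      refine ⟨r, hr, _, M'.mul_mem (show r⁻¹ * (s⁻¹ * g⁻¹)⁻¹ ∈ M' from ⟨hUM (hQN hrn), ?_⟩)
        (show s⁻¹ ∈ M' from ⟨hSM (inv_mem hs), hSB (inv_mem hs)⟩), by group⟩
      exact ((hD _).1 (neut_le _ hrn)).1
    let Cs : Set (Pt k A) := ⋃ r ∈ F.filter (fun r => r ∉ M'), (fun x => r⁻¹ * x) ⁻¹' (M' : Set (Pt k A))
    have hCs : IsClosed Cs :=
      (Finset.finite_toSet _).isClosed_biUnion fun r _ => hM'.preimage (BorelLib.continuous_const_mul r⁻¹)
    have hcover : (B' : Set (Pt k A)) ⊆ (M' : Set (Pt k A)) ∪ Cs := fun g hg => by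
      obtain ⟨r, hr, m, hm, rfl⟩ := hSN g hg
      by_cases hrM : r ∈ M'
      · exact Or.inl (M'.mul_mem hrM hm)
      · exact Or.inr (Set.mem_iUnion₂.2 ⟨r, Finset.mem_filter.2 ⟨hr, hrM⟩, by simpa using hm⟩)
    intro g hg
    rcases hcover hg with h | h
    · exact h.1
    exfalso
    obtain ⟨x, -, hx1, hx2⟩ :=
      (isPreconnected_closed_iff.1 hB'.conn) _ _ hM' hCs hcover ⟨1, B'.one_mem, M'.one_mem⟩ ⟨g, hg, h⟩
    obtain ⟨r, hr, hrx⟩ := Set.mem_iUnion₂.1 hx2
    apply (Finset.mem_filter.1 hr).2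
    have := M'.mul_mem hx1 (M'.inv_mem hrx)
    simpa using this
  -- invariants of the Borel subgroup
  have hfgB : (invAlg B').FG := by
    refine fg_invAlg_torus (fg_invAlg_uniRad v hB hU) hS hnorm fun a =>
      ⟨fun h => ⟨Inv.mono hNB' h, Inv.mono hSB h⟩, fun ⟨h1, h2⟩ => ?_⟩
    let M : Subgroup (Pt k A) :=
      { carrier := {h | ∀ x : Pt k A, (x * h).ofConv a = x.ofConv a}
        one_mem' := fun x => by rw [mul_one]
        mul_mem' := fun {p q} hp hq x => by rw [← mul_assoc, hq, hp]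
        inv_mem' := fun {p} hp x => by
          have h := hp (x * p⁻¹)
          rw [inv_mul_cancel_right] at h
          exact h.symm }
    have hMc : IsClosed (M : Set (Pt k A)) := by
      have e : (M : Set (Pt k A)) = ⋂ x : Pt k A, {h | (x * h).ofConv a = x.ofConv a} := by
        ext h
        simp only [Set.mem_iInter, SetLike.mem_coe]
        rfl
      rw [e]
      exact isClosed_iInter fun x =>
        IsReg.isClosed_eq ((IsReg.eval a).comp (IsMor.const x |>.mul IsMor.id)) (IsReg.const _)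
    exact fun x h hh => hgen M hMc (fun s hs x => h2 x s hs) (fun y hy x => h1 x y hy) hh x
  have e : invAlg P = invAlg B' := by
    refine le_antisymm (fun a ha => Inv.mono hB'.le ha) fun a ha x p hp => ?_
    have h := Complete.reg_const (hB'.complete hPc hPp) hB'.le hPc hPp
      ((IsReg.eval a).comp (IsMor.const x |>.mul IsMor.id))
      (fun g _ b hb => by rw [← mul_assoc]; exact ha _ b hb) hp
    simpa using h
  obtain ⟨F', hF', hcov'⟩ := exists_neut_cosets hH
  exact (fg_invAlg_iff ⟨F', hF', hcov'⟩ (neut_le _)).1 (e ▸ hfgB)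

end Groth.Agent.ObsLib

end
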