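import Groth.Agent.ObsLib.SemiFrac

/-!
# Invariants of unipotent subgroups
-/

set_option autoImplicit false
set_option linter.style.haveILetI false
set_option linter.unusedSectionVars false
set_option backward.isDefEq.respectTransparency false
set_option backward.isDefEq.respectTransparency.types false
set_option maxHeartbeats 1000000
set_option synthInstance.maxHeartbeats 400000

noncomputable section

universe u

open CategoryTheory MonoidalCategory CartesianMonoidalCategory AlgebraicGeometry WithConv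
open scoped MonObj TensorProduct
open CoactBr (sp pt)

namespace Groth.Agent.ObsLib

open BorelLib BlowRegLib

attribute [-instance] CategoryTheory.Hom.commGroup
attribute [local instance] pTop pTopTensor

variable {k : Type u} [Field k] [IsAlgClosed k] {A : Type u} [CommRing A] [HopfAlgebra k A] [Algebra.FiniteType k A]
  [_root_.IsReduced A]

/-- Weight vectors of groups of unipotent elements are fixed. -/
theorem fixed_of_weight {V : Type u} [AddCommGroup V] [Module k V] (r : RegRep (⊤ : Subgroup (Pt k A)) V)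
    {K : Subgroup (Pt k A)} (hu : ∀ x ∈ K, IsUni x) {w : V} (hw0 : w ≠ 0) (hw : r.IsWeight K w) :
    ∀ g ∈ K, r.ρ g w = w := fun g hg => by
  obtain ⟨χ, -, hχ⟩ := r.exists_reg_weight hw0 hw
  obtain ⟨c, hc, hc1⟩ := semiInv_of_weight r hw0 hχ
  rw [hχ g hg, char_uni hc hc1 hg (hu g hg), one_smul]

variable {G : Over (Spec (CommRingCat.of k))} [GrpObj G] (v : sp k A ≅ G) [IsMonHom v.hom]

/-- The span of an orbit is stable. -/
lemma stable_orbit {V : Type u} [AddCommGroup V] [Module k V] (m : VecGrp.GMod G V) (u : V) :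
    (toRep v m).Stable ⊤ (Submodule.span k (Set.range fun g => (toRep v m).ρ g u)) := fun g _ w hw => by
  induction hw using Submodule.span_induction with
  | mem y hy =>
    obtain ⟨g', rfl⟩ := hy
    exact Submodule.subset_span ⟨g * g', (toRep v m).mul_apply trivial trivial u⟩
  | zero => simp
  | add y y' _ _ hy hy' => rw [map_add]; exact add_mem hy hy'
  | smul d y _ hy => rw [map_smul]; exact Submodule.smul_mem _ d hy

lemma mem_orbit {V : Type u} [AddCommGroup V] [Module k V] (m : VecGrp.GMod G V) (u : V) :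
    u ∈ Submodule.span k (Set.range fun g => (toRep v m).ρ g u) :=
  Submodule.subset_span ⟨1, by simp [(toRep v m).map_one]⟩

/-- A non-zero stable subspace of finite dimension contains a non-zero fixed vector. -/
theorem exists_fixed {V : Type u} [AddCommGroup V] [Module k V] (r : RegRep (⊤ : Subgroup (Pt k A)) V)
    {K : Subgroup (Pt k A)} (hK : _root_.IsPreconnected (K : Set (Pt k A))) (hs : IsSol K) (hu : ∀ x ∈ K, IsUni x)
    {W : Submodule k V} [FiniteDimensional k W] (hW : r.Stable ⊤ W) (hne : W ≠ ⊥)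
    {W' : Submodule k V} (hW' : r.Stable K W') (hne' : W ⊓ W' ≠ ⊥) :
    ∃ w ∈ W, w ∈ W' ∧ w ≠ 0 ∧ ∀ g ∈ K, r.ρ g w = w := by
  obtain ⟨r', hr'⟩ := r.exists_sub hW
  obtain ⟨x, ⟨hxW, hxW'⟩, hx0⟩ := (Submodule.ne_bot_iff _).1 hne'
  obtain ⟨w, hw, hw0, hwt⟩ := r'.exists_weight_of_isSol (H := K) le_top hK hs (W := W'.comap W.subtype)
    ((Submodule.ne_bot_iff _).2 ⟨⟨x, hxW⟩, hxW', fun h => hx0 (congrArg Subtype.val h)⟩)
    fun g hg y hy => by
      show (r'.ρ g y : V) ∈ W'
      rw [hr' g trivial]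
      exact hW' g hg _ hy
  refine ⟨w, w.2, hw, fun h => hw0 (Subtype.ext h), fun g hg => ?_⟩
  exact (hr' g trivial w).symm.trans (congrArg Subtype.val (fixed_of_weight r' hu hw0 hwt g hg))

/-- Unipotent connected groups preserve the existence of zero divisors among invariants. -/
theorem exists_fixed_zeroDivisor {R : Type u} [CommRing R] [Algebra k R] (m : VecGrp.GMod G R) (hm : m.IsMult)
    {K : Subgroup (Pt k A)} (hK : _root_.IsPreconnected (K : Set (Pt k A))) (hs : IsSol K) (hu : ∀ x ∈ K, IsUni x)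
    {a b : R} (ha : a ≠ 0) (hb : b ≠ 0) (hab : a * b = 0) :
    ∃ a' b' : R, a' ≠ 0 ∧ b' ≠ 0 ∧ a' * b' = 0 ∧ (∀ g ∈ K, (toRep v m).ρ g a' = a') ∧
      ∀ g ∈ K, (toRep v m).ρ g b' = b' := by
  classical
  set r := toRep v m
  let W := Submodule.span k (Set.range fun g => r.ρ g a)
  let V := Submodule.span k (Set.range fun g => r.ρ g b)
  haveI : FiniteDimensional k W := finiteDimensional_orbit v m a
  haveI : FiniteDimensional k V := finiteDimensional_orbit v m b
  obtain ⟨rV, hrV⟩ := r.exists_sub (stable_orbit v m b)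
  let e := Module.finBasis k W
  let M : (Fin (Module.finrank k W) → (R →ₗ[k] k)) → V →
      Matrix (Fin (Module.finrank k W)) (Fin (Module.finrank k W)) k :=
    fun ψ y => Matrix.of fun i j => ψ i ((e j : R) * (y : R))
  have hdeg : ∀ y : V, (∀ ψ, (M ψ y).det = 0) ↔ ∃ w : W, w ≠ 0 ∧ (w : R) * (y : R) = 0 := by
    intro y
    constructor
    · intro h
      by_contra hne
      push Not at hne
      let L : W →ₗ[k] R := (LinearMap.mulRight k (y : R)) ∘ₗ W.subtype
      have hL : LinearMap.ker L = ⊥ := (Submodule.eq_bot_iff _).2 fun w hw => by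
        by_contra h0
        exact hne w h0 hw
      obtain ⟨g, hg⟩ := L.exists_leftInverse_of_injective hL
      have h1 : M (fun i => e.coord i ∘ₗ g) y = 1 := by
        ext i j
        show e.coord i (g (L (e j))) = _
        rw [show g (L (e j)) = e j from LinearMap.congr_fun hg (e j), Module.Basis.coord_apply, e.repr_self, Matrix.one_apply,
          Finsupp.single_apply]
        rcases eq_or_ne i j with rfl | hij
        · simp
        · simp [hij, Ne.symm hij]
      have := h fun i => e.coord i ∘ₗ g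
      rw [h1, Matrix.det_one] at this
      exact one_ne_zero this
    · rintro ⟨w, hw, hwy⟩ ψ
      by_contra hdet
      have h1 : (M ψ y).mulVec (e.equivFun w) = 0 := by
        funext i
        show (∑ j, ψ i ((e j : R) * (y : R)) * e.equivFun w j) = 0
        have h2 : ψ i ((w : R) * (y : R)) = 0 := by rw [hwy, map_zero]
        rw [← h2]
        conv_rhs => rw [← e.sum_equivFun w]
        rw [Submodule.coe_sum, Finset.sum_mul, map_sum]
        refine Finset.sum_congr rfl fun j _ => ?_
        rw [Submodule.coe_smul, smul_mul_assoc, map_smul, smul_eq_mul, mul_comm]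
      exact hw (e.equivFun.injective ((Matrix.eq_zero_of_mulVec_eq_zero hdet h1).trans (map_zero _).symm))
  let Z : Set (Pt k (VPoly k V)) := {y | ∀ ψ, (M ψ (pv y)).det = 0}
  have hZc : IsClosed Z := by
    have hZ : Z = ⋂ ψ, {y | (M ψ (pv y)).det = 0} := by ext y; simp [Z]
    rw [hZ]
    refine isClosed_iInter fun ψ => IsReg.isClosed_eq ?_ (IsReg.const 0)
    simp only [Matrix.det_apply']
    refine IsReg.sum _ fun σ _ => (IsReg.const _).mul (IsReg.prod _ fun i _ => ?_)
    exact isReg_pv (ψ (σ i) ∘ₗ (LinearMap.mulLeft k (e i : R)) ∘ₗ V.subtype)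
  have hmul := toRep_mul v m hm
  obtain ⟨y, hy, hy0, hyw⟩ := rV.exists_weight_in_cone le_top hK hs hZc
    (fun c _ y hy => by
      show ∀ ψ, (M ψ (pv (vp (V := V) (c • pv y)))).det = 0
      rw [pv_vp, hdeg]
      obtain ⟨w, hw, hwy⟩ := (hdeg _).1 hy
      exact ⟨w, hw, by rw [Submodule.coe_smul, mul_smul_comm, hwy, smul_zero]⟩)
    (fun g hg y hy => by
      show ∀ ψ, (M ψ (pv (vp (V := V) (rV.ρ g (pv y))))).det = 0
      rw [pv_vp, hdeg]
      obtain ⟨w, hw, hwy⟩ := (hdeg _).1 hy
      refine ⟨⟨r.ρ g w, stable_orbit v m a g trivial w w.2⟩,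
        fun h => r.apply_ne_zero trivial (fun h0 => hw (Subtype.ext h0)) (congrArg Subtype.val h), ?_⟩
      show r.ρ g w * (rV.ρ g (pv y) : R) = 0
      rw [hrV g trivial, ← hmul, hwy, map_zero])
    ⟨vp (⟨b, mem_orbit v m b⟩ : V), by
      show ∀ ψ, (M ψ (pv (vp (⟨b, mem_orbit v m b⟩ : V)))).det = 0
      rw [pv_vp, hdeg]
      exact ⟨⟨a, mem_orbit v m a⟩, fun h => ha (congrArg Subtype.val h), hab⟩,
      by rw [pv_vp]; exact fun h => hb (congrArg Subtype.val h)⟩
  set b' : R := (pv (V := V) y : R) with hb'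
  have hbf : ∀ g ∈ K, r.ρ g b' = b' := fun g hg =>
    (hrV g trivial _).symm.trans (congrArg Subtype.val (fixed_of_weight rV hu hy0 hyw g hg))
  obtain ⟨w, hw, hwy⟩ := (hdeg _).1 hy
  obtain ⟨a', -, ha'z, ha'0, ha'f⟩ := exists_fixed r hK hs hu (W := W) (stable_orbit v m a)
    ((Submodule.ne_bot_iff _).2 ⟨a, mem_orbit v m a, ha⟩)
    (W' := LinearMap.ker (LinearMap.mulRight k b')) (fun g hg x hx => by
      show r.ρ g x * b' = 0
      conv_lhs => rw [← hbf g hg]
      rw [← hmul, show x * b' = 0 from hx, map_zero])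
    ((Submodule.ne_bot_iff _).2 ⟨w, ⟨w.2, hwy⟩, fun h => hw (Subtype.ext h)⟩)
  exact ⟨a', b', ha'0, fun h => hy0 (Subtype.ext h), ha'z, ha'f, hbf⟩

/-- The points of the unipotent radical of a Borel subgroup. -/
theorem uni_data [Smooth G.hom] [IsAffine G.left] {Bo : Over (Spec (CommRingCat.of k))} [GrpObj Bo] (iB : Bo ⟶ G)
    (hB : Red.IsBorelOver k iB) {U : Over (Spec (CommRingCat.of k))} [GrpObj U] (u : U ⟶ Bo)
    (hU : Par.IsUnipotentRadical u) [IsMonHom (u ≫ iB)] :
    IsClosedImmersion (u ≫ iB).left ∧ Smooth U.hom ∧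
      _root_.IsPreconnected (ptsSub v (u ≫ iB) : Set (Pt k A)) ∧ IsSol (ptsSub v (u ≫ iB)) ∧
      ∀ x ∈ ptsSub v (u ≫ iB), IsUni x := by
  obtain ⟨hiB, hBc, -, -, -, -⟩ := id hB
  obtain ⟨hu, huc, -, huS, -, hug, -⟩ := id hU
  haveI := hiB; haveI := hBc; haveI := hu; haveI := huc; haveI := huS
  let s : ↥(Spec (CommRingCat.of k) : Scheme.{u}) := IsLocalRing.closedPoint k
  haveI : ConnectedSpace U.left := connectedSpace_of_geom _ _ (hug s).1
  haveI : IsClosedImmersion (u ≫ iB).left := by rw [Over.comp_left]; infer_instance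
  have huni := uni_of_hasNoSubtorus v (u ≫ iB) (hasNoSubtorus_of_geom s (hug s).2)
  exact ⟨inferInstance, huS, isPreconnected_ptsSub v,
    isSol_of_uni (isClosed_ptsSub v) (isPreconnected_ptsSub v) huni, huni⟩

end Groth.Agent.ObsLib
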