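import Groth.Agent.ObsLib.FiltFin
import Groth.Agent.ObsLib.ContainsU
import Groth.Agent.ObsLib.UFixed

/-!
# Height data for a group with reductive identity component
-/

set_option autoImplicit false
set_option linter.style.haveILetI false
set_option linter.unusedSectionVars false
set_option backward.isDefEq.respectTransparency false
set_option backward.isDefEq.respectTransparency.types false
set_option maxHeartbeats 2000000
set_option synthInstance.maxHeartbeats 400000

noncomputable section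

universe u

open CategoryTheory MonoidalCategory CartesianMonoidalCategory AlgebraicGeometry WithConv
open scoped MonObj TensorProduct
open CoactBr (sp pt)

namespace Groth.Agent.ObsLib

open BorelLib BlowRegLib

attribute [-instance] CategoryTheory.Hom.commGroup
attribute [local instance] pTop pTopTensor

variable {k : Type u} [Field k] [IsAlgClosed k]

section Pull

variable {A C : Type u} [CommRing A] [HopfAlgebra k A] [Algebra.FiniteType k A] [CommRing C] [HopfAlgebra k C]
  [Algebra.FiniteType k C] {V : Type u} [AddCommGroup V] [Module k V]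

/-- Restriction of a representation along a map of groups. -/
def pullRep (r : RegRep (⊤ : Subgroup (Pt k A)) V) (f : Pt k C →* Pt k A) (hf : IsMor f) :
    RegRep (⊤ : Subgroup (Pt k C)) V where
  ρ x := r.ρ (f x)
  map_one := by rw [map_one, r.map_one]
  map_mul a _ b _ := by rw [map_mul]; exact r.map_mul _ trivial _ trivial
  reg φ w := (r.reg φ w).comp hf

end Pull

variable {A : Type u} [CommRing A] [HopfAlgebra k A] [Algebra.FiniteType k A] [_root_.IsReduced A]
  {G : Over (Spec (CommRingCat.of k))} [GrpObj G] [IsAffine G.left] [Smooth G.hom] (v : sp k A ≅ G) [IsMonHom v.hom]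

/-- **Height data on the identity component.** -/
theorem exists_red_setup (hG : VecGrp.IsReductiveGrp k G) {Bo : Over (Spec (CommRingCat.of k))} [GrpObj Bo]
    {iB : Bo ⟶ G} [IsMonHom iB] (hB : Red.IsBorelOver k iB) {U : Over (Spec (CommRingCat.of k))} [GrpObj U]
    {u : U ⟶ Bo} (hU : Par.IsUnipotentRadical u) [IsMonHom (u ≫ iB)] :
    ∃ (C : Type u) (_ : CommRing C) (_ : HopfAlgebra k C) (_ : Algebra.FiniteType k C) (_ : IsDomain C)
      (f : Pt k C →* Pt k A) (_ : IsMor f) (B : Subgroup (Pt k C)) (D : HeightData B),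
      IsBor ⊤ B ∧ ∀ x : Pt k A, x ∈ ptsSub v (u ≫ iB) ↔ ∃ c ∈ B, Fam D.lam c 1 ∧ f c = x := by
  classical
  obtain ⟨-, -, G₀, _, j, hj, hjo, hred⟩ := hG
  haveI := hj; haveI := hjo
  obtain ⟨ha₀, hs₀, hc₀, hU₀⟩ := id hred
  haveI := ha₀; haveI := hs₀; haveI := hc₀
  haveI : IsClosedImmersion j.left := isClosedImmersion_of_open j
  obtain ⟨C, _, _, w, hw, π, hGa, hC, hC', hπ, hsur⟩ := exists_sub_data v j
  haveI := hw; haveI := hC; haveI := hC'
  obtain ⟨-, hBc, hBsm, hBconn, -, -⟩ := id hB
  haveI := hBc; haveI := hBsm; haveI := hBconn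
  obtain ⟨hUc, hUsm, hUp, hUs, hUu⟩ := uni_data v iB hB u hU
  haveI := hUc; haveI := hUsm
  haveI : QuasiCompact G.hom := inferInstance
  let f := subHom v w hπ
  have hfm : IsMor f := ⟨π, fun x => rfl⟩
  set K : Subgroup (Pt k A) := neut ⊤
  have hrange : f.range = K := (range_subHom v w hπ).trans (ptsSub_open v j)
  have hKc : IsClosed (K : Set (Pt k A)) := isClosed_neut (by rw [Subgroup.coe_top]; exact isClosed_univ)
  have hind : Topology.IsInducing f := isInducing_subHom v w hπ hsur
  have hinj : Function.Injective f := pull_injective_of_surjective hsur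
  haveI : IsDomain C := isDomain_of_connected
    (isPreconnected_univ_frame hind (hrange.symm ▸ isPreconnected_neut _))
  have hredC : IsRedPts k C := isRedPts_of_isReductiveOver w hred
  have hBor := isBor_ptsSub v hB
  set B₀ := ptsSub v iB
  set N := ptsSub v (u ≫ iB)
  have hNB : N ≤ B₀ := ptsSub_le_of_factor v rfl
  have hBK : B₀ ≤ K := le_neut hBor.conn le_top
  have hBor' : IsBor ⊤ (B₀.comap f) := IsBor.comap hind hinj hrange hKc ⟨hBK, hBor.closed, hBor.conn, hBor.sol,
    fun H _ hHc hH hHs hle => hBor.maximal H le_top hHc hH hHs hle⟩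
  obtain ⟨D⟩ := exists_heightData hredC hBor'
  refine ⟨C, _, _, inferInstance, inferInstance, f, hfm, B₀.comap f, D, hBor', fun x => ⟨fun hx => ?_, ?_⟩⟩
  · obtain ⟨c, rfl⟩ : x ∈ f.range := hrange.symm ▸ hBK (hNB hx)
    have hNle : N ≤ f.range := hrange.symm ▸ hNB.trans hBK
    have hN'c : IsClosed (N.comap f : Set (Pt k C)) := (isClosed_ptsSub v).preimage hind.continuous
    have hN'p : _root_.IsPreconnected (N.comap f : Set (Pt k C)) := isPreconnected_comap hind hNle hUp
    have hu : IsUni c := (uni_of_noTor hN'c hN'p fun T hT hTor => by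
      refine le_bot_iff.1 fun t ht => Subgroup.mem_bot.2 (hinj ?_)
      have hT' := hTor.map_frame hind (hrange.symm ▸ hKc)
      have h := eq_bot_of_uni hT' fun y hy => by
        obtain ⟨s, hs, rfl⟩ := hy
        exact hUu _ (hT hs)
      rw [map_one]
      exact Subgroup.mem_bot.1 (h ▸ ⟨t, ht, rfl⟩ : f t ∈ (⊥ : Subgroup (Pt k A)))).2 c hx
    obtain ⟨p, -, hp, hp1⟩ := D.limit c (hNB hx)
    exact ⟨c, hNB hx, hp1 hu ▸ hp, rfl⟩
  rintro ⟨c, hc, hcf, rfl⟩
  let H : Subgroup (Pt k C) :=
    { carrier := {c | c ∈ B₀.comap f ∧ Fam D.lam c 1}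
      one_mem' := ⟨Subgroup.one_mem _, fam_one D.lam⟩
      mul_mem' := by
        rintro a b ⟨ha, φ, hφ, hφ0⟩ ⟨hb, ψ, hψ, hψ0⟩
        obtain ⟨χ, hχ⟩ := (IsMor.pull φ).mul (IsMor.pull ψ)
        refine ⟨Subgroup.mul_mem _ ha hb, χ, fun z => ?_, by rw [← hχ]; dsimp only; rw [hφ0, hψ0, mul_one]⟩
        rw [← hχ]
        dsimp only
        rw [hφ, hψ, DynLib.lamAt_inv]
        group
      inv_mem' := by
        rintro a ⟨ha, φ, hφ, hφ0⟩
        obtain ⟨χ, hχ⟩ := (IsMor.pull φ).inv
        refine ⟨Subgroup.inv_mem _ ha, χ, fun z => ?_, by rw [← hχ]; dsimp only; rw [hφ0, inv_one]⟩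
        rw [← hχ]
        dsimp only
        rw [hφ, DynLib.lamAt_inv]
        group }
  have hHconj : ∀ a ∈ H, ∀ z : kˣ, DynLib.lamAt D.lam z * a * DynLib.lamAt D.lam z⁻¹ ∈ H := fun a ha z => by
    have h := ha.2.conj (DynLib.lamAt D.lam z) fun z' => D.tor.comm _ (D.mem z) _ (D.mem z')
    rw [mul_one, mul_inv_cancel] at h
    rw [DynLib.lamAt_inv]
    exact ⟨Subgroup.mul_mem _ (Subgroup.mul_mem _ (D.le (D.mem z)) ha.1) (Subgroup.inv_mem _ (D.le (D.mem z))), h⟩
  have hHp : _root_.IsPreconnected (H : Set (Pt k C)) := by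
    refine isPreconnected_of_forall 1 fun g hg => ?_
    obtain ⟨φ, hφ, h0⟩ := hg.2
    refine ⟨Set.range (pull φ), ?_, ⟨linePt 0, h0⟩, ⟨linePt 1, ?_⟩, ?_⟩
    · rintro _ ⟨y, rfl⟩
      rw [← linePt_lineCoord y]
      rcases eq_or_ne (lineCoord y) 0 with hy | hy
      · rw [hy, h0]; exact H.one_mem
      · have := hφ (Units.mk0 _ hy)
        rw [Units.val_mk0] at this
        rw [this]
        exact hHconj g hg _
    · have := hφ 1
      rwa [Units.val_one, inv_one, DynLib.lamAt_one, one_mul, mul_one] at this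
    · rw [← Set.image_univ]
      exact (IsIrreducible.isPreirreducible isIrreducible_univ).isPreconnected.image _
        (IsMor.pull φ).continuous.continuousOn
  refine le_uniRad v hB hU (H := H.map f) ?_ ?_ ?_ ⟨c, ⟨hc, hcf⟩, rfl⟩
  · rintro _ ⟨y, hy, rfl⟩
    exact hy.1
  · rw [Subgroup.coe_map]
    exact hHp.image _ hind.continuous.continuousOn
  · rintro _ ⟨y, hy, rfl⟩
    exact IsUni.map (f := f) hfm ((hy.2.isUni_iff).2 fun W _ _ _ r => ⟨1, by rw [r.map_one, sub_self, pow_one]⟩)

/-- Fixed vectors of the contracted part are the fixed vectors of the unipotent subgroup. -/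
theorem fixU_pullRep {C : Type u} [CommRing C] [HopfAlgebra k C] [Algebra.FiniteType k C] {f : Pt k C →* Pt k A}
    (hf : IsMor f) {B : Subgroup (Pt k C)} (D : HeightData B) {U : Over (Spec (CommRingCat.of k))} [GrpObj U]
    {i : U ⟶ G} [IsMonHom i] [IsClosedImmersion i.left] [Smooth U.hom]
    (hx : ∀ x : Pt k A, x ∈ ptsSub v i ↔ ∃ c ∈ B, Fam D.lam c 1 ∧ f c = x)
    {V : Type u} [AddCommGroup V] [Module k V] (m : VecGrp.GMod G V) :
    fixU D (pullRep (toRep v m) f hf) = m.fixedUnder i := by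
  obtain ⟨E, _, _, w, hw, π, hUa, hE, hE', hπ, -⟩ := exists_sub_data v i
  haveI := hw; haveI := hE; haveI := hE'
  ext a
  refine Iff.trans ?_ (fixedUnder_iff v w hπ m a).symm
  constructor
  · intro h y
    obtain ⟨c, hc, hcf, hcy⟩ := (hx _).1 (pull_mem v w hπ y)
    rw [← hcy]
    exact h c hc hcf
  · intro h c hc hcf
    obtain ⟨y, hy⟩ := (mem_sub_iff v w hπ).1 ((hx _).2 ⟨c, hc, hcf, rfl⟩)
    show (toRep v m).ρ (f c) a = a
    rw [← hy]
    exact h y

/-- Rational representations are locally finite. -/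
theorem locFin_pullRep {C : Type u} [CommRing C] [HopfAlgebra k C] [Algebra.FiniteType k C] {f : Pt k C →* Pt k A}
    (hf : IsMor f) {V : Type u} [AddCommGroup V] [Module k V] (m : VecGrp.GMod G V) :
    LocFin (pullRep (toRep v m) f hf) := fun a =>
  ⟨_, finiteDimensional_orbit v m a, mem_orbit v m a, fun g _ x hx => stable_orbit v m a (f g) trivial x hx⟩

end Groth.Agent.ObsLib

end
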