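import Groth.Agent.ObsLib.OrbitClosed
import Groth.Agent.ObsLib.UnipQuot
import Groth.Agent.ObsLib.AlgMod
import Groth.Agent.ObsLib.Stable
import Groth.Prelude.Def_W4bk4grossh111Obs

/-!
# A subgroup with affine quotient in a reductive group has no unipotent radical
-/

set_option autoImplicit false
set_option linter.style.haveILetI false
set_option linter.unusedSectionVars false
set_option backward.isDefEq.respectTransparency false
set_option backward.isDefEq.respectTransparency.types false
set_option maxHeartbeats 2000000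
set_option synthInstance.maxHeartbeats 400000

noncomputable section

universe u

open CategoryTheory MonoidalCategory CartesianMonoidalCategory AlgebraicGeometry WithConv
open scoped MonObj TensorProduct
open CoactBr (sp pt)

namespace Groth.Agent.ObsLib

open BorelLib BlowRegLib

attribute [-instance] CategoryTheory.Hom.commGroup
attribute [local instance] pTop pTopTensor

variable {k : Type u} [Field k] [IsAlgClosed k]

/-- A linear system solvable after a faithfully flat extension is solvable. -/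
theorem exists_combination {C A : Type u} [CommRing C] [CommRing A] [Algebra C A] [Module.FaithfullyFlat C A]
    {n m : ℕ} (Φ : Fin n → Fin m → A) (v : Fin m → A) (t : Fin n → A)
    (h : ∀ l, ∑ i, t i ⊗ₜ[C] Φ i l = (1 : A) ⊗ₜ[C] v l) : ∃ c : Fin n → C, ∀ l, ∑ i, c i • Φ i l = v l := by
  classical
  let N : Submodule C (Fin m → A) := Submodule.span C (Set.range Φ)
  have h1 : (1 : A) ⊗ₜ[C] v = ∑ i, t i ⊗ₜ[C] Φ i := by
    refine (TensorProduct.piRight C C A (fun _ : Fin m => A)).injective (funext fun l => ?_)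
    rw [map_sum, Finset.sum_apply]
    simp [h]
  have h2 : (1 : A) ⊗ₜ[C] N.mkQ v = (1 : A) ⊗ₜ[C] (0 : (Fin m → A) ⧸ N) := by
    have e := congrArg (N.mkQ.lTensor A) h1
    rw [LinearMap.lTensor_tmul, map_sum] at e
    rw [e, TensorProduct.tmul_zero]
    refine Finset.sum_eq_zero fun i _ => ?_
    rw [LinearMap.lTensor_tmul, Submodule.mkQ_apply,
      (Submodule.Quotient.mk_eq_zero N).2 (Submodule.subset_span ⟨i, rfl⟩), TensorProduct.tmul_zero]
  have h3 : N.mkQ v = 0 := Module.FaithfullyFlat.tensorProduct_mk_injective (A := C) (B := A) _ h2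
  rw [Submodule.mkQ_apply, Submodule.Quotient.mk_eq_zero, Submodule.mem_span_range_iff_exists_fun] at h3
  obtain ⟨c, hc⟩ := h3
  exact ⟨c, fun l => by rw [← hc, Finset.sum_apply]; rfl⟩

section Additive

variable {B : Type u} [CommRing B] [HopfAlgebra k B] [Algebra.FiniteType k B] [_root_.IsReduced B]

/-- A connected normal unipotent subgroup acting non-trivially carries an additive character extending to the group. -/
theorem exists_additive_rep {V : Type u} [AddCommGroup V] [Module k V] [FiniteDimensional k V]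
    (r : RegRep (⊤ : Subgroup (Pt k B)) V) {N : Subgroup (Pt k B)} (hNc : IsClosed (N : Set (Pt k B)))
    (hNp : _root_.IsPreconnected (N : Set (Pt k B))) (hn : ∀ g, conjSub g N ≤ N) (hu : ∀ x ∈ N, IsUni x)
    (hact : ∃ x ∈ N, ∃ w, r.ρ x w ≠ w) :
    ∃ (e : B) (χ : Pt k B → k), (∀ h, ∀ x ∈ N, (h * x).ofConv e = h.ofConv e + χ x) ∧
      (∀ x ∈ N, ∀ y ∈ N, χ (x * y) = χ x + χ y) ∧ (χ '' (N : Set (Pt k B))).Infinite := by
  classical
  let V₁ : Submodule k V := ⨅ x : N, LinearMap.ker (r.ρ (x : Pt k B) - 1)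
  have hV₁ : ∀ {w : V}, w ∈ V₁ ↔ ∀ x ∈ N, r.ρ x w = w := fun {w} => by
    simp [V₁, Submodule.mem_iInf, sub_eq_zero]
  have hstab : r.Stable ⊤ V₁ := fun h _ w hw => hV₁.2 fun x hx => by
    rw [← r.mul_apply trivial trivial, show x * h = h * (h⁻¹ * x * h) by group, r.mul_apply trivial trivial,
      hV₁.1 hw _ (hn h⁻¹ ⟨x, hx, by simp⟩)]
  have htop : V₁ ≠ ⊤ := fun ht => by
    obtain ⟨x, hx, w, hw⟩ := hact
    exact hw (hV₁.1 (ht ▸ Submodule.mem_top : w ∈ V₁) x hx)
  obtain ⟨rq, hrq⟩ := r.exists_quot hstab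
  haveI : Nontrivial (V ⧸ V₁) := Submodule.Quotient.nontrivial_iff.2 htop
  have hsol : IsSol N := isSol_of_uni hNc hNp hu
  obtain ⟨q, -, hq0, hq⟩ := rq.exists_weight_of_isSol le_top hNp hsol (W := ⊤) top_ne_bot fun _ _ _ _ => trivial
  obtain ⟨w, rfl⟩ := V₁.mkQ_surjective q
  have hw : ∀ x ∈ N, r.ρ x w - w ∈ V₁ := fun x hx => by
    rw [← Submodule.Quotient.mk_eq_zero, ← Submodule.mkQ_apply, map_sub, ← hrq x trivial,
      fixed_of_weight rq hu hq0 hq x hx, sub_self]
  obtain ⟨x₀, hx₀, hne₀⟩ : ∃ x ∈ N, r.ρ x w - w ≠ 0 := by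
    by_contra hall
    push Not at hall
    refine hq0 ?_
    rw [Submodule.mkQ_apply, Submodule.Quotient.mk_eq_zero]
    exact hV₁.2 fun x hx => sub_eq_zero.1 (hall x hx)
  obtain ⟨ψ, hψ⟩ := ComodLib.exists_dual_ne (k := k) hne₀
  obtain ⟨Q, hQ⟩ := Submodule.exists_isCompl V₁
  let p := Submodule.linearProjOfIsCompl V₁ Q hQ
  have hp' : ∀ (v : V) (hv : v ∈ V₁), (p v : V) = v := fun v hv =>
    congrArg Subtype.val (Submodule.linearProjOfIsCompl_apply_left hQ ⟨v, hv⟩)
  let bv := Module.finBasis k V₁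
  choose a ha using fun i => r.reg ((bv.coord i) ∘ₗ p) w
  choose c hc using fun i => (r.reg ψ (bv i : V)).comp IsMor.id.inv
  let e := ∑ i, a i * c i
  have he : ∀ h : Pt k B, h.ofConv e = ψ (r.ρ h⁻¹ (p (r.ρ h w) : V)) := fun h => by
    conv_rhs => rw [← bv.sum_repr (p (r.ρ h w))]
    simp only [e, map_sum, map_mul, ← ha, ← hc, Submodule.coe_sum, Submodule.coe_smul, map_smul, smul_eq_mul]
    rfl
  let χ : Pt k B → k := fun x => ψ (r.ρ x w - w)
  have hadd : ∀ x ∈ N, ∀ y ∈ N, χ (x * y) = χ x + χ y := fun x hx y hy => by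
    simp only [χ]
    rw [← map_add, r.mul_apply trivial trivial]
    congr 1
    conv_rhs => rw [← hV₁.1 (hw y hy) x hx, map_sub]
    abel
  have hEq : ∀ h, ∀ x ∈ N, (h * x).ofConv e = h.ofConv e + χ x := fun h x hx => by
    rw [he, he]
    simp only [χ]
    rw [← map_add]
    congr 1
    have e1 : r.ρ (h * x) w = r.ρ h w + r.ρ h (r.ρ x w - w) := by
      rw [r.mul_apply trivial trivial, map_sub]; abel
    rw [e1, map_add, Submodule.coe_add, hp' _ (hstab h trivial _ (hw x hx)), map_add,
      show (h * x)⁻¹ = x⁻¹ * h⁻¹ by group, r.mul_apply trivial trivial,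
      r.mul_apply (g := x⁻¹) (h := h⁻¹) trivial trivial (r.ρ h (r.ρ x w - w)),
      hV₁.1 (hstab _ trivial _ (p _).2) _ (N.inv_mem hx), r.inv_apply (K := ⊤) trivial,
      hV₁.1 (hw x hx) _ (N.inv_mem hx)]
  refine ⟨e, χ, hEq, hadd, fun hfin => hψ ?_⟩
  have hreg : IsReg χ := by
    obtain ⟨b, hb⟩ := r.reg ψ w
    exact ⟨b - algebraMap k B (ψ w), fun x => by simp [χ, hb]⟩
  have h1 := hreg.const_of_finite hNp hfin hx₀ N.one_mem
  simpa [χ, r.map_one] using h1

/-- A non-trivial connected normal unipotent subgroup carries an additive character extending to the group. -/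
theorem exists_additive {N : Subgroup (Pt k B)} (hNc : IsClosed (N : Set (Pt k B)))
    (hNp : _root_.IsPreconnected (N : Set (Pt k B))) (hn : ∀ g, conjSub g N ≤ N) (hu : ∀ x ∈ N, IsUni x)
    (hne : N ≠ ⊥) :
    ∃ (e : B) (χ : Pt k B → k), (∀ h, ∀ x ∈ N, (h * x).ofConv e = h.ofConv e + χ x) ∧
      (∀ x ∈ N, ∀ y ∈ N, χ (x * y) = χ x + χ y) ∧ (χ '' (N : Set (Pt k B))).Infinite := by
  classical
  obtain ⟨s, hs⟩ := (inferInstance : Algebra.FiniteType k B).out
  obtain ⟨W, hWf, hsW, hW⟩ := exists_stable (k := k) s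
  haveI := hWf
  refine exists_additive_rep (funRep W hW) hNc hNp hn hu ?_
  by_contra hall
  push Not at hall
  refine hne ((Subgroup.eq_bot_iff_forall _).2 fun x hx => WithConv.ext (AlgHom.ext_of_adjoin_eq_top hs fun a ha => ?_))
  have e' := congrArg (fun b => (1 : Pt k B).ofConv (Subtype.val b)) (hall x hx ⟨a, hsW ha⟩)
  simp only [coe_funRep, eval_rT, one_mul] at e'
  exact e'

end Additive

section Contra

variable {A : Type u} [CommRing A] [HopfAlgebra k A] [Algebra.FiniteType k A] [_root_.IsReduced A]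
  {G : Over (Spec (CommRingCat.of k))} [GrpObj G] (v : sp k A ≅ G) [IsMonHom v.hom]

/-- The action on polynomial functions of a representation. -/
theorem exists_polyMod {V : Type u} [AddCommGroup V] [Module k V] [FiniteDimensional k V]
    (r : RegRep (⊤ : Subgroup (Pt k A)) V) :
    ∃ (m : VecGrp.GMod G (VPoly k V)), m.IsMult ∧ ∀ (x : Pt k A) (F : VPoly k V) (v' : V),
      (vp v').ofConv ((toRep v m).ρ x F) = (vp (r.ρ x⁻¹ v')).ofConv F := by
  classical
  let b := Module.finBasis k V
  choose c hc using fun j i => (r.reg (b.coord j) (b i)).comp IsMor.id.inv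
  let δ : VPoly k V →ₐ[k] A ⊗[k] VPoly k V := MvPolynomial.aeval fun j => ∑ i, c j i ⊗ₜ[k] MvPolynomial.X i
  have hδ : ∀ (x : Pt k A) (v' : V) (F : VPoly k V),
      (vp v').ofConv (evR x (δ F)) = (vp (r.ρ x⁻¹ v')).ofConv F := fun x v' F => by
    suffices h : ((vp v').ofConv.comp (evR x)).comp δ = (vp (r.ρ x⁻¹ v')).ofConv from DFunLike.congr_fun h F
    refine MvPolynomial.algHom_ext fun j => ?_
    simp only [δ, AlgHom.coe_comp, Function.comp_apply, MvPolynomial.aeval_X, map_sum, evR_tmul]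
    conv_rhs => rw [← b.sum_repr v', map_sum]
    simp only [map_smul, vp, ofVec, WithConv.ofConv_toConv, MvPolynomial.aeval_X, map_sum, Finset.sum_apply,
      Pi.smul_apply, smul_eq_mul, ← hc, Module.Basis.coord_apply, Module.Basis.equivFun_apply]
    exact Finset.sum_congr rfl fun i _ => mul_comm _ _
  have hext : ∀ F F' : VPoly k V, (∀ v' : V, (vp v').ofConv F = (vp v').ofConv F') → F = F' := fun F F' h => by
    refine sub_eq_zero.1 (eq_zero_of_forall (k := k) fun y => ?_)
    rw [map_sub, sub_eq_zero, ← vp_pv y]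
    exact h _
  obtain ⟨m, hm, hρ⟩ := exists_algMod v δ (fun F => hext _ _ fun v' => by rw [hδ, inv_one, r.map_one]; rfl)
    (fun x y F => hext _ _ fun v' => by
      rw [hδ, hδ, hδ, mul_inv_rev, r.mul_apply trivial trivial])
  exact ⟨m, hm, fun x F v' => by rw [hρ, hδ]⟩

/-- Restriction of a polynomial function to a line. -/
def lineRes {V : Type u} [AddCommGroup V] [Module k V] [FiniteDimensional k V] (p q : V) :
    VPoly k V →ₐ[k] Polynomial k :=
  MvPolynomial.aeval fun j => Polynomial.C ((Module.finBasis k V).equivFun p j) +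
    Polynomial.C ((Module.finBasis k V).equivFun q j) * Polynomial.X

omit [IsAlgClosed k] in
lemma eval_lineRes {V : Type u} [AddCommGroup V] [Module k V] [FiniteDimensional k V] (p q : V)
    (F : VPoly k V) (t : k) : (lineRes p q F).eval t = (vp (p + t • q)).ofConv F := by
  suffices h : (Polynomial.aeval t).comp (lineRes p q) = (vp (p + t • q)).ofConv from
    (Polynomial.coe_aeval_eq_eval t ▸ rfl : (lineRes p q F).eval t = Polynomial.aeval t (lineRes p q F)).trans
      (DFunLike.congr_fun h F)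
  refine MvPolynomial.algHom_ext fun j => ?_
  simp [lineRes, vp, ofVec, -mul_comm]
  ring

include v in
/-- In a reductive group no function translates by a non-trivial additive character of a subgroup. -/
theorem false_of_additive (hG : VecGrp.IsReductiveGrp k G) (thmAbiv : AGF.ReductiveQuotSeparates k)
    {g : A} {N : Set (Pt k A)} {χ : Pt k A → k} (hg : ∀ y, ∀ x ∈ N, (y * x).ofConv g = y.ofConv g + χ x)
    (hinf : (χ '' N).Infinite) : False := by
  classical
  obtain ⟨W, hWf, hsW, hW⟩ := exists_stable (k := k) ({1, g} : Finset A)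
  haveI := hWf
  set r := funRep W hW
  let one' : W := ⟨1, hsW (by simp)⟩
  let g' : W := ⟨g, hsW (by simp)⟩
  have hone : ∀ x, r.ρ x one' = one' := fun x => Subtype.ext (ext_pts (k := k) fun y => by
    show y.ofConv (rT x (1 : A)) = _
    rw [eval_rT, map_one, map_one])
  have hg' : ∀ x ∈ N, r.ρ x g' = g' + χ x • one' := fun x hx => Subtype.ext (ext_pts (k := k) fun y => by
    show y.ofConv (rT x g) = y.ofConv (g + χ x • (1 : A))
    rw [eval_rT, hg y x hx, map_add, map_smul, map_one, smul_eq_mul, mul_one])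
  obtain ⟨m, hm, hρ⟩ := exists_polyMod v r
  let Z : W → Ideal (VPoly k W) := fun w => vanish (k := k) {vp w}
  have hrad : ∀ w, (Z w).IsRadical := fun w a ha x hx => by
    obtain ⟨n, hn⟩ := ha
    have h2 := hn x hx
    rw [map_pow] at h2
    exact (pow_eq_zero_iff'.1 h2).1
  have hstab : ∀ w, (∀ x, r.ρ x w = w) → m.IsStable (𝟙 G) ((Z w).restrictScalars k) := fun w hw =>
    isStable_of_pts v m fun x F hF y hy => by
      rw [Set.mem_singleton_iff.1 hy, hρ, hw]
      exact hF _ rfl
  have hne : one' ≠ 0 := fun h => one_ne_zero (α := k) (by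
    have := congrArg (fun a => (1 : Pt k A).ofConv (Subtype.val a)) h
    simpa [one'] using this)
  obtain ⟨φ, hφ⟩ := ComodLib.exists_dual_ne (k := k) hne
  obtain ⟨F₁, hF₁⟩ := isReg_pv (V := W) ((φ one')⁻¹ • φ)
  have htop : Z one' ⊔ Z 0 = ⊤ := by
    rw [Ideal.eq_top_iff_one]
    refine Submodule.mem_sup.2 ⟨1 - F₁, fun y hy => ?_, F₁, fun y hy => ?_, sub_add_cancel 1 F₁⟩
    · rw [Set.mem_singleton_iff.1 hy, map_sub, map_one, ← hF₁]
      simp only [pv_vp, LinearMap.smul_apply, smul_eq_mul, inv_mul_cancel₀ hφ, sub_self]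
    · rw [Set.mem_singleton_iff.1 hy, ← hF₁]
      simp only [pv_vp, map_zero]
  have h1 := thmAbiv G hG (VPoly k W) m hm inferInstance _ _ (hrad _) (hrad _) (hstab _ hone)
    (hstab 0 fun x => map_zero _) htop
  rw [Ideal.eq_top_iff_one] at h1
  obtain ⟨u₁, hu₁, u₂, hu₂, hu⟩ := Submodule.mem_sup.1 h1
  let F : VPoly k W := (u₁ : VPoly k W)
  have hF1 : (vp one').ofConv F = 0 := hu₁ _ rfl
  have hF0 : (vp (0 : W)).ofConv F = 1 := by
    have h2 := congrArg (fun t => (vp (0 : W)).ofConv (Subtype.val t)) hu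
    have h3 : (vp (0 : W)).ofConv (u₂ : VPoly k W) = 0 := hu₂ _ rfl
    simpa [h3] using h2
  have hinv : ∀ x w, (vp (r.ρ x w)).ofConv F = (vp w).ofConv F := fun x w => by
    have h2 := hρ x⁻¹ F w
    rw [(fixedUnder_id_iff v m F).1 u₁.2 x⁻¹, inv_inv] at h2
    exact h2.symm
  -- along each line parallel to the fixed vector the invariant is constant
  have hline : ∀ b : k, b ≠ 0 → (vp (b • g' + (1 : k) • one')).ofConv F = (vp (b • g' + (0 : k) • one')).ofConv F := by
    intro b hb
    have hP : lineRes (b • g') one' F = Polynomial.C ((vp (b • g' + (0 : k) • one')).ofConv F) := by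
      refine Polynomial.eq_of_infinite_eval_eq _ _ (Set.Infinite.mono ?_ (hinf.image (fun x _ y _ h => mul_left_cancel₀ hb h)))
      rintro _ ⟨_, ⟨x, hx, rfl⟩, rfl⟩
      show Polynomial.eval (b * χ x) _ = Polynomial.eval (b * χ x) _
      rw [Polynomial.eval_C, eval_lineRes, zero_smul, add_zero, ← hinv x (b • g'), map_smul, hg' x hx, smul_add,
        smul_smul]
    rw [← eval_lineRes, hP, Polynomial.eval_C]
  have h2 : lineRes one' g' F = lineRes 0 g' F := by
    refine Polynomial.eq_of_infinite_eval_eq _ _ (Set.Infinite.mono (fun b hb => ?_) (Set.finite_singleton (0 : k)).infinite_compl)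
    show Polynomial.eval b _ = Polynomial.eval b _
    rw [eval_lineRes, eval_lineRes, zero_add]
    have := hline b hb
    rwa [one_smul, zero_smul, add_zero, add_comm] at this
  have h3 := congrArg (Polynomial.eval 0) h2
  rw [eval_lineRes, eval_lineRes, zero_smul, add_zero, add_zero, hF1, hF0] at h3
  exact zero_ne_one h3

end Contra

section Main

variable {A : Type u} [CommRing A] [HopfAlgebra k A] [Algebra.FiniteType k A] [_root_.IsReduced A]
  {B : Type u} [CommRing B] [HopfAlgebra k B] [Algebra.FiniteType k B] [_root_.IsReduced B]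

/-- An additive character of a subgroup of a subgroup with faithfully flat torsor extends to a function. -/
theorem exists_additive_lift {C : Type u} [CommRing C] [Algebra C A] [Module.FaithfullyFlat C A]
    (f : Pt k B →* Pt k A) (hC : ∀ (c : C) (x : Pt k A) (h : Pt k B),
      (x * f h).ofConv (algebraMap C A c) = x.ofConv (algebraMap C A c))
    (hinj : ∀ (n : ℕ) (a b : Fin n → A), (∀ (x : Pt k A) (h : Pt k B), ∑ i, x.ofConv (a i) * (x * f h).ofConv (b i) = 0) →
      ∑ i, a i ⊗ₜ[C] b i = 0)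
    (hsur : ∀ e : B, ∃ (n : ℕ) (a b : Fin n → A), ∀ (x : Pt k A) (h : Pt k B),
      ∑ i, x.ofConv (a i) * (x * f h).ofConv (b i) = h.ofConv e)
    {N : Subgroup (Pt k B)} {e : B} {χ : Pt k B → k} (he : ∀ h, ∀ x ∈ N, (h * x).ofConv e = h.ofConv e + χ x) :
    ∃ g : A, ∀ (y : Pt k A), ∀ x ∈ N, (y * f x).ofConv g = y.ofConv g + χ x := by
  classical
  obtain ⟨n, a, b, hab⟩ := hsur e
  obtain ⟨W, hWf, hbW, hW⟩ := exists_stable (k := k) (Finset.univ.image b)
  haveI := hWf
  have hb : ∀ i, b i ∈ W := fun i => hbW (by simp)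
  let ξ : N → (Fin n → W) × k := fun x =>
    (fun i => ⟨rT (f (x : Pt k B)) (b i) - b i, W.sub_mem (hW _ _ (hb i)) (hb i)⟩, χ x)
  obtain ⟨s, hs, hspan⟩ := (Submodule.fg_span_iff_fg_span_finset_subset (R := k) (Set.range ξ)).1
    (IsNoetherian.noetherian _)
  choose pre hpre using fun y (hy : y ∈ s) => hs hy
  let pts : Fin s.card → N := fun l => pre _ (s.equivFin.symm l).2
  have hkey : ∀ x : N, ∑ i, a i ⊗ₜ[C] (rT (f (x : Pt k B)) (b i) - b i) =
      (1 : A) ⊗ₜ[C] algebraMap k A (χ x) := fun x => by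
    have h0 := hinj (n + 1) (Fin.snoc a (1 : A)) (Fin.snoc (fun i => rT (f (x : Pt k B)) (b i) - b i) (- algebraMap k A (χ x)))
      fun y h => by
        simp only [Fin.sum_univ_castSucc, Fin.snoc_castSucc, Fin.snoc_last, map_sub, eval_rT, mul_sub,
          Finset.sum_sub_distrib, map_one, one_mul, map_neg, AlgHom.commutes, Algebra.algebraMap_self, RingHom.id_apply]
        have e1 := hab y (h * (x : Pt k B))
        rw [_root_.map_mul, ← mul_assoc] at e1
        rw [e1, hab y h, he h x x.2]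
        ring
    simp only [Fin.sum_univ_castSucc, Fin.snoc_castSucc, Fin.snoc_last, TensorProduct.tmul_neg] at h0
    exact add_neg_eq_zero.1 h0
  obtain ⟨c, hc⟩ := exists_combination (C := C) (fun i l => rT (f (pts l : Pt k B)) (b i) - b i)
    (fun l => algebraMap k A (χ (pts l))) a fun l => hkey (pts l)
  let L : (Fin n → W) × k →ₗ[k] A :=
    (∑ i, LinearMap.mulLeft k (algebraMap C A (c i)) ∘ₗ W.subtype ∘ₗ LinearMap.proj i) ∘ₗ LinearMap.fst k _ _ -
      Algebra.linearMap k A ∘ₗ LinearMap.snd k _ _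
  have hL : ∀ z, L z = ∑ i, algebraMap C A (c i) * (z.1 i : A) - algebraMap k A z.2 := fun z => by
    simp [L, LinearMap.sum_apply]
  have hzero : ∀ x : N, L (ξ x) = 0 := by
    intro x
    have hmem : ξ x ∈ Submodule.span k (s : Set ((Fin n → W) × k)) := hspan ▸ Submodule.subset_span ⟨x, rfl⟩
    refine (Submodule.span_le (p := LinearMap.ker L)).2 ?_ hmem
    intro z hz
    have hz' := hc (s.equivFin ⟨z, hz⟩)
    simp only [pts, Equiv.symm_apply_apply, Algebra.smul_def] at hz'
    show L z = 0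
    rw [hL, sub_eq_zero, ← hpre z hz]
    exact hz'
  refine ⟨∑ i, algebraMap C A (c i) * b i, fun y x hx => ?_⟩
  have h := congrArg (fun t => y.ofConv t) (hzero ⟨x, hx⟩)
  simp only [hL, ξ, map_sub, map_sum, map_mul, map_zero, AlgHom.commutes, Algebra.algebraMap_self, RingHom.id_apply,
    eval_rT, mul_sub, Finset.sum_sub_distrib] at h
  simp only [map_sum, map_mul, hC]
  linear_combination h

end Main

end Groth.Agent.ObsLib

end
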