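import Groth.Agent.ObsLib.SemiFrac
import Groth.Agent.ObsLib.AlgMod
import Groth.Agent.ObsLib.Setup
import Mathlib.Algebra.TrivSqZeroExt.Basic

/-!
# Modules over algebras with group actions through trivial square-zero extensions
-/

set_option autoImplicit false
set_option linter.style.haveILetI false
set_option linter.unusedSectionVars false
set_option backward.isDefEq.respectTransparency false
set_option backward.isDefEq.respectTransparency.types false
set_option maxHeartbeats 2000000
set_option synthInstance.maxHeartbeats 400000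

noncomputable section

universe u

open CategoryTheory MonoidalCategory CartesianMonoidalCategory AlgebraicGeometry WithConv
open scoped MonObj TensorProduct
open CoactBr (sp pt)

namespace Groth.Agent.ObsLib

open BorelLib BlowRegLib TrivSqZeroExt

attribute [-instance] CategoryTheory.Hom.commGroup
attribute [local instance] pTop pTopTensor

variable {k : Type u} [Field k] [IsAlgClosed k] {A : Type u} [CommRing A] [HopfAlgebra k A] [Algebra.FiniteType k A]
  [_root_.IsReduced A] {G : Over (Spec (CommRingCat.of k))} [GrpObj G] (v : sp k A ≅ G) [IsMonHom v.hom]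

variable {R : Type u} [CommRing R] [Algebra k R]

/-- The unit is fixed by points. -/
lemma toRep_one (m : VecGrp.GMod G R) (hm : m.IsMult) (g : Pt k A) : (toRep v m).ρ g 1 = 1 := by
  have h := toRep_mul v m hm g 1 ((toRep v m).ρ g⁻¹ 1)
  rw [_root_.one_mul, ← (toRep v m).mul_apply trivial trivial, mul_inv_cancel, (toRep v m).map_one,
    Module.End.one_apply, _root_.mul_one] at h
  exact h.symm

variable {M : Type u} [AddCommGroup M] [Module R M] [Module k M] [IsScalarTower k R M]

/-- Points act compatibly on a module. -/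
lemma toRep_smul (mR : VecGrp.GMod G R) (mM : VecGrp.GMod G M) (hc : VecGrp.GMod.IsCompat mR mM) (g : Pt k A)
    (a : R) (x : M) : (toRep v mM).ρ g (a • x) = (toRep v mR).ρ g a • (toRep v mM).ρ g x := by
  refine (TensorProduct.lid k M).symm.injective ?_
  show (1 : k) ⊗ₜ[k] (toRep v mM).ρ g (a • x) = (1 : k) ⊗ₜ[k] ((toRep v mR).ρ g a • (toRep v mM).ρ g x)
  have e : ∀ (b : R) (y : M), VecGrp.GMod.smulW k R M k ((1 : k) ⊗ₜ[k] b) ((1 : k) ⊗ₜ[k] y) = (1 : k) ⊗ₜ[k] (b • y) := by
    intro b y
    simp [VecGrp.GMod.smulW, TensorProduct.map₂_apply_tmul]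
  have h := hc k (ptk v g) ((1 : k) ⊗ₜ[k] a) ((1 : k) ⊗ₜ[k] x)
  rw [e, rho_ptk, rho_ptk, rho_ptk, e] at h
  exact h

variable [Module Rᵐᵒᵖ M] [IsCentralScalar R M] [IsScalarTower k Rᵐᵒᵖ M]

/-- The extension of the two universal values. -/
def extVal (mR : VecGrp.GMod G R) (mM : VecGrp.GMod G M) : TrivSqZeroExt R M →ₗ[k] A ⊗[k] TrivSqZeroExt R M :=
  ((inlAlgHom k R M).toLinearMap.lTensor A ∘ₗ uval v mR) ∘ₗ (fstHom k R M).toLinearMap +
    (((inrHom R M).restrictScalars k).lTensor A ∘ₗ uval v mM) ∘ₗ (sndHom R M).restrictScalars k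

lemma evR_extVal (mR : VecGrp.GMod G R) (mM : VecGrp.GMod G M) (x : Pt k A) (u : TrivSqZeroExt R M) :
    evR x (extVal v mR mM u) = inl ((toRep v mR).ρ x u.fst) + inr ((toRep v mM).ρ x u.snd) := by
  have h1 : ∀ z : A ⊗[k] R, evR x ((inlAlgHom k R M).toLinearMap.lTensor A z) =
      inl (TensorProduct.lid k R (x.ofConv.toLinearMap.rTensor R z)) := fun z => by
    induction z using TensorProduct.induction_on with
    | zero => simp
    | add p q hp hq => simp only [map_add, hp, hq, inl_add]
    | tmul p q =>
      rw [LinearMap.lTensor_tmul, evR_tmul, LinearMap.rTensor_tmul, TensorProduct.lid_tmul]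
      exact (map_smul (inlAlgHom k R M) (x.ofConv p) q).symm
  have h2 : ∀ z : A ⊗[k] M, evR x (((inrHom R M).restrictScalars k).lTensor A z) =
      inr (TensorProduct.lid k M (x.ofConv.toLinearMap.rTensor M z)) := fun z => by
    induction z using TensorProduct.induction_on with
    | zero => simp
    | add p q hp hq => simp only [map_add, hp, hq, inr_add]
    | tmul p q =>
      rw [LinearMap.lTensor_tmul, evR_tmul, LinearMap.rTensor_tmul, TensorProduct.lid_tmul]
      exact (((inrHom R M).restrictScalars k).map_smul (x.ofConv p) q).symm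
  simp only [extVal, LinearMap.add_apply, LinearMap.coe_comp, Function.comp_apply, map_add, h1, h2]
  rfl

variable (mR : VecGrp.GMod G R) (hR : mR.IsMult) (mM : VecGrp.GMod G M) (hc : VecGrp.GMod.IsCompat mR mM)
include hR hc

/-- **The action on the trivial square-zero extension.** -/
theorem exists_trivMod : ∃ m : VecGrp.GMod G (TrivSqZeroExt R M), m.IsMult ∧
    ∀ x u, (toRep v m).ρ x u = inl ((toRep v mR).ρ x u.fst) + inr ((toRep v mM).ρ x u.snd) := by
  let δ : TrivSqZeroExt R M →ₐ[k] A ⊗[k] TrivSqZeroExt R M := AlgHom.ofLinearMap (extVal v mR mM)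
    (evR_ext fun x => by
      rw [evR_extVal, map_one, fst_one, snd_one, map_zero, toRep_one v mR hR, inr_zero, add_zero, inl_one])
    fun p q => evR_ext fun x => by
      rw [map_mul (evR x), evR_extVal, evR_extVal, evR_extVal, fst_mul, snd_mul, toRep_mul v mR hR, map_add, op_smul_eq_smul,
        toRep_smul v mR mM hc, toRep_smul v mR mM hc]
      ext <;> simp [op_smul_eq_smul]
  have hδ : ∀ x u, evR x (δ u) = inl ((toRep v mR).ρ x u.fst) + inr ((toRep v mM).ρ x u.snd) := evR_extVal v mR mM
  have h1 : ∀ u, evR 1 (δ u) = u := fun u => by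
    rw [hδ, (toRep v mR).map_one, (toRep v mM).map_one, Module.End.one_apply, Module.End.one_apply,
      inl_fst_add_inr_snd_eq]
  have h2 : ∀ x y u, evR (x * y) (δ u) = evR x (δ (evR y (δ u))) := fun x y u => by
    rw [hδ, hδ, hδ]
    simp only [fst_add, fst_inl, fst_inr, add_zero, snd_add, snd_inl, snd_inr, zero_add]
    rw [(toRep v mR).mul_apply trivial trivial, (toRep v mM).mul_apply trivial trivial]
  obtain ⟨m, hm, h⟩ := exists_algMod v δ h1 h2
  exact ⟨m, hm, fun x u => (h x u).trans (hδ x u)⟩

omit hR hc in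
/-- A finitely generated extension has a finite module. -/
theorem finite_of_finiteType_ext [Algebra.FiniteType k (TrivSqZeroExt R M)] : Module.Finite R M := by
  classical
  obtain ⟨t, ht⟩ := (inferInstance : Algebra.FiniteType k (TrivSqZeroExt R M)).out
  refine ⟨⟨t.image snd, eq_top_iff.2 fun x _ => ?_⟩⟩
  have h : (inr x : TrivSqZeroExt R M) ∈ Algebra.adjoin k (↑t : Set (TrivSqZeroExt R M)) := ht ▸ trivial
  suffices ∀ p ∈ Algebra.adjoin k (↑t : Set (TrivSqZeroExt R M)), snd p ∈ Submodule.span R (↑(t.image snd) : Set M) by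
    simpa using this _ h
  intro p hp
  induction hp using Algebra.adjoin_induction with
  | mem y hy => exact Submodule.subset_span (Finset.mem_coe.2 (Finset.mem_image_of_mem _ hy))
  | algebraMap c => rw [algebraMap_eq_inl', snd_inl]; exact zero_mem _
  | add p q _ _ hp hq => rw [snd_add]; exact add_mem hp hq
  | mul p q _ _ hp hq =>
    rw [snd_mul, op_smul_eq_smul]
    exact add_mem (Submodule.smul_mem _ _ hq) (Submodule.smul_mem _ _ hp)

omit hR hc in
/-- A finite module gives a finitely generated extension. -/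
theorem finiteType_ext [Algebra.FiniteType k R] [Module.Finite R M] : Algebra.FiniteType k (TrivSqZeroExt R M) := by
  classical
  obtain ⟨t, ht⟩ := (inferInstance : Algebra.FiniteType k R).out
  obtain ⟨s, hs⟩ := (inferInstance : Module.Finite R M).fg_top
  refine ⟨⟨t.image inl ∪ s.image inr, eq_top_iff.2 fun p _ => ?_⟩⟩
  rw [← inl_fst_add_inr_snd_eq p]
  have hl : ∀ a : R, (inl a : TrivSqZeroExt R M) ∈ Algebra.adjoin k (↑(t.image inl ∪ s.image inr) : Set (TrivSqZeroExt R M)) := by
    intro a
    have h : a ∈ Algebra.adjoin k (↑t : Set R) := ht ▸ trivial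
    refine (Algebra.adjoin_le (S := (Algebra.adjoin k _).comap (inlAlgHom k R M)) fun y hy => ?_) h
    exact Algebra.subset_adjoin (Finset.mem_coe.2 (Finset.mem_union_left _ (Finset.mem_image_of_mem _ hy)))
  refine add_mem (hl _) ?_
  have h : p.snd ∈ Submodule.span R (↑s : Set M) := hs ▸ trivial
  generalize p.snd = z at h ⊢
  induction h using Submodule.span_induction with
  | mem y hy => exact Algebra.subset_adjoin (Finset.mem_coe.2 (Finset.mem_union_right _ (Finset.mem_image_of_mem _ hy)))
  | zero => rw [inr_zero]; exact zero_mem _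
  | add y z _ _ h1 h2 => rw [inr_add]; exact add_mem h1 h2
  | smul a y _ h1 => rw [← inl_mul_inr]; exact mul_mem (hl a) h1

end Groth.Agent.ObsLib

end
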