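import Groth.Agent.ObsLib.Family

/-!
# A regular one-parameter subgroup contracting the unipotent part of a Borel subgroup
-/

set_option autoImplicit false
set_option linter.style.haveILetI false
set_option linter.unusedSectionVars false
set_option backward.isDefEq.respectTransparency false
set_option maxHeartbeats 2000000
set_option synthInstance.maxHeartbeats 400000

noncomputable section

universe u

open WithConv LaurentPolynomial
open scoped TensorProduct

namespace Groth.Agent.ObsLib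

open BorelLib

attribute [local instance] pTop pTopTensor

variable {k : Type u} [Field k] [IsAlgClosed k] {A : Type u} [CommRing A] [HopfAlgebra k A] [Algebra.FiniteType k A]

/-- Generators of the coordinate ring which are weight vectors for a torus. -/
theorem exists_entries [_root_.IsReduced A] {T : Subgroup (Pt k A)} (hT : IsTor T) :
    ∃ (σ : Type u) (_ : Fintype σ) (e : σ → A) (α : σ → Pt k A → k), Algebra.adjoin k (Set.range e) = ⊤ ∧
      (∀ s, IsReg (α s)) ∧ (∀ s, α s 1 = 1) ∧ (∀ s, ∀ t ∈ T, ∀ t' ∈ T, α s (t * t') = α s t * α s t') ∧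
      ∀ s, ∀ t ∈ T, ∀ g : Pt k A, (t * g * t⁻¹).ofConv (e s) = α s t * g.ofConv (e s) := by
  classical
  obtain ⟨F, hF⟩ := Algebra.FiniteType.out (R := k) (A := A)
  obtain ⟨W, hW, hFW, hsub⟩ := HopfFF.exists_finite_subcomod (k := k) F
  letI := HopfFF.selfComod (k := k) (A := A)
  let r : RegRep (⊤ : Subgroup (Pt k A)) A :=
    { ρ := fun g => LieKolchinLib.rep A g
      map_one := map_one _
      map_mul := fun g _ h _ => map_mul _ g h
      reg := fun φ v => ⟨ComodLib.coeff (A := A) φ v, fun g => LieKolchinLib.apply_rep φ g v⟩ }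
  have hs : r.Stable ⊤ W := fun g _ w hw => by
    obtain ⟨t, ht⟩ := hsub w hw
    show ComodLib.slice (LieKolchinLib.fn g).ofConv (CoalgebraStruct.comul (R := k) w) ∈ W
    rw [← ht]
    clear ht
    induction t using TensorProduct.induction_on with
    | zero => simp
    | add a b ha hb => rw [map_add, map_add]; exact W.add_mem ha hb
    | tmul a b => simpa using W.smul_mem _ a.2
  obtain ⟨r₁, hr₁⟩ := r.exists_sub hs
  haveI := hW
  obtain ⟨ι, _, b, χ, hχ, hb⟩ := hT.exists_weight_basis r₁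
  choose e he using fun p : ι × ι => r₁.reg (b.coord p.1) (b p.2)
  have hmul : ∀ g h : Pt k A, r₁.ρ (g * h) = r₁.ρ g * r₁.ρ h := fun g h => r₁.map_mul g trivial h trivial
  have h1 : ∀ i, χ i 1 = 1 := fun i => by
    have := hb i 1 T.one_mem
    rw [r₁.map_one, Module.End.one_apply] at this
    exact smul_left_injective k (b.ne_zero i) (by simpa using this.symm)
  have hm : ∀ i, ∀ t ∈ T, ∀ t' ∈ T, χ i (t * t') = χ i t * χ i t' := fun i t ht t' ht' => by
    have := hb i _ (T.mul_mem ht ht')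
    rw [hmul, Module.End.mul_apply, hb i t' ht', map_smul, hb i t ht, smul_smul] at this
    exact (smul_left_injective k (b.ne_zero i) this).symm.trans (mul_comm _ _)
  have hcoord : ∀ t ∈ T, ∀ v i, b.coord i (r₁.ρ t v) = χ i t * b.coord i v := fun t ht v i => by
    have e' : (b.coord i).comp (r₁.ρ t) = χ i t • b.coord i := b.ext fun j => by
      rw [LinearMap.comp_apply, LinearMap.smul_apply, hb j t ht, map_smul, Module.Basis.coord_apply,
        b.repr_self, smul_eq_mul, smul_eq_mul, Finsupp.single_apply]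
      split_ifs with h
      · rw [h]
      · rw [mul_zero, mul_zero]
    exact LinearMap.congr_fun e' v
  refine ⟨ι × ι, inferInstance, e, fun p t => χ p.1 t * χ p.2 t⁻¹, ?_, fun p => ?_, fun p => ?_, fun p t ht t' ht' => ?_,
    fun p t ht g => ?_⟩
  · rw [eq_top_iff, ← hF, Algebra.adjoin_le_iff]
    intro a ha
    let w : W := ⟨a, hFW a ha⟩
    let ε : W →ₗ[k] k := (CoalgebraStruct.counit (R := k) (A := A)).comp W.subtype
    suffices hsum : a = ∑ i, ∑ j, (ε (b i) * b.repr w j) • e (i, j) by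
      rw [hsum]
      exact Subalgebra.sum_mem _ fun i _ => Subalgebra.sum_mem _ fun j _ =>
        Subalgebra.smul_mem _ (Algebra.subset_adjoin (Set.mem_range_self (i, j))) _
    refine sub_eq_zero.1 (BorelLib.eq_zero_of_forall (k := k) fun g => ?_)
    rw [map_sub, sub_eq_zero]
    have h2 : CoalgebraStruct.counit (R := k) (r.ρ g a) = g.ofConv a := by
      have := LieKolchinLib.apply_rep (A := A) (V := A) (CoalgebraStruct.counit (R := k)) g a
      rwa [ComodLib.coeff_counit] at this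
    rw [← h2, ← hr₁ g trivial w]
    show ε (r₁.ρ g w) = _
    conv_lhs => rw [← b.sum_repr w, map_sum, map_sum]
    simp only [map_sum]
    conv_rhs => rw [Finset.sum_comm]
    refine Finset.sum_congr rfl fun j _ => ?_
    rw [map_smul, map_smul, smul_eq_mul]
    conv_lhs => rw [← b.sum_repr (r₁.ρ g (b j)), map_sum, Finset.mul_sum]
    refine Finset.sum_congr rfl fun i _ => ?_
    rw [map_smul, map_smul, ← he (i, j)]
    dsimp only
    simp only [smul_eq_mul, Module.Basis.coord_apply]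
    ring
  · exact (hχ p.1).mul ((hχ p.2).comp IsMor.id.inv)
  · dsimp only
    rw [inv_one, h1, h1, mul_one]
  · dsimp only
    rw [hm _ t ht t' ht', mul_inv_rev, hm _ _ (T.inv_mem ht') _ (T.inv_mem ht)]
    ring
  · rw [← he p, ← he p]
    dsimp only
    rw [hmul, hmul, Module.End.mul_apply, hb p.2 _ (T.inv_mem ht), map_smul, map_smul, Module.End.mul_apply,
      hcoord t ht, smul_eq_mul]
    ring

/-- A character non-trivial on a torus is non-trivial on a one-parameter subgroup of it. -/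
theorem exists_cochar_sep {S : Subgroup (Pt k A)} (hS : IsTor S) {χ : Pt k A → k} (hχ : IsReg χ) (h1 : χ 1 = 1)
    (hmul : ∀ s ∈ S, ∀ t ∈ S, χ (s * t) = χ s * χ t) {s₀ : Pt k A} (hs₀ : s₀ ∈ S) (hne : χ s₀ ≠ 1) :
    ∃ mu : A →ₐc[k] k[T;T⁻¹], (∀ z : kˣ, DynLib.lamAt mu z ∈ S) ∧ ∃ z : kˣ, χ (DynLib.lamAt mu z) ≠ 1 := by
  classical
  obtain ⟨B, _, _, f, hft, hred, hfm, hind, hinj, hrange, φ, hφs, hfφ⟩ := exists_frame hS.closed
  haveI := hft; haveI := hred
  have hc : ∀ x y : Pt k B, x * y = y * x := fun x y => hinj (by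
    rw [map_mul, map_mul]; exact hS.comm _ (hrange ▸ ⟨x, rfl⟩) _ (hrange ▸ ⟨y, rfl⟩))
  have hconn : IsPreconnected (Set.univ : Set (Pt k B)) := isPreconnected_univ_frame hind (hrange.symm ▸ hS.conn)
  have hD : (Set.univ : Set (Pt k B)) ⊆ closure {x | IsPT x} := fun x _ => by
    rw [hind.closure_eq_preimage_closure_image]
    refine closure_mono ?_ (hS.dense (hrange ▸ ⟨x, rfl⟩ : f x ∈ S))
    rintro y ⟨hy, hyt⟩
    rw [← hrange] at hy
    obtain ⟨z, rfl⟩ := hy
    exact ⟨z, hyt.of_map hinj, rfl⟩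
  obtain ⟨n, ⟨E⟩⟩ := exists_glBasis hc hconn hD
  have hmem : ∀ x, f x ∈ S := fun x => hrange ▸ ⟨x, rfl⟩
  obtain ⟨a, ha⟩ := hχ
  have hv : ∀ x, χ (f x) = x.ofConv (φ a) := fun x => by rw [ha, hfφ]; rfl
  have hg : IsGroupLikeElem k (φ a) := by
    refine isGroupLikeElem_of_mult ?_ fun x y => ?_
    · rw [← hv, map_one, h1]
    · rw [← hv, ← hv, ← hv, map_mul, hmul _ (hmem x) _ (hmem y)]
  obtain ⟨m, hm⟩ : ∃ m, φ a = E.e m := by
    by_contra! hne
    have hli : LinearIndepOn k id {e : B | IsGroupLikeElem k e} := linearIndepOn_isGroupLikeElem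
    have hsub : LinearIndepOn k id (insert (φ a) (Set.range E.e)) := hli.mono (by
      rintro y (rfl | ⟨a', rfl⟩)
      exacts [hg, ⟨E.counit_e a', E.comul_e a'⟩])
    have hnot : φ a ∉ Set.range E.e := fun ⟨a', ha'⟩ => hne a' ha'.symm
    refine ((linearIndepOn_id_insert hnot).1 hsub).2 ?_
    rw [E.e.span_eq]
    exact Submodule.mem_top
  obtain ⟨x₀, rfl⟩ : s₀ ∈ f.range := hrange.symm ▸ hs₀
  obtain ⟨i, hi⟩ : ∃ i, m i ≠ 0 := by
    by_contra! h
    refine hne ?_
    rw [hv, hm, show m = 0 from funext h, E.e_zero, map_one]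
  let d : (Fin n → ℤ) →+ ℤ := Pi.evalAddMonoidHom (fun _ : Fin n => ℤ) i
  let L : B →ₗ[k] k[T;T⁻¹] := E.e.constr k fun a => LaurentPolynomial.T (d a)
  have hL : ∀ a, L (E.e a) = LaurentPolynomial.T (d a) := fun a => E.e.constr_basis k _ a
  have hLmul : ∀ x y, L (x * y) = L x * L y := fun x y => by
    have key : ∀ a y, L (E.e a * y) = L (E.e a) * L y := fun a y => by
      have e : L ∘ₗ LinearMap.mulLeft k (E.e a) = LinearMap.mulLeft k (L (E.e a)) ∘ₗ L :=
        E.e.ext fun a' => by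
          show L (E.e a * E.e a') = L (E.e a) * L (E.e a')
          rw [E.e_mul, hL, hL, hL, map_add, LaurentPolynomial.T_add]
      exact LinearMap.congr_fun e y
    have e : L ∘ₗ LinearMap.mulRight k y = LinearMap.mulRight k (L y) ∘ₗ L := E.e.ext fun a => key a y
    exact LinearMap.congr_fun e x
  let mk : B →ₐ[k] k[T;T⁻¹] :=
    AlgHom.ofLinearMap L (by rw [← E.e_zero, hL, map_zero, LaurentPolynomial.T_zero]) hLmul
  have hmk : ∀ a, mk (E.e a) = LaurentPolynomial.T (d a) := hL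
  have hext : ∀ x y : Pt k B, (∀ a, x.ofConv (E.e a) = y.ofConv (E.e a)) → x = y := fun x y h =>
    WithConv.ext (AlgHom.toLinearMap_injective (E.e.ext h))
  obtain ⟨mu, hmu⟩ := exists_cochar_of_mor (A := A) (F := fun x => f (pull mk x)) (hfm.comp (IsMor.pull mk))
    (by rw [show pull mk (1 : Pt k k[T;T⁻¹]) = 1 from hext _ _ fun a => ?_, map_one]
        show (1 : Pt k k[T;T⁻¹]).ofConv (mk (E.e a)) = _
        rw [hmk, AlgHom.convOne_apply, AlgHom.convOne_apply, E.counit_e, counit_T])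
    fun x y => by
      rw [show pull mk (x * y) = pull mk x * pull mk y from hext _ _ fun a => ?_, map_mul]
      show (x * y).ofConv (mk (E.e a)) = _
      rw [hmk, mul_ofConv, mul_ofConv, comul_T, E.comul_e, pair_tmul, pair_tmul]
      show x.ofConv (LaurentPolynomial.T (d a)) * y.ofConv (LaurentPolynomial.T (d a)) =
        x.ofConv (mk (E.e a)) * y.ofConv (mk (E.e a))
      rw [hmk]
  refine ⟨mu, fun z => hmu z ▸ hmem _, ?_⟩
  obtain ⟨z, hz⟩ := exists_unit_pow_ne (k := k) hi
  refine ⟨z, fun h => hz ?_⟩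
  rw [hmu, hv, hm] at h
  have : DynLib.ev (Algebra.ofId k k) z (mk (E.e m)) = 1 := h
  rw [hmk, DynLib.ev_T] at this
  exact Units.ext this

section Main

variable [IsDomain A] (hred : IsRedPts k A)
include hred

/-- **Nothing of a Borel subgroup containing the non-negative part is contracted by the inverse.** -/
theorem eq_bot_of_contracted {T B : Subgroup (Pt k A)} (hT : IsMaxTor ⊤ T) (hB : IsBor ⊤ B) (hTB : T ≤ B)
    {lam lamNeg : A →ₐc[k] k[T;T⁻¹]} (hneg : (lamNeg : A →ₐ[k] k[T;T⁻¹]) = Dyn.negParam k A lam)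
    (W : DynLib.WeightRep k lam) (hlT : ∀ z : kˣ, DynLib.lamAt lam z ∈ T)
    (hreg : ∀ g : Pt k A, (∀ z : kˣ, g * DynLib.lamAt lam z = DynLib.lamAt lam z * g) → ∀ s ∈ T, g * s = s * g)
    (hP : neut (upSub W) ≤ B) : B ⊓ levSub W (fun i => - W.w i) 0 = ⊥ := by
  classical
  haveI : _root_.IsReduced A := inferInstance
  have hirr := isIrreducible_univ (k := k) (R := A)
  have hconn : IsPreconnected (Set.univ : Set (Pt k A)) := hirr.isConnected.isPreconnected
  have hKc : IsClosed ((⊤ : Subgroup (Pt k A)) : Set (Pt k A)) := by rw [Subgroup.coe_top]; exact isClosed_univ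
  have hK : IsPreconnected ((⊤ : Subgroup (Pt k A)) : Set (Pt k A)) := by rwa [Subgroup.coe_top]
  have hnT : ∀ z : kˣ, DynLib.lamAt lamNeg z ∈ T := fun z => by
    rw [DynLib.lamAt_neg hneg]; exact hlT _
  have hcommT : ∀ t ∈ T, ∀ z : kˣ, t * DynLib.lamAt lamNeg z = DynLib.lamAt lamNeg z * t :=
    fun t ht z => hT.tor.comm t ht _ (hnT z)
  set N := B ⊓ levSub W (fun i => - W.w i) 0 with hNdef
  have hNc : IsClosed (N : Set (Pt k A)) := hB.closed.inter (isClosed_levSub W _ 0)
  have hlev : ∀ g, g ∈ levSub W (fun i => - W.w i) 0 ↔ Fam lamNeg g 1 := fun g => by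
    rw [fam_one_iff_limIsOne, W.limIsOne_neg_iff_low1 hneg]
    refine forall₂_congr fun i j => ?_
    rw [Matrix.sub_apply, sub_eq_zero]
    constructor
    · exact fun h hij => h (by push_cast; omega)
    · exact fun h hij => h (by push_cast at hij; omega)
  have hNconj : ∀ g ∈ N, ∀ t ∈ T, t * g * t⁻¹ ∈ N := fun g hg t ht =>
    ⟨B.mul_mem (B.mul_mem (hTB ht) hg.1) (B.inv_mem (hTB ht)), (hlev _).2 (by
      have := ((hlev g).1 hg.2).conj t (hcommT t ht)
      rwa [mul_one, mul_inv_cancel] at this)⟩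
  obtain ⟨σ, _, e, α, he, hαreg, hα1, hαmul, hconjT⟩ := exists_entries hT.tor
  have hext : ∀ x y : Pt k A, (∀ s, x.ofConv (e s) = y.ofConv (e s)) → x = y := fun x y h =>
    WithConv.ext (AlgHom.ext_of_adjoin_eq_top he (by rintro _ ⟨s, rfl⟩; exact h s))
  have hcur : ∀ (l : A →ₐc[k] k[T;T⁻¹]), (∀ z : kˣ, DynLib.lamAt l z ∈ T) → ∀ (z : kˣ) (g : Pt k A) (s : σ),
      (DynLib.lamAt l z * g * DynLib.lamAt l z⁻¹).ofConv (e s) = α s (DynLib.lamAt l z) * g.ofConv (e s) := by
    intro l hl z g s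
    rw [DynLib.lamAt_inv]; exact hconjT s _ (hl z) g
  choose c hc using fun s => exists_exponent (hαreg s) (hα1 s) (hαmul s) hnT
  -- support
  let supp : Pt k A → Finset σ := fun y => Finset.univ.filter fun s => y.ofConv (e s) ≠ (1 : Pt k A).ofConv (e s)
  have hsupp : ∀ y s, s ∈ supp y ↔ y.ofConv (e s) ≠ (1 : Pt k A).ofConv (e s) := fun y s => by simp [supp]
  have hfix : ∀ s, (1 : Pt k A).ofConv (e s) ≠ 0 → ∀ t ∈ T, α s t = 1 := fun s h t ht => by
    have h' := hconjT s t ht 1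
    rw [mul_one, mul_inv_cancel] at h'
    exact (mul_eq_right₀ h).1 h'.symm
  have hNs : ∀ y ∈ N, ∀ s ∈ supp y, 0 < c s ∧ (1 : Pt k A).ofConv (e s) = 0 := by
    intro y hy s hs
    rw [hsupp] at hs
    have h10 : (1 : Pt k A).ofConv (e s) ≠ 0 → c s = 0 := fun h =>
      eq_of_zpow_eq (k := k) fun z => Units.ext (by rw [← hc, hfix s h _ (hnT z), zpow_zero, Units.val_one])
    by_cases hy0 : y.ofConv (e s) = 0
    · exfalso
      have h := hfix s (fun h => hs (hy0.trans h.symm))
      have := ((hlev y).1 hy.2).mem (Y := {g | g.ofConv (e s) = 0}) ((IsReg.eval _).isClosed_eq (IsReg.const 0))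
        (fun z => by rw [Set.mem_setOf_eq, hcur _ hnT, hy0, mul_zero])
      exact hs (hy0.trans this.symm)
    obtain ⟨h0, hp⟩ := ((hlev y).1 hy.2).exponent (fun z => by rw [hcur _ hnT, hc]) hy0
    have hcs : c s ≠ 0 := fun h => hs (by rw [hp, if_pos h])
    exact ⟨lt_of_le_of_ne h0 hcs.symm, by_contra fun h => hcs (h10 h)⟩
  by_contra hN
  obtain ⟨y₁, hy₁, hy₁ne⟩ : ∃ y ∈ N, y ≠ 1 := by
    by_contra! h
    exact hN (eq_bot_iff.2 fun x hx => Subgroup.mem_bot.2 (h x hx))
  have hex : ∃ m : ℕ, ∃ y ∈ N, y ≠ 1 ∧ (supp y).card = m := ⟨_, y₁, hy₁, hy₁ne, rfl⟩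
  obtain ⟨y, hy, hyne, hcard⟩ := Nat.find_spec hex
  have hmin : ∀ p ∈ N, (supp p).card < (supp y).card → p = 1 := fun p hp hlt => by
    by_contra hpne
    exact Nat.find_min hex (hcard ▸ hlt) ⟨p, hp, hpne, rfl⟩
  obtain ⟨s₀, hs₀⟩ : (supp y).Nonempty := by
    by_contra h
    refine hyne (hext _ _ fun s => ?_)
    by_contra hs
    exact h ⟨s, (hsupp y s).2 hs⟩
  have hc₀ := (hNs y hy s₀ hs₀).1
  -- the weights of a minimal point are proportional
  have hprop : ∀ s ∈ supp y, ∀ t ∈ T, α s t ^ (c s₀).toNat = α s₀ t ^ (c s).toNat := by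
    intro s hs t ht
    have hcs := (hNs y hy s hs).1
    by_contra hne
    let γ : Pt k A → k := fun x => α s x ^ (c s₀).toNat * α s₀ x⁻¹ ^ (c s).toNat
    have hγreg : IsReg γ := by
      have hpow : ∀ {f : Pt k A → k}, IsReg f → ∀ n : ℕ, IsReg fun x => f x ^ n := fun {f} hf n => by
        induction n with
        | zero => simpa using IsReg.const (k := k) (R := A) 1
        | succ n ih => simpa [pow_succ] using ih.mul hf
      exact (hpow (hαreg s) _).mul (hpow ((hαreg s₀).comp IsMor.id.inv) _)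
    have hγ1 : γ 1 = 1 := by simp [γ, hα1]
    have hγmul : ∀ a ∈ T, ∀ b ∈ T, γ (a * b) = γ a * γ b := fun a ha b hb => by
      simp only [γ, hαmul s a ha b hb, mul_inv_rev, hαmul s₀ _ (T.inv_mem hb) _ (T.inv_mem ha), mul_pow]
      ring
    have hinv : ∀ (s : σ), ∀ x ∈ T, α s x⁻¹ * α s x = 1 := fun s x hx => by
      rw [← hαmul s _ (T.inv_mem hx) _ hx, inv_mul_cancel, hα1]
    obtain ⟨mu, hmu, z₀, hz₀⟩ := exists_cochar_sep hT.tor hγreg hγ1 hγmul ht (fun h => hne (by
      calc α s t ^ (c s₀).toNat = γ t * α s₀ t ^ (c s).toNat := by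
            simp only [γ]; rw [mul_assoc, ← mul_pow, hinv s₀ t ht, one_pow, mul_one]
        _ = _ := by rw [h, one_mul]))
    choose μ hμ using fun s => exists_exponent (hαreg s) (hα1 s) (hαmul s) hmu
    obtain ⟨s₁, hs₁, hs₁min⟩ := (supp y).exists_min_image (fun s => (μ s : ℚ) / c s) ⟨s₀, hs₀⟩
    have hc₁ := (hNs y hy s₁ hs₁).1
    obtain ⟨nu, hnu, hnuT⟩ := exists_comb hT.tor.comm hmu hnT (c s₁) (-μ s₁)
    let d : σ → ℤ := fun s => c s₁ * μ s - μ s₁ * c s
    have hd : ∀ (s : σ) (z : kˣ), α s (DynLib.lamAt nu z) = ((z ^ d s : kˣ) : k) := by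
      intro s z
      rw [hnu, ← lamHom_apply, ← lamHom_apply, ← map_zpow, ← map_zpow, lamHom_apply,
        lamHom_apply, hαmul s _ (hmu _) _ (hnT _), hμ, hc, ← Units.val_mul, ← zpow_mul, ← zpow_mul, ← zpow_add]
      congr 2
      simp only [d]; ring
    have hd0 : ∀ s ∈ supp y, 0 ≤ d s := fun s hs => by
      have h := hs₁min s hs
      have hcs' := (hNs y hy s hs).1
      rw [div_le_div_iff₀ (by exact_mod_cast hc₁) (by exact_mod_cast hcs')] at h
      have : μ s₁ * c s ≤ μ s * c s₁ := by exact_mod_cast h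
      simp only [d]; linarith
    have hpos : ∀ r, y.ofConv (e r) ≠ 0 → 0 ≤ d r := fun r hr => by
      by_cases hrs : r ∈ supp y
      · exact hd0 r hrs
      · rw [hsupp, not_not] at hrs
        refine le_of_eq (eq_of_zpow_eq (k := k) fun z => Units.ext ?_)
        rw [← hd, hfix r (hrs ▸ hr) _ (hnuT z), zpow_zero, Units.val_one]
    obtain ⟨p, hp, hpe⟩ := exists_fam (lam := nu) (g := y) (d := d) he
      (fun r z => by rw [hcur _ hnuT, hd]) hpos
    have hpN : p ∈ N := hp.mem hNc fun z => by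
      rw [DynLib.lamAt_inv]; exact hNconj y hy _ (hnuT z)
    have hsub : supp p ⊆ (supp y).filter (fun r => d r = 0) := fun r hr => by
      rw [hsupp, hpe] at hr
      by_cases hrs : r ∈ supp y
      · refine Finset.mem_filter.2 ⟨hrs, by_contra fun hdr => ?_⟩
        rw [if_neg hdr] at hr
        exact hr (hNs y hy r hrs).2.symm
      · rw [hsupp, not_not] at hrs
        exfalso
        split_ifs at hr with hdr
        · exact hr hrs
        · refine hr (by_contra fun h => hdr (eq_of_zpow_eq (k := k) fun z => Units.ext ?_))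
          rw [← hd, hfix r (Ne.symm h) _ (hnuT z), zpow_zero, Units.val_one]
    have hdne : d s ≠ 0 ∨ d s₀ ≠ 0 := by
      by_contra h
      push Not at h
      refine hz₀ ?_
      obtain ⟨e1, e2⟩ := h
      simp only [d] at e1 e2
      have e3 : μ s * c s₀ = μ s₀ * c s := by
        have : c s₁ * (μ s * c s₀ - μ s₀ * c s) = 0 := by linear_combination (c s₀) * e1 - (c s) * e2
        rcases mul_eq_zero.1 this with h | h
        · omega
        · linarith
      simp only [γ, ← DynLib.lamAt_inv, hμ, ← Units.val_pow_eq_pow_val, ← Units.val_mul]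
      rw [← zpow_natCast, ← zpow_natCast, inv_zpow', ← zpow_mul, ← zpow_mul, Int.toNat_of_nonneg hc₀.le,
        Int.toNat_of_nonneg hcs.le, neg_mul, ← zpow_add,
        show μ s * c s₀ + -(μ s₀ * c s) = 0 by linarith, zpow_zero, Units.val_one]
    have hlt : (supp p).card < (supp y).card := by
      refine (Finset.card_le_card hsub).trans_lt (Finset.card_lt_card ?_)
      rw [Finset.filter_ssubset]
      rcases hdne with h | h
      exacts [⟨s, hs, h⟩, ⟨s₀, hs₀, h⟩]
    have hp1 := hmin p hpN hlt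
    have h := hpe s₁
    rw [if_pos (by simp only [d]; ring), hp1] at h
    exact (hsupp y s₁).1 hs₁ h.symm
  -- the singular subtorus
  let S₀ : Subgroup (Pt k A) :=
    { carrier := {t | t ∈ T ∧ α s₀ t = 1}
      one_mem' := ⟨T.one_mem, hα1 _⟩
      mul_mem' := fun {a b} ha hb => ⟨T.mul_mem ha.1 hb.1, by rw [hαmul _ a ha.1 b hb.1, ha.2, hb.2, mul_one]⟩
      inv_mem' := fun {a} ha => ⟨T.inv_mem ha.1, by
        have h := hαmul s₀ _ (T.inv_mem ha.1) _ ha.1
        rw [inv_mul_cancel, hα1, ha.2, mul_one] at h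
        exact h.symm⟩ }
  have hS₀ : IsClosed (S₀ : Set (Pt k A)) := hT.tor.closed.inter ((hαreg s₀).isClosed_eq (IsReg.const 1))
  set S' := neut S₀ with hS'def
  have hS'T : S' ≤ T := fun t ht => (neut_le _ ht).1
  have hS'tor : IsTor S' := hT.tor.of_le hS'T (isClosed_neut hS₀) (isPreconnected_neut _)
  set Z := Subgroup.centralizer (S' : Set (Pt k A)) with hZdef
  have hTZ : T ≤ Z := fun t ht => Subgroup.mem_centralizer_iff.2 fun s hs => hT.tor.comm s (hS'T hs) t ht
  have hyZ : y ∈ Z := Subgroup.mem_centralizer_iff.2 fun t ht => by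
    suffices h : t * y * t⁻¹ = y by
      calc t * y = (t * y * t⁻¹) * t := by group
        _ = y * t := by rw [h]
    refine hext _ _ fun s => ?_
    rw [hconjT s t (hS'T ht)]
    by_cases h0 : y.ofConv (e s) = 0
    · rw [h0, mul_zero]
    suffices hs1 : α s t = 1 by rw [hs1, one_mul]
    by_cases hs : s ∈ supp y
    · obtain ⟨hcs, -⟩ := hNs y hy s hs
      have hfin : ((fun x => α s x) '' (S' : Set (Pt k A))).Finite := by
        refine (Finset.finite_toSet (Polynomial.nthRootsFinset (c s₀).toNat (1 : k))).subset ?_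
        rintro _ ⟨x, hx, rfl⟩
        rw [Finset.mem_coe, Polynomial.mem_nthRootsFinset (by omega), hprop s hs x (hS'T hx), (neut_le _ hx).2, one_pow]
      exact ((hαreg s).const_of_finite (isPreconnected_neut _) hfin ht S'.one_mem).trans (hα1 s)
    · rw [hsupp, not_not] at hs
      exact hfix s (hs ▸ h0) t (hS'T ht)
  set J := N ⊓ Z with hJdef
  have hJc : IsClosed (J : Set (Pt k A)) := hNc.inter (isClosed_centralizer S')
  have hJp : IsPreconnected (J : Set (Pt k A)) := by
    refine isPreconnected_of_fam (lam := lamNeg) hJc (fun g hg z => ?_) fun g hg => (hlev g).1 hg.1.2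
    rw [DynLib.lamAt_inv]
    exact ⟨hNconj g hg.1 _ (hnT z), Z.mul_mem (Z.mul_mem (hTZ (hnT z)) hg.2) (Z.inv_mem (hTZ (hnT z)))⟩
  have hJu : ∀ u ∈ J, IsUni u := fun u hu => ((hlev u).1 hu.1.2).isUni_iff.2 fun V _ _ _ r =>
    ⟨1, by rw [r.map_one, sub_self, pow_one]⟩
  have hTP : T ≤ neut (upSub W) := by
    refine le_neut hT.tor.conn fun t ht => ?_
    show DynLib.IsUp W.w (W.mat t)
    rw [← W.limExists_iff_up, ← exists_fam_iff_limExists]
    exact ⟨t, fam_of_commute t fun z => hT.tor.comm t ht _ (hlT z)⟩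
  -- every Borel subgroup through the torus
  have hall : ∀ B', IsBor ⊤ B' → T ≤ B' → J ≤ B' := by
    intro B' hB' hTB'
    have hZc : IsClosed (Z : Set (Pt k A)) := isClosed_centralizer S'
    have hZp : IsPreconnected (Z : Set (Pt k A)) := by
      simpa using isPreconnected_centralizer_tor hKc hK hS'tor le_top
    have h1 : IsBor Z (B ⊓ Z) := by simpa using hB.inf_centralizer hKc hK hS'tor (hS'T.trans hTB)
    have h2 : IsBor Z (B' ⊓ Z) := by simpa using hB'.inf_centralizer hKc hK hS'tor (hS'T.trans hTB')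
    obtain ⟨g₁, hg₁, hgB⟩ := h1.exists_conj hZc hZp h2
    have hmax : IsMaxTor (B' ⊓ Z) T :=
      ⟨le_inf hTB' hTZ, hT.tor, fun T' _ h hle => hT.maximal T' le_top h hle⟩
    have hle : conjSub g₁ T ≤ B' ⊓ Z := by rw [← hgB]; exact conjSub_mono (le_inf hTB hTZ)
    obtain ⟨x, hx, hxT⟩ := hmax.exists_conj_le h2.closed h2.conn hle (hT.tor.conjSub g₁)
    rw [conjSub_conjSub] at hxT
    obtain ⟨n, hndef⟩ : ∃ n, x * g₁ = n := ⟨_, rfl⟩
    rw [hndef] at hxT
    have hnZ : n ∈ Z := hndef ▸ Z.mul_mem hx.2 hg₁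
    have hnB : conjSub n (B ⊓ Z) = B' ⊓ Z := by rw [← hndef, ← conjSub_conjSub, hgB, conjSub_eq_self hx]
    have hnT' : conjSub n T = T := by
      have h3 : T ≤ conjSub n⁻¹ T := by
        have := conjSub_mono (a := n⁻¹) hxT
        rwa [conjSub_conjSub, inv_mul_cancel, conjSub_one] at this
      have h4 := hT.maximal _ le_top (hT.tor.conjSub n⁻¹) h3
      conv_lhs => rw [← h4, conjSub_conjSub, mul_inv_cancel, conjSub_one]
    suffices hin : conjSub n⁻¹ J ≤ B by
      intro u hu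
      have hu' : n⁻¹ * u * n ∈ B ⊓ Z :=
        ⟨hin ⟨u, hu, by simp⟩, Z.mul_mem (Z.mul_mem (Z.inv_mem hnZ) hu.2) hnZ⟩
      exact (hnB.le ⟨_, hu', by simp [mul_assoc]⟩).1
    have hθ : ∀ z : kˣ, n * DynLib.lamAt lamNeg z * n⁻¹ ∈ T := fun z => hnT'.le ⟨_, hnT z, by simp⟩
    obtain ⟨th, hth⟩ := exists_cochar_of_mor (A := A) (F := fun x => n * pull (lamNeg : A →ₐ[k] k[T;T⁻¹]) x * n⁻¹)
      (((IsMor.const n).mul (IsMor.pull _)).mul (IsMor.const n⁻¹)) (by rw [pull_bialg_one, mul_one, mul_inv_cancel])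
      fun x x' => by rw [pull_bialg_mul]; group
    have hth' : ∀ z : kˣ, DynLib.lamAt th z = n * DynLib.lamAt lamNeg z * n⁻¹ := hth
    have hthT : ∀ z : kˣ, DynLib.lamAt th z ∈ T := fun z => hth' z ▸ hθ z
    obtain ⟨m, hm⟩ := exists_exponent (hαreg s₀) (hα1 s₀) (hαmul s₀) hthT
    set c₀ := c s₀ with hc₀def
    -- a one-parameter subgroup in the singular torus
    obtain ⟨sig, hsig, hsigT⟩ := exists_comb hT.tor.comm hthT hnT c₀ (-m)
    have hsigS : ∀ z : kˣ, DynLib.lamAt sig z ∈ S' := fun z => by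
      have hpc : IsPreconnected (Set.range fun x => pull (sig : A →ₐ[k] k[T;T⁻¹]) x) := by
        rw [← Set.image_univ]
        exact (IsIrreducible.isPreirreducible isIrreducible_univ).isPreconnected.image _
          (IsMor.pull _).continuous.continuousOn
      refine hpc.subset_connectedComponentIn ⟨1, pull_bialg_one sig⟩ ?_ ⟨gp z, rfl⟩
      rintro _ ⟨x, rfl⟩
      obtain ⟨w, rfl⟩ := exists_gp x
      refine ⟨hsigT w, ?_⟩
      show α s₀ (DynLib.lamAt sig w) = 1
      rw [hsig, ← lamHom_apply, ← lamHom_apply, ← map_zpow, ← map_zpow, lamHom_apply,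
        lamHom_apply, hαmul s₀ _ (hthT _) _ (hnT _), hm, hc, ← Units.val_mul, ← zpow_mul, ← zpow_mul, ← zpow_add,
        show c₀ * m + -m * c₀ = 0 by ring, zpow_zero, Units.val_one]
    have hcS : ∀ s ∈ S', ∀ x ∈ Z, s * x = x * s := fun s hs x hx => Subgroup.mem_centralizer_iff.1 hx s hs
    rcases lt_trichotomy m 0 with hm0 | hm0 | hm0
    · -- the flipped case
      intro u hu
      obtain ⟨g, hg, rfl⟩ := hu
      refine hP (le_neut (isPreconnected_conjSub hJp) ?_ ⟨g, hg, rfl⟩)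
      rintro _ ⟨g, hg, rfl⟩
      show DynLib.IsUp W.w (W.mat (n⁻¹ * g * n⁻¹⁻¹))
      rw [inv_inv, ← W.limExists_iff_up, ← exists_fam_iff_limExists]
      obtain ⟨φ, hφ, h0⟩ := (hlev g).1 hg.1.2
      obtain ⟨pw, hpw, hpwT⟩ := exists_comb hT.tor.comm hlT hlT c₀ 0
      have hfam : ∃ p, Fam pw (n⁻¹ * g * n) p := by
        obtain ⟨ψ, hψ⟩ := ((IsMor.const (R' := Polynomial k) n⁻¹).mul ((IsMor.pull φ).comp
          (isMor_linePt (R := Polynomial k) (f := fun x => lineCoord x ^ (-m).toNat)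
            ⟨Polynomial.X ^ (-m).toNat, fun x => (map_pow x.ofConv _ _).symm⟩))).mul (IsMor.const n)
        refine ⟨_, ψ, fun z => ?_, rfl⟩
        rw [← hψ]
        dsimp only
        have hz := hφ (z ^ (-m))
        rw [show ((z ^ (-m) : kˣ) : k) = (z : k) ^ (-m).toNat by
          rw [← Units.val_pow_eq_pow_val, ← zpow_natCast, Int.toNat_of_nonneg (by omega)]] at hz
        rw [lineCoord_linePt, hz]
        have hs : DynLib.lamAt sig z⁻¹ * g = g * DynLib.lamAt sig z⁻¹ := hcS _ (hsigS _) _ hg.2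
        have es : DynLib.lamAt sig z⁻¹ = n * DynLib.lamAt pw z * n⁻¹ * DynLib.lamAt lamNeg (z ^ (-m))⁻¹ := by
          rw [hsig, hth', hpw, conj_zpow, zpow_zero, mul_one, ← lamHom_apply, ← lamHom_apply, ← lamHom_apply,
            ← map_zpow, ← map_zpow, ← map_zpow, lamHom_apply, lamHom_apply, lamHom_apply, DynLib.lamAt_neg hneg,
            inv_zpow z c₀, inv_inv, inv_zpow z (-m)]
          rfl
        rw [DynLib.lamAt_inv lamNeg] at es
        have e2 : DynLib.lamAt pw z = n⁻¹ * DynLib.lamAt sig z⁻¹ * DynLib.lamAt lamNeg (z ^ (-m)) * n := by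
          rw [es]; group
        have hs' : DynLib.lamAt sig z⁻¹ * DynLib.lamAt lamNeg (z ^ (-m)) =
            DynLib.lamAt lamNeg (z ^ (-m)) * DynLib.lamAt sig z⁻¹ := hT.tor.comm _ (hsigT _) _ (hnT _)
        rw [DynLib.lamAt_inv, DynLib.lamAt_inv, e2]
        calc n⁻¹ * (DynLib.lamAt lamNeg (z ^ (-m)) * g * (DynLib.lamAt lamNeg (z ^ (-m)))⁻¹) * n
            = n⁻¹ * (DynLib.lamAt lamNeg (z ^ (-m)) * (g * DynLib.lamAt sig z⁻¹) * (DynLib.lamAt sig z⁻¹)⁻¹ *
                (DynLib.lamAt lamNeg (z ^ (-m)))⁻¹) * n := by group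
          _ = n⁻¹ * ((DynLib.lamAt lamNeg (z ^ (-m)) * DynLib.lamAt sig z⁻¹) * g * ((DynLib.lamAt sig z⁻¹)⁻¹ *
                (DynLib.lamAt lamNeg (z ^ (-m)))⁻¹)) * n := by rw [← hs]; group
          _ = _ := by rw [← mul_inv_rev, ← hs', mul_inv_rev]; group
      obtain ⟨p, hp⟩ := hfam
      choose cl hcl using fun s => exists_exponent (hαreg s) (hα1 s) (hαmul s) hlT
      have hclp : ∀ s, ∀ z : kˣ, (DynLib.lamAt pw z * (n⁻¹ * g * n) * DynLib.lamAt pw z⁻¹).ofConv (e s) =
          ((z ^ (c₀ * cl s) : kˣ) : k) * (n⁻¹ * g * n).ofConv (e s) := fun s z => by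
        rw [hcur _ hpwT, hpw, zpow_zero, mul_one, ← lamHom_apply, ← map_zpow, lamHom_apply, hcl, ← zpow_mul]
      refine (exists_fam (lam := lam) (d := cl) he (fun s z => by rw [hcur _ hlT, hcl]) fun s hs => ?_).imp
        fun q hq => hq.1
      exact (mul_nonneg_iff_of_pos_left hc₀).1 (hp.exponent (hclp s) hs).1
    · -- no component: the point would be central
      exfalso
      refine (hsupp y s₀).1 hs₀ ?_
      have key : ∀ z : kˣ, α s₀ (DynLib.lamAt lamNeg (z ^ c₀)) = 1 := fun z => by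
        have h := hsigS z
        rw [hsig, hm0, neg_zero, zpow_zero, mul_one, hth', conj_zpow, ← lamHom_apply, ← map_zpow, lamHom_apply] at h
        have hc2 := hcS _ h n hnZ
        have h5 : n * DynLib.lamAt lamNeg (z ^ c₀) * n⁻¹ = DynLib.lamAt lamNeg (z ^ c₀) := by
          have : n * DynLib.lamAt lamNeg (z ^ c₀) = n * (n * DynLib.lamAt lamNeg (z ^ c₀) * n⁻¹) := by
            rw [← hc2]; group
          exact (mul_left_cancel this).symm
        rw [h5] at h
        exact (neut_le _ h).2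
      exfalso
      obtain ⟨z, hz⟩ := exists_unit_pow_ne (k := k) (N := c₀ * c₀) (mul_ne_zero hc₀.ne' hc₀.ne')
      refine hz (Units.ext ?_)
      rw [Units.val_one, ← key z, hc, ← zpow_mul]
    · -- the same side: the conjugating element centralises
      intro u hu
      obtain ⟨g, hg, rfl⟩ := hu
      suffices hnT2 : n ∈ T from B.mul_mem (B.mul_mem (B.inv_mem (hTB hnT2)) hg.1.1) (by simpa using hTB hnT2)
      rw [← hred.centralizer_eq hconn hT]
      let L : kˣ →* Pt k A := lamHom lamNeg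
      have hstep : ∀ z : kˣ, n * L (z ^ c₀) * n⁻¹ = DynLib.lamAt sig z * L (z ^ m) := fun z => by
        have h := hsig z
        rw [hth', conj_zpow, ← lamHom_apply lamNeg z, ← map_zpow, ← map_zpow] at h
        show n * lamHom lamNeg (z ^ c₀) * n⁻¹ = _ * lamHom lamNeg (z ^ m)
        rw [h, mul_assoc _ (lamHom lamNeg (z ^ (-m))), ← map_mul, zpow_neg, inv_mul_cancel, map_one, mul_one]
      have hiter : ∀ (j : ℕ) (z : kˣ), ∃ s ∈ S', n ^ j * L (z ^ (c₀ ^ j)) * (n ^ j)⁻¹ = s * L (z ^ (m ^ j)) := by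
        intro j
        induction j with
        | zero => intro z; exact ⟨1, S'.one_mem, by simp⟩
        | succ j ih =>
          intro z
          obtain ⟨s, hs, h⟩ := ih (z ^ c₀)
          rw [← zpow_mul] at h
          refine ⟨s * DynLib.lamAt sig (z ^ (m ^ j)), S'.mul_mem hs (hsigS _), ?_⟩
          have h2 := hstep (z ^ (m ^ j))
          rw [← zpow_mul] at h2
          calc n ^ (j + 1) * L (z ^ (c₀ ^ (j + 1))) * (n ^ (j + 1))⁻¹
              = n * (n ^ j * L (z ^ (c₀ * c₀ ^ j)) * (n ^ j)⁻¹) * n⁻¹ := by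
                rw [pow_succ' n, pow_succ' c₀]; group
            _ = n * (s * L (z ^ (c₀ * m ^ j))) * n⁻¹ := by
                rw [h, ← zpow_mul]
            _ = (n * s) * L (z ^ (c₀ * m ^ j)) * n⁻¹ := by group
            _ = s * (n * L (z ^ (m ^ j * c₀)) * n⁻¹) := by rw [← hcS s hs n hnZ, mul_comm c₀]; group
            _ = _ := by rw [h2, ← zpow_mul, pow_succ m j]; group
      obtain ⟨M, hM, hpow⟩ := exists_pow_mem_neut (isClosed_normSub hT.tor.closed)
      have hnN : neut (normSub T) ≤ normSub T := neut_le _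
      have hcent : ∀ z : kˣ, n ^ M * L z * (n ^ M)⁻¹ = L z := fun z => by
        show n ^ M * DynLib.lamAt lamNeg z * (n ^ M)⁻¹ = DynLib.lamAt lamNeg z
        rw [hT.tor.commute_of_normalizing (isPreconnected_neut (normSub T))
          (fun h hh s hs => (hnN hh : conjSub h T = T).le ⟨s, hs, by simp⟩) _ (hpow n hnT') _ (hnT z),
          mul_inv_cancel_right]
      have hcm : c₀ = m := by
        have h : c₀ * c₀ ^ M = c₀ * m ^ M := eq_of_zpow_eq (k := k) fun z => by
          obtain ⟨s, hs, h⟩ := hiter M z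
          rw [hcent] at h
          have h' : α s₀ (L (z ^ c₀ ^ M)) = α s₀ (L (z ^ m ^ M)) := by
            rw [h, hαmul s₀ _ (hS'T hs) (L (z ^ m ^ M)) (hnT _), (neut_le _ hs).2, one_mul]
          simp only [L, lamHom_apply, hc] at h'
          rw [← zpow_mul, ← zpow_mul, Units.val_inj, mul_comm, mul_comm _ (c s₀)] at h'
          exact h'
        exact (pow_left_inj₀ hc₀.le hm0.le hM).1 (mul_left_cancel₀ hc₀.ne' h)
      have hpowj : ∀ (j : ℕ) (z : kˣ), n ^ j * L (z ^ c₀) * (n ^ j)⁻¹ = DynLib.lamAt sig z ^ j * L (z ^ c₀) := by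
        intro j
        induction j with
        | zero => intro z; simp
        | succ j ih =>
          intro z
          have h3 := hstep z
          rw [← hcm] at h3
          have h4 : n * DynLib.lamAt sig z ^ j = DynLib.lamAt sig z ^ j * n :=
            (hcS _ (S'.pow_mem (hsigS z) j) n hnZ).symm
          calc n ^ (j + 1) * L (z ^ c₀) * (n ^ (j + 1))⁻¹
              = n * (n ^ j * L (z ^ c₀) * (n ^ j)⁻¹) * n⁻¹ := by rw [pow_succ' n]; group
            _ = (n * DynLib.lamAt sig z ^ j) * L (z ^ c₀) * n⁻¹ := by rw [ih]; group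
            _ = DynLib.lamAt sig z ^ j * (n * L (z ^ c₀) * n⁻¹) := by rw [h4]; group
            _ = _ := by rw [h3, pow_succ, mul_assoc]
      have hsig1 : ∀ z : kˣ, DynLib.lamAt sig z = 1 := fun z => by
        obtain ⟨r, hr⟩ := IsAlgClosed.exists_pow_nat_eq (z : k) (Nat.pos_of_ne_zero hM)
        have hr0 : r ≠ 0 := fun h => z.ne_zero (by rw [← hr, h, zero_pow hM])
        have h := hpowj M (Units.mk0 r hr0)
        rw [hcent] at h
        have hz : z = Units.mk0 r hr0 ^ M := Units.ext (by simpa using hr.symm)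
        rw [hz, ← lamHom_apply, map_pow, lamHom_apply]
        exact mul_eq_right.1 h.symm
      refine Subgroup.mem_centralizer_iff.2 fun s hs => ?_
      refine (hreg n (fun z => ?_) s hs).symm
      obtain ⟨r, hr⟩ := IsAlgClosed.exists_pow_nat_eq ((z⁻¹ : kˣ) : k) (show 0 < c₀.toNat by omega)
      have hr0 : r ≠ 0 := fun h => (z⁻¹ : kˣ).ne_zero (by rw [← hr, h, zero_pow (by omega)])
      have hz : z⁻¹ = Units.mk0 r hr0 ^ c₀ := Units.ext (by
        conv_rhs => rw [← Int.toNat_of_nonneg hc₀.le, zpow_natCast]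
        simpa using hr.symm)
      have h := hstep (Units.mk0 r hr0)
      rw [← hcm, hsig1, one_mul, ← hz] at h
      simp only [L, lamHom_apply, DynLib.lamAt_neg hneg, inv_inv] at h
      exact mul_inv_eq_iff_eq_mul.1 h
  have hJ : J = ⊥ := by
    refine eq_bot_of_le_radSub hconn hred hJp (le_neut hJp (le_iInf fun B' => ?_)) hJu
    exact le_of_le_borels hconn hT hJp (isSol_of_uni hJc hJp hJu) hall
      (fun V _ _ _ r u hu => hJu u hu V r) B'.2
  exact hyne (Subgroup.mem_bot.1 (hJ ▸ (⟨hy, hyZ⟩ : y ∈ J)))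

/-- Limits along a regular one-parameter subgroup lie in the torus. -/
theorem Fam.mem_tor {T : Subgroup (Pt k A)} (hT : IsMaxTor ⊤ T) {lam : A →ₐc[k] k[T;T⁻¹]}
    (hreg : ∀ g : Pt k A, (∀ z : kˣ, g * DynLib.lamAt lam z = DynLib.lamAt lam z * g) → ∀ s ∈ T, g * s = s * g)
    {b p : Pt k A} (h : Fam lam b p) : p ∈ T := by
  haveI : _root_.IsReduced A := inferInstance
  have hconn : IsPreconnected (Set.univ : Set (Pt k A)) :=
    (isIrreducible_univ (k := k) (R := A)).isConnected.isPreconnected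
  obtain ⟨φ, hφ, h0⟩ := h
  rw [← hred.centralizer_eq hconn hT]
  refine Subgroup.mem_centralizer_iff.2 fun s hs => (hreg p (fun w => ?_) s hs).symm
  suffices h : DynLib.lamAt lam w * p * DynLib.lamAt lam w⁻¹ = p by
    calc p * DynLib.lamAt lam w = (DynLib.lamAt lam w * p * DynLib.lamAt lam w⁻¹) * DynLib.lamAt lam w := by rw [h]
      _ = _ := by rw [DynLib.lamAt_inv]; group
  refine WithConv.ext (AlgHom.ext fun a => ?_)
  have hF1 : IsReg fun x : Pt k (Polynomial k) => (DynLib.lamAt lam w * pull φ x * DynLib.lamAt lam w⁻¹).ofConv a :=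
    (IsReg.eval a).comp (((IsMor.const _).mul (IsMor.pull φ)).mul (IsMor.const _))
  have hF2 : IsReg fun x : Pt k (Polynomial k) => (pull φ (linePt ((w : k) * lineCoord x))).ofConv a :=
    (IsReg.eval a).comp ((IsMor.pull φ).comp (isMor_linePt ((IsReg.const _).mul isReg_lineCoord)))
  have := eq_of_units (hF1.sub hF2) (c := 0) (fun z => by
    rw [lineCoord_linePt, ← Units.val_mul, hφ, hφ, sub_eq_zero]
    simp only [DynLib.lamAt_inv, DynLib.lamAt_mul]
    group) (linePt 0)
  rw [lineCoord_linePt, mul_zero, h0, sub_eq_zero] at this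
  exact this

/-- **The points with a limit along a regular one-parameter subgroup form a Borel subgroup.** -/
theorem exists_bor_of_cochar {T : Subgroup (Pt k A)} (hT : IsMaxTor ⊤ T) {lam lamNeg : A →ₐc[k] k[T;T⁻¹]}
    (hneg : (lamNeg : A →ₐ[k] k[T;T⁻¹]) = Dyn.negParam k A lam) (hlT : ∀ z : kˣ, DynLib.lamAt lam z ∈ T)
    (hreg : ∀ g : Pt k A, (∀ z : kˣ, g * DynLib.lamAt lam z = DynLib.lamAt lam z * g) → ∀ s ∈ T, g * s = s * g) :
    ∃ B : Subgroup (Pt k A), IsBor ⊤ B ∧ T ≤ B ∧
      (∀ b ∈ B, ∃ p ∈ T, Fam lam b p ∧ (IsUni b → p = 1)) ∧ ∀ b p, Fam lam b p → b ∈ B := by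
  classical
  haveI : _root_.IsReduced A := inferInstance
  have hirr := isIrreducible_univ (k := k) (R := A)
  have hconn : IsPreconnected (Set.univ : Set (Pt k A)) := hirr.isConnected.isPreconnected
  have hKc : IsClosed ((⊤ : Subgroup (Pt k A)) : Set (Pt k A)) := by rw [Subgroup.coe_top]; exact isClosed_univ
  have hK : IsPreconnected ((⊤ : Subgroup (Pt k A)) : Set (Pt k A)) := by rwa [Subgroup.coe_top]
  obtain ⟨W⟩ := DynLib.exists_weightRep k lam
  obtain ⟨B₀, hB₀, -, -⟩ := IsBor.exists_conj_universal hKc hK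
  obtain ⟨g, -, hg⟩ := hB₀.exists_conj_le hKc hK le_top (isPreconnected_neut _) (isSol_neut_upSub W hT hreg)
  set B := conjSub g⁻¹ B₀ with hBdef
  have hB : IsBor ⊤ B := hB₀.conjSub trivial
  have hPB : neut (upSub W) ≤ B := by
    have := conjSub_mono (a := g⁻¹) hg
    rwa [conjSub_conjSub, inv_mul_cancel, conjSub_one] at this
  have hmemup : ∀ b : Pt k A, b ∈ upSub W ↔ ∃ p, Fam lam b p := fun b =>
    (exists_fam_iff_limExists b).trans (W.limExists_iff_up b) |>.symm
  have hTup : ∀ t ∈ T, t ∈ upSub W := fun t ht =>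
    (hmemup t).2 ⟨t, fam_of_commute t fun z => hT.tor.comm t ht _ (hlT z)⟩
  have hTP : T ≤ neut (upSub W) := le_neut hT.tor.conn hTup
  have hTB := hTP.trans hPB
  have hN := eq_bot_of_contracted hred hT hB hTB hneg W hlT hreg hPB
  have hup : ∀ b ∈ B, b ∈ upSub W := by
    by_contra h
    push Not at h
    obtain ⟨b, hb, hbu⟩ := h
    have hcell : IsUnit ((1 : Pt k A).ofConv W.cell) := by
      have := W.isUnit_cell hneg (u := (1 : Pt k A)) (p := (1 : Pt k A))
        ((W.limIsOne_neg_iff_low1 hneg 1).2 (by rw [W.mat_one]; exact fun i j _ => rfl))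
        ((W.limExists_iff_up 1).2 (by rw [W.mat_one]; exact DynLib.isWt_one.isUp))
      rwa [one_mul] at this
    obtain ⟨x, hxB, hxu, hxc⟩ := (isIrreducible_of_connected hB.closed hB.conn).2 (upSub W : Set (Pt k A))ᶜ
      {x | x.ofConv W.cell ≠ 0} (isClosed_upSub W).isOpen_compl (BorelLib.isOpen_ne _) ⟨b, hb, hbu⟩
      ⟨1, B.one_mem, hcell.ne_zero⟩
    obtain ⟨u', p, hup, hu', hp⟩ := W.exists_factor hneg x (Ne.isUnit hxc)
    obtain ⟨huB, hpB⟩ := RootSubgrp.factor_mem lam lamNeg hneg hB.closed (fun z => hTB (hlT z)) hu' hp (hup ▸ hxB)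
    have hu1 : u' = 1 := by
      refine Subgroup.mem_bot.1 (hN ▸ (⟨huB, fun i j hij => ?_⟩ : u' ∈ B ⊓ levSub W (fun i => - W.w i) 0))
      rw [Matrix.sub_apply, sub_eq_zero]
      exact (W.limIsOne_neg_iff_low1 hneg u').1 hu' i j (by push_cast at hij; omega)
    rw [hu1, one_mul] at hup
    exact hxu (hup ▸ (W.limExists_iff_up p).1 hp)
  refine ⟨B, hB, hTB, fun b hb => ?_, fun b p hp => hPB ?_⟩
  · obtain ⟨p, hp⟩ := (hmemup b).1 (hup b hb)
    exact ⟨p, hp.mem_tor hred hT hreg, hp, fun hu => (hp.isUni_iff.1 hu).eq_one hT.tor (hp.mem_tor hred hT hreg)⟩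
  have hpT := hp.mem_tor hred hT hreg
  obtain ⟨φ, hφ, h0⟩ := hp
  have hC : IsPreconnected (Set.range (pull φ)) := by
    rw [← Set.image_univ]
    exact (IsIrreducible.isPreirreducible isIrreducible_univ).isPreconnected.image _
      (IsMor.pull φ).continuous.continuousOn
  have hp0 : p ∈ Set.range (pull φ) := ⟨linePt 0, h0⟩
  have hb1 : b ∈ Set.range (pull φ) := by
    refine ⟨linePt 1, ?_⟩
    have := hφ 1
    rwa [Units.val_one, inv_one, DynLib.lamAt_one, one_mul, mul_one] at this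
  refine ((isPreconnected_neut (upSub W)).union p (hTP hpT) hp0 hC).subset_connectedComponentIn
    (x := 1) (Or.inl (one_mem _)) ?_ (Or.inr hb1)
  · rintro x (hx | ⟨y, rfl⟩)
    · exact neut_le _ hx
    · refine mem_zero_of_units ((isClosed_upSub W).preimage (IsMor.pull φ).continuous) (fun z => ?_) y
      show pull φ (linePt (z : k)) ∈ upSub W
      rw [hφ]
      exact (upSub W).mul_mem ((upSub W).mul_mem (hTup _ (hlT z)) ((hmemup b).2 ⟨p, φ, hφ, h0⟩)) (hTup _ (hlT _))

end Main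

end Groth.Agent.ObsLib

end
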