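import Groth.Agent.ObsLib.Cochar
import Groth.Agent.ObsLib.Rad
import Groth.Agent.BorelLib.Open
import Groth.Agent.BorelLib.Unip
import Groth.Agent.BorelLib.Image

/-!
# An open double coset of a Borel subgroup
-/

set_option autoImplicit false
set_option linter.style.haveILetI false
set_option linter.unusedSectionVars false
set_option backward.isDefEq.respectTransparency false
set_option maxHeartbeats 2000000
set_option synthInstance.maxHeartbeats 400000

noncomputable section

universe u

open WithConv LaurentPolynomial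
open scoped TensorProduct commutatorElement

namespace Groth.Agent.ObsLib

open BorelLib

attribute [local instance] pTop pTopTensor

section Levels

variable {R : Type u} [CommRing R] {ι : Type*} [Fintype ι] [DecidableEq ι] (w : ι → ℤ)

/-- Entries of level below `m` vanish. -/
def Van (m : ℤ) (M : Matrix ι ι R) : Prop := ∀ i j, w i - w j < m → M i j = 0

variable {w} {a b : ℤ} {M N : Matrix ι ι R}

lemma Van.mono (h : Van w a M) (hb : b ≤ a) : Van w b M := fun i j hij => h i j (lt_of_lt_of_le hij hb)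

lemma Van.add (h : Van w a M) (h' : Van w a N) : Van w a (M + N) := fun i j hij => by
  rw [Matrix.add_apply, h i j hij, h' i j hij, add_zero]

lemma Van.neg (h : Van w a M) : Van w a (-M) := fun i j hij => by rw [Matrix.neg_apply, h i j hij, neg_zero]

lemma Van.sub (h : Van w a M) (h' : Van w a N) : Van w a (M - N) := sub_eq_add_neg M N ▸ h.add h'.neg

lemma Van.mul (h : Van w a M) (h' : Van w b N) : Van w (a + b) (M * N) := fun i j hij => by
  rw [Matrix.mul_apply]
  refine Finset.sum_eq_zero fun c _ => ?_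
  rcases lt_or_ge (w i - w c) a with h1 | h1
  · rw [h i c h1, zero_mul]
  · rw [h' c j (by omega), mul_zero]

lemma Van.inv {m : ℤ} (hm : 1 ≤ m) (hM : Van w m (M - 1)) (hMN : M * N = 1) : Van w m (N - 1) := by
  have e : N - 1 = -(M - 1) - (M - 1) * (N - 1) := by
    have : M * N = 1 := hMN
    noncomm_ring
    rw [this]
  let D : ℤ := ∑ i, |w i|
  have hD : ∀ i, |w i| ≤ D := fun i => Finset.single_le_sum (f := fun j => |w j|) (fun _ _ => abs_nonneg _) (Finset.mem_univ i)
  have h0 : Van w (-(2 * D)) (N - 1) := fun i j hij => by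
    have := abs_le.1 (hD i); have := abs_le.1 (hD j); omega
  have hind : ∀ n : ℕ, Van w (min m (-(2 * D) + n)) (N - 1) := fun n => by
    induction n with
    | zero => exact h0.mono (by simp)
    | succ n ih =>
      rw [e]
      exact (hM.neg.mono (min_le_left _ _)).sub ((hM.mul ih).mono (by push_cast; omega))
  exact (hind (m + 2 * D).toNat).mono (by omega)

end Levels

variable {k : Type u} [Field k] [IsAlgClosed k] {A : Type u} [CommRing A] [HopfAlgebra k A] [Algebra.FiniteType k A]
  {lam : A →ₐc[k] k[T;T⁻¹]} (W : DynLib.WeightRep k lam)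

lemma mat_mul_inv (g : Pt k A) : W.mat g * W.mat g⁻¹ = 1 := by rw [← W.mat_mul, mul_inv_cancel, W.mat_one]

/-- The unipotent subgroup of the levels at least `m`. -/
def levSub (w : W.ι → ℤ) (m : ℕ) : Subgroup (Pt k A) where
  carrier := {g | Van w (m + 1 : ℤ) (W.mat g - 1)}
  one_mem' := fun i j _ => by rw [W.mat_one, sub_self]; rfl
  mul_mem' {g h} hg hh := by
    show Van w (m + 1 : ℤ) (W.mat (g * h) - 1)
    rw [W.mat_mul, show W.mat g * W.mat h - 1 = (W.mat g - 1) * (W.mat h - 1) + (W.mat g - 1) + (W.mat h - 1) by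
      noncomm_ring]
    exact (((Van.mul hg hh).mono (by omega)).add hg).add hh
  inv_mem' {g} hg := Van.inv (by omega) hg (mat_mul_inv W g)

lemma levSub_commutator (w : W.ι → ℤ) (m : ℕ) : ⁅levSub W w m, levSub W w m⁆ ≤ levSub W w (m + 1) := by
  refine Subgroup.commutator_le.2 fun g hg h hh => ?_
  show Van w ((m + 1 : ℕ) + 1 : ℤ) (W.mat ⁅g, h⁆ - 1)
  have hX : Van w 0 (W.mat (g⁻¹ * h⁻¹)) := fun i j hij => by
    have := (levSub W w m).mul_mem ((levSub W w m).inv_mem hg) ((levSub W w m).inv_mem hh) i j (by omega)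
    rw [Matrix.sub_apply, Matrix.one_apply_ne (by rintro rfl; omega), sub_zero] at this
    exact this
  have hone : W.mat (h * g) * W.mat (g⁻¹ * h⁻¹) = 1 := by
    rw [← W.mat_mul, show h * g * (g⁻¹ * h⁻¹) = 1 by group, W.mat_one]
  have e : W.mat ⁅g, h⁆ - 1 = ((W.mat g - 1) * (W.mat h - 1) - (W.mat h - 1) * (W.mat g - 1)) * W.mat (g⁻¹ * h⁻¹) := by
    have e1 : (W.mat g - 1) * (W.mat h - 1) - (W.mat h - 1) * (W.mat g - 1) = W.mat (g * h) - W.mat (h * g) := by
      rw [W.mat_mul, W.mat_mul]; noncomm_ring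
    rw [e1, sub_mul, hone, ← W.mat_mul, commutatorElement_def]
    simp only [mul_assoc]
  rw [e]
  exact (((Van.mul hg hh).sub (Van.mul hh hg)).mul hX).mono (by push_cast; omega)

lemma isSol_levSub (w : W.ι → ℤ) : IsSol (levSub W w 0) := by
  have h : ∀ n, der (levSub W w 0) n ≤ levSub W w n := fun n => by
    induction n with
    | zero => exact le_rfl
    | succ n ih => exact (Subgroup.commutator_mono ih ih).trans (levSub_commutator W w n)
  let D : ℤ := ∑ i, |w i|
  refine ⟨(2 * D).toNat, le_bot_iff.1 fun g hg => Subgroup.mem_bot.2 (W.mat_injective ?_)⟩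
  rw [W.mat_one, ← sub_eq_zero]
  ext i j
  refine h _ hg i j ?_
  have hD : ∀ i, |w i| ≤ D := fun i => Finset.single_le_sum (f := fun j => |w j|) (fun _ _ => abs_nonneg _) (Finset.mem_univ i)
  have := abs_le.1 (hD i); have := abs_le.1 (hD j); omega

lemma isClosed_entry (i j : W.ι) (c : k) : IsClosed {g : Pt k A | W.mat g i j = c} :=
  (IsReg.eval (W.t i j)).isClosed_eq (IsReg.const c)

lemma isClosed_levSub (w : W.ι → ℤ) (m : ℕ) : IsClosed (levSub W w m : Set (Pt k A)) := by
  have e : (levSub W w m : Set (Pt k A)) = ⋂ i, ⋂ j, {g | w i - w j < (m + 1 : ℤ) → W.mat g i j = (1 : Matrix W.ι W.ι k) i j} := by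
    ext g
    simp only [Set.mem_iInter, Set.mem_setOf_eq, SetLike.mem_coe]
    exact forall₂_congr fun i j => imp_congr_right fun _ => by rw [Matrix.sub_apply, sub_eq_zero]
  rw [e]
  refine isClosed_iInter fun i => isClosed_iInter fun j => ?_
  by_cases hij : w i - w j < (m + 1 : ℤ)
  · simpa [hij] using isClosed_entry W i j _
  · simp [hij]

/-- The subgroup of non-negative levels. -/
def upSub : Subgroup (Pt k A) where
  carrier := {g | DynLib.IsUp W.w (W.mat g)}
  one_mem' := by show DynLib.IsUp _ _; rw [W.mat_one]; exact DynLib.isWt_one.isUp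
  mul_mem' {g h} hg hh := by show DynLib.IsUp _ _; rw [W.mat_mul]; exact DynLib.IsUp.mul hg hh
  inv_mem' {g} hg := by
    show DynLib.IsUp _ _
    rw [← Matrix.inv_eq_right_inv (mat_mul_inv W g)]
    exact DynLib.IsUp.inv hg (IsUnit.of_mul_eq_one (W.mat g⁻¹).det (by rw [← Matrix.det_mul, mat_mul_inv, Matrix.det_one]))

lemma isClosed_upSub : IsClosed (upSub W : Set (Pt k A)) := by
  have e : (upSub W : Set (Pt k A)) = ⋂ i, ⋂ j, {g | W.w i < W.w j → W.mat g i j = 0} := by
    ext g
    simp only [Set.mem_iInter, Set.mem_setOf_eq, SetLike.mem_coe]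
    rfl
  rw [e]
  refine isClosed_iInter fun i => isClosed_iInter fun j => ?_
  by_cases hij : W.w i < W.w j
  · simpa [hij] using isClosed_entry W i j _
  · simp [hij]

/-- The limit of a point of non-negative levels is block diagonal. -/
lemma exists_lim (g : Pt k A) (hg : g ∈ upSub W) : ∃ z : Pt k A, (∀ a, z.ofConv a = g.ofConv (DynLib.coef lam 0 a)) ∧
    ∀ i j, W.mat z i j = if W.w i = W.w j then W.mat g i j else 0 := by
  obtain ⟨h, hh⟩ := (DynLib.limExists_iff lam g.ofConv).1 ((W.limExists_iff_up g).2 hg)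
  refine ⟨DynLib.push (DynLib.ev0 k k) h, fun a => DynLib.ev0_eq_coef lam g.ofConv hh a, fun i j => ?_⟩
  show (DynLib.push (DynLib.ev0 k k) h).ofConv (W.t i j) = _
  rw [DynLib.ev0_eq_coef lam g.ofConv hh, W.orbit_gen_coeff]
  exact if_congr sub_eq_zero rfl rfl

/-- The limit homomorphism. -/
def limHom : ↥(upSub W) →* Pt k A :=
  MonoidHom.mk' (fun g => (exists_lim W g.1 g.2).choose) fun g h => W.mat_injective (by
    ext i j
    have hg := (exists_lim W g.1 g.2).choose_spec.2
    have hh := (exists_lim W h.1 h.2).choose_spec.2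
    rw [(exists_lim W (g * h).1 (g * h).2).choose_spec.2, W.mat_mul, Matrix.mul_apply, Subgroup.coe_mul, W.mat_mul,
      Matrix.mul_apply]
    split_ifs with hij
    · refine Finset.sum_congr rfl fun c _ => ?_
      rw [hg, hh]
      by_cases h1 : W.w i = W.w c
      · rw [if_pos h1, if_pos (h1.symm.trans hij)]
      · rw [if_neg h1, zero_mul]
        rcases lt_or_gt_of_ne h1 with h2 | h2
        · rw [g.2 i c h2, zero_mul]
        · rw [h.2 c j (hij ▸ h2), mul_zero]
    · refine (Finset.sum_eq_zero fun c _ => ?_).symm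
      rw [hg, hh]
      by_cases h1 : W.w i = W.w c
      · rw [if_neg fun h2 => hij (h1.trans h2), mul_zero]
      · rw [if_neg h1, zero_mul])

lemma continuous_limHom : Continuous (limHom W) := by
  refine continuous_iff_isClosed.2 fun Y hY => ?_
  have e : limHom W ⁻¹' Y = Subtype.val ⁻¹'
      zeros (k := k) ((fun a => DynLib.coef lam 0 a) '' (vanish Y : Set A)) := by
    ext g
    conv_lhs => rw [← zeros_vanish_of_isClosed hY]
    simp only [Set.mem_preimage, mem_zeros, Set.forall_mem_image]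
    exact forall₂_congr fun a _ => by
      show (exists_lim W g.1 g.2).choose.ofConv a = 0 ↔ _
      rw [(exists_lim W g.1 g.2).choose_spec.1]
  rw [e]
  exact (isClosed_zeros _).preimage continuous_subtype_val

lemma limHom_commute (g : ↥(upSub W)) (z : kˣ) :
    limHom W g * DynLib.lamAt lam z = DynLib.lamAt lam z * limHom W g := W.mat_injective (by
  rw [W.mat_mul, W.mat_mul, W.mat_lamAt]
  ext i j
  rw [Matrix.mul_diagonal, Matrix.diagonal_mul]
  show W.mat (exists_lim W g.1 g.2).choose i j * _ = _ * W.mat (exists_lim W g.1 g.2).choose i j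
  rw [(exists_lim W g.1 g.2).choose_spec.2]
  split_ifs with hij
  · rw [hij, mul_comm]
  · rw [zero_mul, mul_zero])

lemma mem_levSub_of_limHom {g : ↥(upSub W)} (hg : limHom W g = 1) : (g : Pt k A) ∈ levSub W W.w 0 := by
  intro i j hij
  rw [Matrix.sub_apply, sub_eq_zero]
  rcases lt_or_eq_of_le (show W.w i ≤ W.w j by omega) with h | h
  · rw [g.2 i j h, Matrix.one_apply_ne (by rintro rfl; omega)]
  · have e := congrFun (congrFun (congrArg W.mat hg) i) j
    rw [show limHom W g = (exists_lim W g.1 g.2).choose from rfl, (exists_lim W g.1 g.2).choose_spec.2,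
      if_pos h, W.mat_one] at e
    exact e

/-- The neutral component of the non-negative levels of a regular one-parameter subgroup is solvable. -/
theorem isSol_neut_upSub {S : Subgroup (Pt k A)} (hS : IsMaxTor ⊤ S)
    (hreg : ∀ g : Pt k A, (∀ z : kˣ, g * DynLib.lamAt lam z = DynLib.lamAt lam z * g) → ∀ s ∈ S, g * s = s * g) :
    IsSol (neut (upSub W)) := by
  let P := neut (upSub W)
  let P' : Subgroup ↥(upSub W) := P.subgroupOf (upSub W)
  let Z := P'.map (limHom W)
  have hZp : IsPreconnected (Z : Set (Pt k A)) := by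
    have h1 : IsPreconnected (P' : Set ↥(upSub W)) := by
      refine Topology.IsInducing.subtypeVal.isPreconnected_image.1 ?_
      have himg : Subtype.val '' (P' : Set ↥(upSub W)) = (P : Set (Pt k A)) := by
        ext x
        constructor
        · rintro ⟨y, hy, rfl⟩; exact hy
        · exact fun hx => ⟨⟨x, neut_le _ hx⟩, hx, rfl⟩
      exact himg.symm ▸ isPreconnected_neut (upSub W)
    rw [Subgroup.coe_map]
    exact h1.image _ (continuous_limHom W).continuousOn
  have hZle : Z ≤ cart ⊤ S := le_neut hZp fun z hz => by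
    obtain ⟨g, -, rfl⟩ := hz
    exact ⟨trivial, Subgroup.mem_centralizer_iff.2 fun s hs => (hreg _ (limHom_commute W g) s hs).symm⟩
  obtain ⟨n, hn⟩ := (hS.isSol_cart (by simp)).mono hZle
  obtain ⟨m, hm⟩ := isSol_levSub W W.w
  refine ⟨n + m, le_bot_iff.1 ?_⟩
  rw [der_add]
  refine (der_mono ?_ m).trans hm.le
  let Sn : ℕ → Subgroup (Pt k A) := fun l => ((der Z l).comap (limHom W)).map (upSub W).subtype
  have hder : ∀ l, der P l ≤ Sn l := fun l => by
    induction l with
    | zero => exact fun x hx => ⟨⟨x, neut_le _ hx⟩, ⟨⟨x, neut_le _ hx⟩, hx, rfl⟩, rfl⟩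
    | succ l ih =>
      rw [der_succ]
      refine Subgroup.commutator_le.2 fun a ha b hb => ?_
      obtain ⟨a', ha', rfl⟩ := ih ha
      obtain ⟨b', hb', rfl⟩ := ih hb
      refine ⟨⁅a', b'⁆, ?_, map_commutatorElement _ _ _⟩
      show limHom W ⁅a', b'⁆ ∈ der Z (l + 1)
      rw [map_commutatorElement]
      exact Subgroup.commutator_mem_commutator ha' hb'
  intro x hx
  obtain ⟨y, hy, rfl⟩ := hder n hx
  refine mem_levSub_of_limHom W ?_
  have hy' : limHom W y ∈ der Z n := hy
  rwa [hn, Subgroup.mem_bot] at hy'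

/-- **A double coset of a Borel subgroup contains a non-empty open set.** -/
theorem exists_open_double_coset [IsDomain A] {B : Subgroup (Pt k A)} (hB : IsBor ⊤ B) :
    ∃ (d : Pt k A) (O : Set (Pt k A)), IsOpen O ∧ O.Nonempty ∧ ∀ x ∈ O, ∃ b ∈ B, ∃ b' ∈ B, x = b * d * b' := by
  classical
  haveI : _root_.IsReduced A := inferInstance
  have hirr := isIrreducible_univ (k := k) (R := A)
  have hTc : IsClosed ((⊤ : Subgroup (Pt k A)) : Set (Pt k A)) := by rw [Subgroup.coe_top]; exact isClosed_univ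
  have hTp : IsPreconnected ((⊤ : Subgroup (Pt k A)) : Set (Pt k A)) := by
    rw [Subgroup.coe_top]; exact hirr.isConnected.isPreconnected
  obtain ⟨S, hS, -⟩ := exists_isMaxTor hTc hTp
  obtain ⟨lam, lamNeg, hneg, -, hreg⟩ := exists_cochar hS.tor
  obtain ⟨W⟩ := DynLib.exists_weightRep k lam
  have hUm : IsClosed (levSub W (fun i => - W.w i) 0 : Set (Pt k A)) := isClosed_levSub W _ 0
  set U₀ := neut (levSub W (fun i => - W.w i) 0)
  set P₀ := neut (upSub W)
  obtain ⟨a, -, ha⟩ := hB.exists_conj_le hTc hTp le_top (isPreconnected_neut _) ((isSol_levSub W _).mono (neut_le _))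
  obtain ⟨c, -, hc⟩ := hB.exists_conj_le hTc hTp le_top (isPreconnected_neut _) (isSol_neut_upSub W hS hreg)
  obtain ⟨F, -, hFcov⟩ := exists_neut_cosets hUm
  obtain ⟨F', -, hF'cov⟩ := exists_neut_cosets (isClosed_upSub W)
  let d := a * c⁻¹
  let X : Set (Pt k A) := {x | ∃ b ∈ B, ∃ b' ∈ B, x = b * d * b'}
  let O₁ : Set (Pt k A) := {g | g.ofConv W.cell ≠ 0}
  have hO₁ : IsOpen O₁ := BorelLib.isOpen_ne _
  have hO₁ne : O₁.Nonempty := by
    refine ⟨1, ?_⟩
    have h1 : Dyn.LimIsOne k A lamNeg k (1 : Pt k A).ofConv :=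
      (W.limIsOne_neg_iff_low1 hneg 1).2 (by rw [W.mat_one]; exact fun i j _ => rfl)
    have h2 : Dyn.LimExists k A lam k (1 : Pt k A).ofConv :=
      (W.limExists_iff_up 1).2 (by rw [W.mat_one]; exact DynLib.isWt_one.isUp)
    have h := W.isUnit_cell hneg h1 h2
    rw [one_mul] at h
    exact h.ne_zero
  let cov : Pt k A × Pt k A → Set (Pt k A) := fun p => (fun x => (p.1 * a⁻¹) * x * (c * p.2)) '' X
  have hcover : O₁ ⊆ ⋃ p ∈ F ×ˢ F'.image (·⁻¹), cov p := by
    intro g hg
    obtain ⟨u, p, hup, hu, hp⟩ := W.exists_factor hneg g (Ne.isUnit hg)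
    have hu' : u ∈ levSub W (fun i => - W.w i) 0 := fun i j hij => by
      rw [Matrix.sub_apply, sub_eq_zero]
      exact (W.limIsOne_neg_iff_low1 hneg u).1 hu i j (by push_cast at hij; omega)
    have hp' : p ∈ upSub W := (W.limExists_iff_up p).1 hp
    obtain ⟨r, hr, hru⟩ := hFcov u hu'
    obtain ⟨r', hr', hrp⟩ := hF'cov p⁻¹ ((upSub W).inv_mem hp')
    refine Set.mem_iUnion₂.2 ⟨(r, r'⁻¹), Finset.mem_product.2 ⟨hr, Finset.mem_image_of_mem _ hr'⟩, ?_⟩
    have hb : a * (r⁻¹ * u) * a⁻¹ ∈ B := ha ⟨_, hru, rfl⟩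
    have hb' : c * (p * r') * c⁻¹ ∈ B := hc ⟨p * r', by simpa using P₀.inv_mem hrp, rfl⟩
    refine ⟨(a * (r⁻¹ * u) * a⁻¹) * d * (c * (p * r') * c⁻¹), ⟨_, hb, _, hb', rfl⟩, ?_⟩
    rw [← hup]
    show (r * a⁻¹) * _ * (c * r'⁻¹) = u * p
    simp only [d]
    group
  have huniv : closure X = Set.univ := by
    have h1 : closure O₁ = Set.univ := by
      rw [← dense_iff_closure_eq, dense_iff_inter_open]
      intro U hU hUne
      obtain ⟨x, -, h⟩ := hirr.2 U O₁ hU hO₁ (by simpa using hUne) (by simpa using hO₁ne)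
      exact ⟨x, h⟩
    have h2 : (Set.univ : Set (Pt k A)) ⊆ ⋃₀ (((F ×ˢ F'.image (·⁻¹)).image fun p => closure (cov p)) : Set (Set (Pt k A))) := by
      rw [← h1, Finset.coe_image, Set.sUnion_image]
      refine closure_minimal (hcover.trans (Set.iUnion₂_mono fun p _ => subset_closure)) ?_
      exact (Finset.finite_toSet _).isClosed_biUnion fun p _ => isClosed_closure
    obtain ⟨Y, hY, hsub⟩ := isIrreducible_iff_sUnion_isClosed.1 hirr _ (fun Y hY => by
      obtain ⟨p, -, rfl⟩ := Finset.mem_image.1 hY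
      exact isClosed_closure) h2
    obtain ⟨p, -, rfl⟩ := Finset.mem_image.1 hY
    refine Set.eq_univ_of_forall fun x => ?_
    have h3 := hsub (Set.mem_univ ((p.1 * a⁻¹) * x * (c * p.2)))
    have hcont : Continuous fun y : Pt k A => (p.1 * a⁻¹)⁻¹ * y * (c * p.2)⁻¹ :=
      (BorelLib.continuous_mul_const _).comp (BorelLib.continuous_const_mul _)
    have h4 := map_mem_closure hcont h3 (t := X) (by
      rintro _ ⟨y, hy, rfl⟩
      show _ ∈ X
      simpa [mul_assoc] using hy)
    simpa [mul_assoc] using h4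
  haveI := finiteType_tensor (k := k) (R := A) (R' := A)
  let Y : Set (Pt k (A ⊗[k] A)) := {y | fstP y ∈ B ∧ sndP y ∈ B}
  have hYc : IsClosed Y :=
    (hB.closed.preimage IsMor.fstP.continuous).inter (hB.closed.preimage IsMor.sndP.continuous)
  have hBirr := isIrreducible_of_connected hB.closed hB.conn
  have hYi : IsIrreducible Y := isIrreducible_prod hBirr hBirr
  obtain ⟨φ, hφ⟩ := (IsMor.fstP.mul (IsMor.const d)).mul (IsMor.sndP (R := A) (R' := A) : IsMor _)
  have himg : pull φ '' Y = X := by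
    ext x
    constructor
    · rintro ⟨y, ⟨h1, h2⟩, rfl⟩
      exact ⟨_, h1, _, h2, (hφ y).symm⟩
    · rintro ⟨b, hb, b', hb', rfl⟩
      exact ⟨pair b b', ⟨by rwa [fstP_pair], by rwa [sndP_pair]⟩, by rw [← hφ]; simp⟩
  obtain ⟨O, hO, hOne, hOsub, -⟩ := exists_open_saturated φ hYc hYi
  rw [himg, huniv, Set.inter_univ] at hOne hOsub
  exact ⟨d, O, hO, hOne, fun x hx => hOsub hx⟩

end Groth.Agent.ObsLib

end
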