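import Groth.Agent.ObsLib.UFixed
import Groth.Agent.ObsLib.Stable
import Groth.Agent.BorelLib.Facts
import Groth.Agent.BorelLib.RedBridge

/-!
# A Borel subgroup is generated by a maximal torus and the unipotent radical
-/

set_option autoImplicit false
set_option linter.style.haveILetI false
set_option linter.unusedSectionVars false
set_option backward.isDefEq.respectTransparency false
set_option backward.isDefEq.respectTransparency.types false
set_option maxHeartbeats 2000000
set_option synthInstance.maxHeartbeats 400000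

noncomputable section

universe u

open CategoryTheory MonoidalCategory CartesianMonoidalCategory AlgebraicGeometry WithConv
open scoped MonObj TensorProduct
open CoactBr (sp pt)

namespace Groth.Agent.ObsLib

open BorelLib BlowRegLib

attribute [-instance] CategoryTheory.Hom.commGroup
attribute [local instance] pTop pTopTensor

variable {k : Type u} [Field k] [IsAlgClosed k] {A : Type u} [CommRing A] [HopfAlgebra k A] [Algebra.FiniteType k A]
  [_root_.IsReduced A] {G : Over (Spec (CommRingCat.of k))} [GrpObj G] [IsAffine G.left] [Smooth G.hom]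
  (v : sp k A ≅ G) [IsMonHom v.hom]

/-- A closed subgroup containing a maximal torus and the unipotent radical of a Borel subgroup contains it. -/
theorem borel_le {Bo : Over (Spec (CommRingCat.of k))} [GrpObj Bo] {iB : Bo ⟶ G} [IsMonHom iB]
    (hB : Red.IsBorelOver k iB) {U : Over (Spec (CommRingCat.of k))} [GrpObj U] {u : U ⟶ Bo}
    (hU : Par.IsUnipotentRadical u) [IsMonHom (u ≫ iB)] {T : Over (Spec (CommRingCat.of k))} [GrpObj T] {t : T ⟶ Bo}
    [IsMonHom (t ≫ iB)] (hT : AGF.IsMaxTorus (t ≫ iB)) {M : Subgroup (Pt k A)}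
    (hM : IsClosed (M : Set (Pt k A))) (hTM : ptsSub v (t ≫ iB) ≤ M) (hUM : ptsSub v (u ≫ iB) ≤ M) :
    ptsSub v iB ≤ M := by
  classical
  obtain ⟨-, hBc, hBsm, hBconn, hBsol, -⟩ := id hB
  haveI := hBc; haveI := hBsm; haveI := hBconn
  haveI : IsAffine Bo.left := isAffine_of_isAffineHom iB.left
  haveI : QuasiCompact G.hom := inferInstance
  set K := ptsSub v iB with hKdef
  have hKc : IsClosed (K : Set (Pt k A)) := isClosed_ptsSub v
  have hKp : _root_.IsPreconnected (K : Set (Pt k A)) := isPreconnected_ptsSub v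
  have hKs : IsSol K := isSol_ptsSub v hBsol
  obtain ⟨D, hD⟩ := exists_flag_uni hKc hKp hKs
  obtain ⟨S, hSK, hS, hconj, hdec, -⟩ := D.exists_torus_decomp hKc hKp
  -- the torus is conjugate to `S`
  have hTtor : IsTor (ptsSub v (t ≫ iB)) := (isMaxTor_ptsSub v hT).tor
  have hTK : ptsSub v (t ≫ iB) ≤ K := ptsSub_le_of_factor v rfl
  obtain ⟨g₀, hg₀, hle⟩ := hconj _ hTK hTtor
  have hTS : ptsSub v (t ≫ iB) = conjSub g₀⁻¹ S := by
    refine ((isMaxTor_ptsSub v hT).maximal _ le_top (hS.conjSub _) ?_).symm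
    have h1 := conjSub_mono (a := g₀⁻¹) hle
    rwa [conjSub_conjSub, inv_mul_cancel, conjSub_one] at h1
  -- the connected unipotent part lies in the radical
  obtain ⟨N, _, n, hn, hnc, hnsm, hnpts, hnconn, -⟩ := exists_scheme_sub v (isClosed_neut (D.isClosed_U hKc 1))
  haveI := hn; haveI := hnc; haveI := hnsm
  haveI := hnconn (isPreconnected_neut _)
  haveI : IsAffine N.left := isAffine_of_isAffineHom n.left
  haveI : AlgebraicGeometry.IsReduced N.left := AlgSpLib.isReduced_of_smooth N.hom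
  have hnK : ptsSub v n ≤ K := hnpts ▸ (neut_le _).trans fun x hx => ((hD x).1 hx).1
  obtain ⟨f, hf⟩ := exists_factor_of_le v (i := n) (i' := iB) hnK
  haveI : Mono iB := DiagRep.mono_of_isClosedImmersion iB inferInstance
  haveI : IsMonHom f :=
    { one_hom := (cancel_mono iB).1 (by rw [Category.assoc, hf, IsMonHom.one_hom, IsMonHom.one_hom])
      mul_hom := (cancel_mono iB).1 (by
        rw [Category.assoc, hf, IsMonHom.mul_hom, Category.assoc, IsMonHom.mul_hom (f := iB), ← Category.assoc,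
          tensorHom_comp_tensorHom, hf]) }
  haveI : IsClosedImmersion (f.left ≫ iB.left) := by rw [← Over.comp_left, hf]; infer_instance
  haveI : IsClosedImmersion f.left := IsClosedImmersion.of_comp f.left iB.left
  obtain ⟨C, _, _, w, hw, π, -, hC, hC', hπ, hsur⟩ := exists_sub_data v iB
  haveI := hw; haveI := hC; haveI := hC'
  have hNle : ptsSub v n ≤ ptsSub v (u ≫ iB) := by
    have hnorm : ∀ g, conjSub g (ptsSub w f) ≤ ptsSub w f := fun g => by
      rintro _ ⟨x, hx, rfl⟩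
      rw [← comap_ptsSub v w hπ hsur (l := f)] at hx ⊢
      simp only [Subgroup.mem_comap] at hx ⊢
      have hpt : ptsSub v (f ≫ iB) = ptsSub v n := by simp only [hf]
      have hx' : subHom v w hπ x ∈ neut (D.U 1) := by rw [← hnpts, ← hpt]; exact hx
      have hgK : subHom v w hπ g ∈ K := pull_mem v w hπ g
      show subHom v w hπ (g * x * g⁻¹) ∈ ptsSub v (f ≫ iB)
      rw [hpt, hnpts]; simp only [map_mul, map_inv]
      have hsubset : conjSub (subHom v w hπ g) (neut (D.U 1)) ≤ neut (D.U 1) :=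
        le_neut (isPreconnected_conjSub (isPreconnected_neut _)) ((conjSub_mono (neut_le _)).trans (by
          rintro _ ⟨y, hy, rfl⟩
          exact D.conj_mem_U hgK hy))
      exact hsubset ⟨_, hx', rfl⟩
    have hno : Red.HasNoSubtorus k N := hasNoSubtorus_of_uni v n fun x hx => by
      rw [hnpts] at hx
      exact ((hD x).1 (neut_le _ hx)).2
    obtain ⟨-, -, -, -, -, -, humax⟩ := hU
    obtain ⟨l, hl⟩ := humax N f inferInstance (isNormalHom_of_pts w hnorm) hnsm inferInstance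
      fun s => ⟨(geom_facts s N).2.2, hasNoSubtorus_geom s hno⟩
    exact ptsSub_le_of_factor v (f := l) (by rw [← Category.assoc, hl, hf])
  -- finite index
  obtain ⟨R, hR, hcov⟩ := exists_neut_cosets (D.isClosed_U hKc 1)
  let M' := M ⊓ K
  have hM' : IsClosed (M' : Set (Pt k A)) := hM.inter hKc
  have hSN : ∀ g ∈ K, ∃ r ∈ R.image (fun r => g₀⁻¹ * r * g₀), ∃ m ∈ M', g = r * m := fun g hg => by
    obtain ⟨s, hs, hsu⟩ := hdec (g₀ * g⁻¹ * g₀⁻¹) (K.mul_mem (K.mul_mem hg₀ (inv_mem hg)) (inv_mem hg₀))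
    obtain ⟨r, hr, hrn⟩ := hcov _ hsu
    -- the inverse decomposition
    have hrK : r ∈ K := ((hD r).1 (hR r hr)).1
    obtain ⟨r', hr', hrn'⟩ := hcov _ ((D.U 1).inv_mem hsu)
    have hr'K : r' ∈ K := ((hD r').1 (hR r' hr')).1
    have ha : g₀⁻¹ * s⁻¹ * g₀ ∈ M' := by
      have h1 : g₀⁻¹ * s⁻¹ * g₀ ∈ ptsSub v (t ≫ iB) := by
        rw [hTS]
        exact ⟨s⁻¹, S.inv_mem hs, by simp⟩
      exact ⟨hTM h1, hTK h1⟩
    have hb : g₀⁻¹ * (r'⁻¹ * (s⁻¹ * (g₀ * g⁻¹ * g₀⁻¹))⁻¹) * g₀ ∈ M' := by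
      have h1 : conjSub g₀⁻¹ (neut (D.U 1)) ≤ neut (D.U 1) :=
        le_neut (isPreconnected_conjSub (isPreconnected_neut _)) ((conjSub_mono (neut_le _)).trans (by
          rintro _ ⟨y, hy, rfl⟩
          exact D.conj_mem_U (inv_mem hg₀) hy))
      have h2 : g₀⁻¹ * (r'⁻¹ * (s⁻¹ * (g₀ * g⁻¹ * g₀⁻¹))⁻¹) * g₀ ∈ ptsSub v (u ≫ iB) := by
        refine hNle (hnpts.symm ▸ h1 ⟨_, hrn', by simp⟩)
      exact ⟨hUM h2, ptsSub_le_of_factor v rfl h2⟩
    exact ⟨_, Finset.mem_image_of_mem _ hr', _, M'.mul_mem hb ha, by group⟩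
  set R' := R.image (fun r => g₀⁻¹ * r * g₀)
  let Cs : Set (Pt k A) := ⋃ r ∈ R'.filter (fun r => r ∉ M'), (fun x => r⁻¹ * x) ⁻¹' (M' : Set (Pt k A))
  have hCs : IsClosed Cs :=
    (Finset.finite_toSet _).isClosed_biUnion fun r _ => hM'.preimage (continuous_const_mul r⁻¹)
  have hcover : (K : Set (Pt k A)) ⊆ (M' : Set (Pt k A)) ∪ Cs := fun g hg => by
    obtain ⟨r, hr, m, hm, rfl⟩ := hSN g hg
    by_cases hrM : r ∈ M'
    · exact Or.inl (M'.mul_mem hrM hm)
    · exact Or.inr (Set.mem_iUnion₂.2 ⟨r, Finset.mem_filter.2 ⟨hr, hrM⟩, by simpa using hm⟩)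
  intro g hg
  rcases hcover hg with h | h
  · exact h.1
  exfalso
  obtain ⟨x, -, hx1, hx2⟩ := (isPreconnected_closed_iff.1 hKp) _ _ hM' hCs hcover ⟨1, K.one_mem, M'.one_mem⟩ ⟨g, hg, h⟩
  obtain ⟨r, hr, hrx⟩ := Set.mem_iUnion₂.1 hx2
  apply (Finset.mem_filter.1 hr).2
  have := M'.mul_mem hx1 (M'.inv_mem hrx)
  simpa using this

end Groth.Agent.ObsLib

end
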