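import Groth.Agent.ObsLib.Reps

/-!
# Observable subgroups on points: invariants, stabilisers and semi-invariants
-/

set_option autoImplicit false
set_option linter.style.haveILetI false
set_option linter.unusedSectionVars false

noncomputable section

universe u v w

open WithConv
open scoped TensorProduct

namespace Groth.Agent.ObsLib

open BorelLib

attribute [local instance] pTop pTopTensor

variable {k : Type u} [Field k] {A : Type u} [CommRing A] [HopfAlgebra k A]

/-- Invariance under right translation by a subgroup. -/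
def Inv (S : Subgroup (Pt k A)) (a : A) : Prop := ∀ x : Pt k A, ∀ h ∈ S, (x * h).ofConv a = x.ofConv a

/-- Invariance under right translation on a subgroup. -/
def InvOn (S T : Subgroup (Pt k A)) (a : A) : Prop :=
  ∀ x ∈ T, ∀ h ∈ S, (x * h).ofConv a = x.ofConv a

/-- A subgroup observable in a larger one. -/
def ObsIn (S T : Subgroup (Pt k A)) : Prop :=
  ∀ g ∈ T, (∀ a : A, InvOn S T a → g.ofConv a = (1 : Pt k A).ofConv a) → g ∈ S

/-- An observable subgroup. -/
def Obs (S : Subgroup (Pt k A)) : Prop :=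
  ∀ g, (∀ a : A, Inv S a → g.ofConv a = (1 : Pt k A).ofConv a) → g ∈ S

/-- A semi-invariant function. -/
def SemiInv (S : Subgroup (Pt k A)) (χ : Pt k A → k) (a : A) : Prop :=
  ∀ x : Pt k A, ∀ h ∈ S, (x * h).ofConv a = χ h * x.ofConv a

/-- The characters of semi-invariant functions are closed under inverses. -/
def CharInv (S : Subgroup (Pt k A)) : Prop :=
  ∀ (a : A) (χ : Pt k A → k), SemiInv S χ a → (1 : Pt k A).ofConv a ≠ 0 →
    ∃ b : A, SemiInv S (fun h => (χ h)⁻¹) b ∧ (1 : Pt k A).ofConv b ≠ 0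

/-- A subgroup is the stabiliser of a vector. -/
def IsVecStab (S : Subgroup (Pt k A)) : Prop :=
  ∃ (V : Type u) (_ : AddCommGroup V) (_ : Module k V) (_ : FiniteDimensional k V)
    (r : RegRep (⊤ : Subgroup (Pt k A)) V) (v : V), ∀ g, g ∈ S ↔ r.ρ g v = v

variable {S T : Subgroup (Pt k A)}

lemma Inv.mono (hST : S ≤ T) {a : A} (ha : Inv T a) : Inv S a := fun x h hh => ha x h (hST hh)

lemma Inv.lT {a : A} (ha : Inv S a) (g : Pt k A) : Inv S (ObsLib.lT g a) := fun x h hh => by
  rw [eval_lT, eval_lT, ← mul_assoc, ha _ h hh]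

lemma SemiInv.lT {χ : Pt k A → k} {a : A} (ha : SemiInv S χ a) (g : Pt k A) : SemiInv S χ (ObsLib.lT g a) :=
  fun x h hh => by rw [eval_lT, eval_lT, ← mul_assoc, ha _ h hh]

lemma SemiInv.mul {χ ψ : Pt k A → k} {a b : A} (ha : SemiInv S χ a) (hb : SemiInv S ψ b) :
    SemiInv S (fun h => χ h * ψ h) (a * b) := fun x h hh => by
  rw [map_mul, map_mul, ha x h hh, hb x h hh]; ring

lemma SemiInv.pow {χ : Pt k A → k} {a : A} (ha : SemiInv S χ a) (n : ℕ) :
    SemiInv S (fun h => χ h ^ n) (a ^ n) := fun x h hh => by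
  rw [map_pow, map_pow, ha x h hh, mul_pow]

lemma SemiInv.congr {χ ψ : Pt k A → k} {a : A} (ha : SemiInv S χ a) (h : ∀ g ∈ S, χ g = ψ g) : SemiInv S ψ a :=
  fun x g hg => by rw [ha x g hg, h g hg]

section Char

variable {χ : Pt k A → k} {a : A} (ha : SemiInv S χ a) (h1 : (1 : Pt k A).ofConv a ≠ 0)
include ha h1

lemma SemiInv.char_eq {h : Pt k A} (hh : h ∈ S) : χ h = h.ofConv a / (1 : Pt k A).ofConv a := by
  have := ha 1 h hh
  rw [one_mul] at this
  rw [this, mul_div_cancel_right₀ _ h1]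

lemma SemiInv.char_one : χ 1 = 1 := by rw [ha.char_eq h1 S.one_mem, div_self h1]

lemma SemiInv.char_mul {g h : Pt k A} (hg : g ∈ S) (hh : h ∈ S) : χ (g * h) = χ g * χ h := by
  have e := ha g h hh
  have e2 := ha 1 g hg
  rw [one_mul] at e2
  rw [ha.char_eq h1 (S.mul_mem hg hh), e, e2, ← mul_assoc, mul_div_cancel_right₀ _ h1, mul_comm]

lemma SemiInv.char_ne {h : Pt k A} (hh : h ∈ S) : χ h ≠ 0 := fun h0 => by
  have e := ha.char_mul h1 hh (inv_mem hh)
  rw [mul_inv_cancel, ha.char_one h1, h0, zero_mul] at e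
  exact one_ne_zero e

lemma SemiInv.char_inv {h : Pt k A} (hh : h ∈ S) : χ h⁻¹ = (χ h)⁻¹ :=
  eq_inv_of_mul_eq_one_left (by rw [← ha.char_mul h1 (inv_mem hh) hh, inv_mul_cancel, ha.char_one h1])

end Char

/-- It is enough that some power of each character has an inverse. -/
theorem charInv_of_pow
    (h : ∀ (a : A) (χ : Pt k A → k), SemiInv S χ a → (1 : Pt k A).ofConv a ≠ 0 →
      ∃ (n : ℕ) (b : A), SemiInv S (fun h => ((χ h) ^ (n + 1))⁻¹) b ∧ (1 : Pt k A).ofConv b ≠ 0) : CharInv S := by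
  intro a χ ha h1
  obtain ⟨n, b, hb, hb1⟩ := h a χ ha h1
  refine ⟨a ^ n * b, ((ha.pow n).mul hb).congr fun g hg => ?_, by rw [map_mul, map_pow]; exact mul_ne_zero (pow_ne_zero _ h1) hb1⟩
  have hne := ha.char_ne h1 hg
  rw [pow_succ]
  field_simp

/-- Coefficient functions of a weight vector are semi-invariant. -/
theorem semiInv_of_weight {V : Type v} [AddCommGroup V] [Module k V] (r : RegRep (⊤ : Subgroup (Pt k A)) V) {v : V}
    (hv : v ≠ 0) {χ : Pt k A → k} (h : ∀ g ∈ S, r.ρ g v = χ g • v) :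
    ∃ a : A, SemiInv S χ a ∧ (1 : Pt k A).ofConv a ≠ 0 := by
  obtain ⟨φ, hφ⟩ := ComodLib.exists_dual_ne (k := k) hv
  obtain ⟨a, ha⟩ := r.reg φ v
  simp only at ha
  refine ⟨a, fun x g hg => ?_, by rw [← ha, r.map_one, Module.End.one_apply]; exact hφ⟩
  rw [← ha, ← ha, r.mul_apply trivial trivial, h g hg, map_smul, map_smul, smul_eq_mul]

variable [IsAlgClosed k] [Algebra.FiniteType k A] [IsReduced A]

/-- Semi-invariant functions are weight vectors. -/
theorem weight_of_semiInv {χ : Pt k A → k} {a : A} (ha : SemiInv S χ a) (h1 : (1 : Pt k A).ofConv a ≠ 0) :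
    ∃ (V : Type u) (_ : AddCommGroup V) (_ : Module k V) (_ : FiniteDimensional k V)
      (r : RegRep (⊤ : Subgroup (Pt k A)) V) (v : V), v ≠ 0 ∧ ∀ g ∈ S, r.ρ g v = χ g • v := by
  obtain ⟨W, hfd, hsW, hW⟩ := exists_stable (k := k) {a}
  haveI := hfd
  have haW : a ∈ W := hsW (by simp)
  refine ⟨W, inferInstance, inferInstance, hfd, funRep W hW, ⟨a, haW⟩, fun h0 => h1 ?_, fun g hg => Subtype.ext ?_⟩
  · rw [show a = 0 from congrArg Subtype.val h0, map_zero]
  · show rT g a = χ g • a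
    exact ext_pts fun x => by rw [eval_rT, ha x g hg, map_smul, smul_eq_mul]

/-- Stabilisers of vectors are observable. -/
theorem IsVecStab.obs (h : IsVecStab S) : Obs S := by
  obtain ⟨V, _, _, _, r, v, hv⟩ := h
  intro g hg
  rw [hv, ← sub_eq_zero]
  refine (Module.forall_dual_apply_eq_zero_iff k _).1 fun φ => ?_
  obtain ⟨a, ha⟩ := r.reg φ v
  simp only at ha
  have hinv : Inv S a := fun x h hh => by
    rw [← ha, ← ha, r.mul_apply trivial trivial, (hv h).1 hh]
  rw [map_sub, sub_eq_zero, ha, hg a hinv, ← ha, r.map_one, Module.End.one_apply]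

/-- If the characters of semi-invariants are closed under inverse, the subgroup is a stabiliser. -/
theorem CharInv.isVecStab (hS : IsClosed (S : Set (Pt k A))) (h : CharInv S) : IsVecStab S := by
  obtain ⟨V, _, _, _, r, v, hv, hst⟩ := exists_line_rep hS
  have hmem : ∀ g, g ∈ S ↔ ∃ c : k, r.ρ g v = c • v := fun g => by
    rw [← hst]
    exact ⟨fun h => h.2, fun h => ⟨trivial, h⟩⟩
  obtain ⟨χ, -, hχ⟩ := r.exists_reg_weight (H := S) hv fun g hg => (hmem g).1 hg
  obtain ⟨a, ha, ha1⟩ := semiInv_of_weight r hv hχ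
  obtain ⟨b, hb, hb1⟩ := h a χ ha ha1
  obtain ⟨U, _, _, _, s, u, hu, hsu⟩ := weight_of_semiInv hb hb1
  refine ⟨V ⊗[k] U, inferInstance, inferInstance, inferInstance, tensorRep r s, v ⊗ₜ u, fun g => ⟨fun hg => ?_, fun hg => ?_⟩⟩
  · rw [tensorRep_tmul, hχ g hg, hsu g hg, TensorProduct.smul_tmul, smul_smul,
      mul_inv_cancel₀ (ha.char_ne ha1 hg), one_smul]
  · rw [tensorRep_tmul] at hg
    obtain ⟨ψ, hψ⟩ := ComodLib.exists_dual_ne (k := k) (s.apply_ne_zero (g := g) trivial hu)
    refine (hmem g).2 ⟨(ψ (s.ρ g u))⁻¹ * ψ u, ?_⟩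
    have e := congrArg ((TensorProduct.rid k V).toLinearMap ∘ₗ ψ.lTensor V) hg
    simp only [LinearMap.coe_comp, Function.comp_apply, LinearMap.lTensor_tmul, LinearEquiv.coe_coe,
      TensorProduct.rid_tmul] at e
    rw [← smul_smul, ← e, smul_smul, inv_mul_cancel₀ hψ, one_smul]

theorem CharInv.obs (hS : IsClosed (S : Set (Pt k A))) (h : CharInv S) : Obs S := (h.isVecStab hS).obs

/-- Finitely many invariants separate the cosets of an observable subgroup. -/
theorem Obs.exists_sep (h : Obs S) :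
    ∃ s : Finset A, (∀ a ∈ s, Inv S a) ∧
      ∀ g g' : Pt k A, (∀ a ∈ s, g.ofConv a = g'.ofConv a) → g⁻¹ * g' ∈ S := by
  classical
  haveI := finiteType_tensor (k := k) (R := A) (R' := A)
  haveI : IsNoetherianRing (A ⊗[k] A) := Algebra.FiniteType.isNoetherianRing k _
  let d : A → A ⊗[k] A := fun a => a ⊗ₜ 1 - (1 : A) ⊗ₜ a
  obtain ⟨s', hs', hspan⟩ := (Submodule.fg_span_iff_fg_span_finset_subset (d '' {a | Inv S a})).1
    (IsNoetherian.noetherian (Submodule.span (A ⊗[k] A) (d '' {a | Inv S a})))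
  choose f hf hf' using fun t : s' => hs' t.2
  refine ⟨Finset.univ.image f, fun a ha => ?_, fun g g' hgg => h _ fun a ha => ?_⟩
  · obtain ⟨t, -, rfl⟩ := Finset.mem_image.1 ha
    exact hf t
  have hle : Submodule.span (A ⊗[k] A) (s' : Set (A ⊗[k] A)) ≤ RingHom.ker (pair g g').ofConv.toRingHom := by
    refine Submodule.span_le.2 fun t ht => ?_
    show (pair g g').ofConv t = 0
    rw [← show d (f ⟨t, ht⟩) = t from hf' ⟨t, ht⟩, map_sub, pair_tmul, pair_tmul, map_one, map_one, mul_one, one_mul, sub_eq_zero]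
    exact hgg _ (Finset.mem_image_of_mem _ (Finset.mem_univ _))
  have hall : ∀ c : A, Inv S c → g.ofConv c = g'.ofConv c := fun c hc => by
    have : d c ∈ Submodule.span (A ⊗[k] A) (d '' {a | Inv S a}) := Submodule.subset_span ⟨c, hc, rfl⟩
    rw [hspan] at this
    have e : (pair g g').ofConv (d c) = 0 := hle this
    rwa [map_sub, pair_tmul, pair_tmul, map_one, map_one, mul_one, one_mul, sub_eq_zero] at e
  have := (hall _ (ha.lT g⁻¹)).symm
  rwa [eval_lT, eval_lT, inv_mul_cancel] at this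

/-- A subgroup whose cosets are separated by invariants is observable. -/
theorem obs_of_sep {s : Finset A} (hs : ∀ a ∈ s, Inv S a)
    (h : ∀ g g' : Pt k A, (∀ a ∈ s, g.ofConv a = g'.ofConv a) → g⁻¹ * g' ∈ S) : Obs S := fun g hg => by
  have := h 1 g fun a ha => (hg a (hs a ha)).symm
  rwa [inv_one, one_mul] at this

/-- An observable subgroup is the stabiliser of a vector. -/
theorem Obs.isVecStab (h : Obs S) : IsVecStab S := by
  classical
  obtain ⟨s, hs, hsep⟩ := h.exists_sep
  obtain ⟨W, hfd, hsW, hW⟩ := exists_stable (k := k) s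
  haveI := hfd
  let e := s.equivFin
  refine ⟨Fin s.card → W, inferInstance, inferInstance, inferInstance, piRep s.card (funRep W hW),
    fun j => ⟨(e.symm j : A), hsW (e.symm j).2⟩, fun g => ⟨fun hg => ?_, fun hg => ?_⟩⟩
  · funext j
    refine Subtype.ext (ext_pts (k := k) fun x => ?_)
    show x.ofConv (rT g _) = _
    rw [eval_rT]
    exact hs _ (e.symm j).2 x g hg
  · have := hsep 1 g fun a ha => by
      have h' := congrArg (fun w : W => (1 : Pt k A).ofConv (w : A)) (congrFun hg (e ⟨a, ha⟩))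
      simp only [piRep_apply, coe_funRep, Equiv.symm_apply_apply, eval_rT, one_mul] at h'
      exact h'.symm
    rwa [inv_one, one_mul] at this

theorem obs_iff_isVecStab : Obs S ↔ IsVecStab S := ⟨Obs.isVecStab, IsVecStab.obs⟩

theorem Obs.isClosed (h : Obs S) : IsClosed (S : Set (Pt k A)) := by
  have e : (S : Set (Pt k A)) = ⋂ a ∈ {a : A | Inv S a}, {g | g.ofConv a = (1 : Pt k A).ofConv a} := by
    ext g
    simp only [SetLike.mem_coe, Set.mem_iInter, Set.mem_ofPred_eq]
    exact ⟨fun hg a ha => by simpa using ha 1 g hg, h g⟩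
  rw [e]
  exact isClosed_biInter fun a _ => (IsReg.eval a).isClosed_eq (IsReg.const _)

end Groth.Agent.ObsLib

end
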