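import Groth.Agent.BorelLib.Borel
import Groth.Agent.BorelLib.TorScheme
import Groth.Agent.BlowRegLib.ObsFin
import Groth.Agent.ObsLib.Core
import Groth.Prelude.Def_W4bk4grossh111Obs
import Groth.Prelude.Def_GmPts

/-!
# Observability of closed subgroup schemes through rational points
-/

set_option autoImplicit false
set_option linter.style.haveILetI false
set_option linter.unusedSectionVars false
set_option backward.isDefEq.respectTransparency false
set_option maxHeartbeats 1000000
set_option synthInstance.maxHeartbeats 400000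

noncomputable section

universe u

open CategoryTheory MonoidalCategory CartesianMonoidalCategory AlgebraicGeometry WithConv
open scoped MonObj TensorProduct
open CoactBr (sp pt)

namespace Groth.Agent.ObsLib

open BorelLib BlowRegLib

attribute [-instance] CategoryTheory.Hom.commGroup
attribute [local instance] pTop pTopTensor

variable {k : Type u} [Field k] {A : Type u} [CommRing A] [HopfAlgebra k A]
  {G : Over (Spec (CommRingCat.of k))} [GrpObj G] (v : sp k A ≅ G) [IsMonHom v.hom]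

section Points

/-- The point of an algebra map. -/
def gpt {C : Type u} [CommRing C] [Algebra k C] (φ : A →ₐ[k] C) : VecGrp.pt k C ⟶ G := pt φ ≫ v.hom

lemma gpt_mul {C : Type u} [CommRing C] [Algebra k C] (φ ψ : A →ₐ[k] C) :
    gpt v φ * gpt v ψ = gpt v (toConv φ * toConv ψ).ofConv := by
  show pt φ ≫ v.hom * pt ψ ≫ v.hom = _
  rw [← MonObj.mul_comp, Groth.Agent.DiagRep.pt_mul_conv]
  rfl

lemma exists_gpt {C : Type u} [CommRing C] [Algebra k C] (g : VecGrp.pt k C ⟶ G) : ∃ φ, g = gpt v φ := by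
  obtain ⟨φ, hφ⟩ := Groth.Agent.DiagRep.exists_pt (R := k) (A := A) (C := C) (g ≫ v.inv)
  refine ⟨φ, ?_⟩
  show g = pt φ ≫ v.hom
  rw [← hφ, Category.assoc, v.inv_hom_id, Category.comp_id]

lemma gpt_injective {C : Type u} [CommRing C] [Algebra k C] : Function.Injective (gpt v (C := C)) := fun φ ψ h => by
  refine CoactBr.pt_injective ?_
  exact (cancel_mono v.hom).1 h

lemma ptMap_gpt {C C' : Type u} [CommRing C] [Algebra k C] [CommRing C'] [Algebra k C'] (χ : C →ₐ[k] C')
    (φ : A →ₐ[k] C) : VecGrp.ptMap χ ≫ gpt v φ = gpt v (χ.comp φ) := by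
  show pt χ ≫ pt φ ≫ v.hom = pt (χ.comp φ) ≫ v.hom
  rw [CoactBr.pt_comp, Category.assoc]

lemma gpt_eq {C : Type u} [CommRing C] [Algebra k C] (φ : A →ₐ[k] C) :
    gpt v φ = VecGrp.ptMap φ ≫ gpt v (AlgHom.id k A) := by rw [ptMap_gpt, AlgHom.comp_id]

/-- The rational point of a point. -/
def ptk (x : Pt k A) : VecGrp.pt k k ⟶ G := gpt v x.ofConv

lemma ptk_mul (x y : Pt k A) : ptk v (x * y) = ptk v x * ptk v y := (gpt_mul v _ _).symm

lemma ptk_one : ptk v (1 : Pt k A) = 1 := by
  have h := ptk_mul v 1 1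
  rw [mul_one] at h
  exact (mul_eq_left.1 h.symm)

/-- Rational points as points. -/
def ptkEquiv : Pt k A ≃* (VecGrp.pt k k ⟶ G) :=
  MulEquiv.mk' (Equiv.ofBijective (ptk v)
    ⟨fun x y h => WithConv.ext (gpt_injective v h), fun g => by
      obtain ⟨φ, hφ⟩ := exists_gpt v g
      exact ⟨toConv φ, hφ.symm⟩⟩) (ptk_mul v)

lemma ptk_surjective (g : VecGrp.pt k k ⟶ G) : ∃ x, ptk v x = g := (ptkEquiv v).surjective g

lemma ptk_injective : Function.Injective (ptk v) := (ptkEquiv v).injective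

variable [IsAlgClosed k] {H : Over (Spec (CommRingCat.of k))} [GrpObj H] {i : H ⟶ G} [IsMonHom i]

/-- The points of a subgroup through rational points. -/
lemma mem_ptsSub' {x : Pt k A} : x ∈ ptsSub v i ↔ ∃ h : VecGrp.pt k k ⟶ H, h ≫ i = ptk v x := by
  set e := (Groth.Agent.HopfPoints.exists_unit_hom (k := k)).some with he
  have h1 : toUnit (sp k k) ≫ e = 𝟙 (sp k k) :=
    (eq_ptMap_ofId (B := k) (toUnit (sp k k) ≫ e)).trans (eq_ptMap_ofId (B := k) (𝟙 (sp k k))).symm
  have h2 : e ≫ toUnit (sp k k) = 𝟙 _ := toUnit_unique _ _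
  rw [mem_ptsSub]
  show (∃ b, b ≫ i = e ≫ ptk v x) ↔ _
  constructor
  · rintro ⟨b, hb⟩
    refine ⟨toUnit (sp k k) ≫ b, ?_⟩
    show (toUnit (sp k k) ≫ b) ≫ i = ptk v x
    rw [Category.assoc, hb, ← Category.assoc, h1]
    exact Category.id_comp _
  · rintro ⟨h, hh⟩
    exact ⟨e ≫ h, by rw [← hh]; exact Category.assoc _ _ _⟩

end Points

section Functions

variable [IsAffine G.left]

attribute [local instance] algTop

/-- A global function as an element of the coordinate ring. -/
def ev : Γ(G.left, ⊤) →ₐ[k] A := evalPt (gpt v (AlgHom.id k A))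

lemma evalPt_gpt {C : Type u} [CommRing C] [Algebra k C] (φ : A →ₐ[k] C) (f : Γ(G.left, ⊤)) :
    evalPt (gpt v φ) f = φ (ev v f) := by
  rw [gpt_eq, evalPt_ptMap]; rfl

lemma evalPt_ptk (x : Pt k A) (f : Γ(G.left, ⊤)) : evalPt (ptk v x) f = x.ofConv (ev v f) := evalPt_gpt v _ f

lemma ev_bijective : Function.Bijective (ev v) := by
  haveI : IsIso (gpt v (AlgHom.id k A)).left := by
    haveI : IsIso v.hom.left := (Over.forget _).map_isIso v.hom
    show IsIso ((pt (AlgHom.id k A) ≫ v.hom).left)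
    rw [CoactBr.pt_id, Category.id_comp]
    infer_instance
  let χ : Γ(G.left, ⊤) ⟶ CommRingCat.of A :=
    (gpt v (AlgHom.id k A)).left.appTop ≫ (Scheme.ΓSpecIso (CommRingCat.of A)).hom
  haveI : IsIso (gpt v (AlgHom.id k A)).left.appTop :=
    inferInstanceAs (IsIso ((gpt v (AlgHom.id k A)).left.app ⊤))
  haveI : IsIso χ := IsIso.comp_isIso' inferInstance inferInstance
  exact ConcreteCategory.bijective_of_isIso χ

variable {B : Type u} [CommRing B] [HopfAlgebra k B] {H : Over (Spec (CommRingCat.of k))} [GrpObj H]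
  (w : sp k B ≅ H) [IsMonHom w.hom] [IsAffine H.left] [IsAlgClosed k] [Algebra.FiniteType k A]
  [_root_.IsReduced A] [Algebra.FiniteType k B] [_root_.IsReduced B]

/-- Functions on a product agree when they agree on pairs of rational points. -/
theorem eq_of_pairs {p q : Γ((G ⊗ H).left, ⊤)}
    (h : ∀ (x : Pt k A) (y : Pt k B),
      evalPt (lift (ptk v x) (ptk w y)) p = evalPt (lift (ptk v x) (ptk w y)) q) : p = q := by
  haveI : IsAffine (G ⊗ H).left := inferInstanceAs (IsAffine (Limits.pullback G.hom H.hom))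
  let L : A →ₐ[k] A ⊗[k] B := Algebra.TensorProduct.includeLeft
  let R : B →ₐ[k] A ⊗[k] B := Algebra.TensorProduct.includeRight
  let e₀ : VecGrp.pt k (A ⊗[k] B) ⟶ G ⊗ H := lift (gpt v L) (gpt w R)
  have hpair : ∀ (C : Type u) [CommRing C] [Algebra k C] (φ : A →ₐ[k] C) (ψ : B →ₐ[k] C),
      lift (gpt v φ) (gpt w ψ) = VecGrp.ptMap (Algebra.TensorProduct.lift φ ψ fun _ _ => Commute.all _ _) ≫ e₀ := by
    intro C _ _ φ ψ
    rw [comp_lift, ptMap_gpt, ptMap_gpt, Algebra.TensorProduct.lift_comp_includeLeft]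
    congr 2
    ext b
    simp [R]
  have hΘ : evalPt e₀ p = evalPt e₀ q := by
    rw [← sub_eq_zero]
    refine eq_zero_of_forall_pair fun x y => ?_
    rw [map_sub, sub_eq_zero]
    have := h x y
    rw [ptk, ptk, hpair, evalPt_ptMap, evalPt_ptMap] at this
    exact this
  have hall : ∀ (C : Type u) [CommRing C] [Algebra k C] (e : VecGrp.pt k C ⟶ G ⊗ H), evalPt e p = evalPt e q := by
    intro C _ _ e
    obtain ⟨φ, hφ⟩ := exists_gpt v (e ≫ fst G H)
    obtain ⟨ψ, hψ⟩ := exists_gpt w (e ≫ snd G H)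
    have e1 : e = lift (gpt v φ) (gpt w ψ) := by
      rw [← hφ, ← hψ, ← comp_lift, lift_fst_snd, Category.comp_id]
    rw [e1, hpair, evalPt_ptMap, evalPt_ptMap, hΘ]
  letI := algTop (G ⊗ H)
  have h1 := hall Γ((G ⊗ H).left, ⊤) univPt
  haveI : IsIso (univPt (G := G ⊗ H)).left := show IsIso (G ⊗ H).left.isoSpec.inv from inferInstance
  let χ : Γ((G ⊗ H).left, ⊤) ⟶ CommRingCat.of Γ((G ⊗ H).left, ⊤) :=
    (univPt (G := G ⊗ H)).left.appTop ≫ (Scheme.ΓSpecIso (CommRingCat.of Γ((G ⊗ H).left, ⊤))).hom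
  haveI : IsIso (univPt (G := G ⊗ H)).left.appTop :=
    inferInstanceAs (IsIso ((univPt (G := G ⊗ H)).left.app ⊤))
  haveI : IsIso χ := IsIso.comp_isIso' inferInstance inferInstance
  exact (ConcreteCategory.bijective_of_isIso χ).1 h1

omit [GrpObj G] [IsAffine G.left] [IsAlgClosed k] in
/-- Evaluation of a pulled back function. -/
lemma evalPt_appTop {P Q : Over (Spec (CommRingCat.of k))} {C : Type u} [CommRing C] [Algebra k C]
    (e : VecGrp.pt k C ⟶ P) (F : P ⟶ Q) (f : Γ(Q.left, ⊤)) : evalPt e (F.left.appTop f) = evalPt (e ≫ F) f := rfl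

variable {i : H ⟶ G} [IsMonHom i] {π : A →ₐ[k] B} (hπ : w.hom ≫ i = gpt v π)
include hπ

omit [IsAffine G.left] [IsAffine H.left] in
lemma gpt_comp {C : Type u} [CommRing C] [Algebra k C] (ψ : B →ₐ[k] C) :
    gpt w ψ ≫ i = gpt v (ψ.comp π) := by
  rw [← ptMap_gpt, ← hπ]
  exact Category.assoc _ _ _

omit [IsAffine G.left] [IsAffine H.left] in
lemma ptk_comp (y : Pt k B) : ptk w y ≫ i = ptk v (pull π y) := gpt_comp v w hπ _

omit [IsAffine G.left] [IsAffine H.left] in
lemma mem_sub_iff {x : Pt k A} : x ∈ ptsSub v i ↔ ∃ y : Pt k B, pull π y = x := by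
  rw [mem_ptsSub']
  constructor
  · rintro ⟨h, hh⟩
    obtain ⟨y, rfl⟩ := ptk_surjective w h
    exact ⟨y, ptk_injective v ((ptk_comp v w hπ y).symm.trans hh)⟩
  · rintro ⟨y, rfl⟩
    exact ⟨ptk w y, ptk_comp v w hπ y⟩

omit [IsAffine G.left] [IsAffine H.left] in
lemma pull_mem (y : Pt k B) : pull π y ∈ ptsSub v i := (mem_sub_iff v w hπ).2 ⟨y, rfl⟩

omit [IsAffine H.left] in
lemma evalPt_lift_mul (x : Pt k A) (y : Pt k B) (f : Γ(G.left, ⊤)) :
    evalPt (lift (ptk v x) (ptk w y)) (((G ◁ i) ≫ μ[G]).left.appTop f) = (x * pull π y).ofConv (ev v f) := by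
  have hmul : (G ◁ i) ≫ μ[G] = fst G H * (snd G H ≫ i) := by
    rw [Hom.mul_def]
    congr 1
  rw [evalPt_appTop, hmul, MonObj.comp_mul, ← Category.assoc, lift_fst, lift_snd, ptk_comp v w hπ, ← ptk_mul,
    evalPt_ptk]

omit [IsAffine H.left] in
lemma evalPt_lift_fst (x : Pt k A) (y : Pt k B) (f : Γ(G.left, ⊤)) :
    evalPt (lift (ptk v x) (ptk w y)) ((fst G H).left.appTop f) = x.ofConv (ev v f) := by
  rw [evalPt_appTop, lift_fst, evalPt_ptk]

/-- Invariant functions. -/
theorem isRTransInv_iff_inv (f : Γ(G.left, ⊤)) : AGF.IsRTransInv i f ↔ Inv (ptsSub v i) (ev v f) := by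
  constructor
  · intro h x s hs
    obtain ⟨y, rfl⟩ := (mem_sub_iff v w hπ).1 hs
    rw [← evalPt_lift_mul v w hπ x y, ← evalPt_lift_fst v w hπ x y]
    exact congrArg _ h
  · intro h
    refine eq_of_pairs v w fun x y => ?_
    rw [evalPt_lift_mul v w hπ, evalPt_lift_fst v w hπ]
    exact h x _ (pull_mem v w hπ y)

end Functions

section Rational

variable [IsAffine G.left] [IsAlgClosed k] [Algebra.FiniteType k A] [_root_.IsReduced A]

attribute [local instance] algTop

/-- Invariance under a rational point. -/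
theorem isRTransInv_ptk_iff (g : Pt k A) (f : Γ(G.left, ⊤)) :
    AGF.IsRTransInv (ptk v g) f ↔ rT g (ev v f) = ev v f := by
  haveI : IsAffine (VecGrp.pt k k).left := inferInstanceAs (IsAffine (Spec (CommRingCat.of k)))
  haveI : IsAffine (G ⊗ VecGrp.pt k k).left :=
    inferInstanceAs (IsAffine (Limits.pullback G.hom (VecGrp.pt k k).hom))
  have hmul : (G ◁ ptk v g) ≫ μ[G] = fst G (VecGrp.pt k k) * (snd G (VecGrp.pt k k) ≫ ptk v g) := by
    rw [Hom.mul_def]
    congr 1
  constructor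
  · intro h
    refine ext_pts (k := k) fun x => ?_
    rw [eval_rT]
    let e : VecGrp.pt k k ⟶ G ⊗ VecGrp.pt k k := lift (ptk v x) (𝟙 _)
    have h' : evalPt e (((G ◁ ptk v g) ≫ μ[G]).left.appTop f) = evalPt e ((fst G _).left.appTop f) := congrArg _ h
    rw [evalPt_appTop, evalPt_appTop, hmul, MonObj.comp_mul, ← Category.assoc, lift_fst, lift_snd, Category.id_comp,
      ← ptk_mul, evalPt_ptk, evalPt_ptk] at h'
    exact h'
  · intro h
    refine eq_of_evalPt _ _ f fun C _ _ e => ?_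
    obtain ⟨φ, hφ⟩ := exists_gpt v (e ≫ fst G _)
    rw [hmul, MonObj.comp_mul, ← Category.assoc, hφ, eq_ptMap_ofId (e ≫ snd G _), ptk, ptMap_gpt, gpt_mul,
      evalPt_gpt, evalPt_gpt, AlgHom.convMul_apply]
    conv_rhs => rw [← h, rT]
    simp only [LinearMap.coe_comp, Function.comp_apply, LinearEquiv.coe_coe]
    generalize CoalgebraStruct.comul (R := k) (ev v f) = t
    induction t using TensorProduct.induction_on with
    | zero => simp
    | add a c ha hc => simp only [map_add, ha, hc]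
    | tmul a c => simp [Algebra.smul_def, mul_comm]

variable {B : Type u} [CommRing B] [HopfAlgebra k B] {H : Over (Spec (CommRingCat.of k))} [GrpObj H]
  (w : sp k B ≅ H) [IsMonHom w.hom] [IsAffine H.left] [Algebra.FiniteType k B] [_root_.IsReduced B]
  {i : H ⟶ G} [IsMonHom i] {π : A →ₐ[k] B} (hπ : w.hom ≫ i = gpt v π)
include hπ

/-- **Observability is observability of the group of rational points.** -/
theorem isObservableIn_iff : AGF.IsObservableIn k i ↔ Obs (ptsSub v i) := by
  constructor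
  · intro h x hx
    rw [mem_ptsSub']
    refine h _ fun f hf => (isRTransInv_ptk_iff v x f).2 (ext_pts (k := k) fun y => ?_)
    rw [eval_rT]
    have := hx _ (((isRTransInv_iff_inv v w hπ f).1 hf).lT y)
    rwa [eval_lT, eval_lT, mul_one] at this
  · intro h g hg
    obtain ⟨x, rfl⟩ := ptk_surjective v g
    rw [← mem_ptsSub']
    refine h x fun a ha => ?_
    obtain ⟨f, rfl⟩ := (ev_bijective v).2 a
    have := (isRTransInv_ptk_iff v x f).1 (hg f ((isRTransInv_iff_inv v w hπ f).2 ha))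
    conv_rhs => rw [← this, eval_rT, one_mul]

end Rational

/-- The data of a closed subgroup. -/
theorem exists_sub_data [IsAlgClosed k] {H : Over (Spec (CommRingCat.of k))} [GrpObj H] [IsAffine G.left]
    [Smooth H.hom] (i : H ⟶ G) [IsMonHom i] [IsClosedImmersion i.left] :
    ∃ (B : Type u) (_ : CommRing B) (_ : HopfAlgebra k B) (w : sp k B ≅ H) (_ : IsMonHom w.hom)
      (π : A →ₐ[k] B), IsAffine H.left ∧ Algebra.FiniteType k B ∧ _root_.IsReduced B ∧
        w.hom ≫ i = gpt v π ∧ Function.Surjective π := by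
  haveI : IsAffine H.left := isAffine_of_isAffineHom i.left
  obtain ⟨B, _, _, w, hw, hB, hB'⟩ := exists_setup H
  haveI := hw
  obtain ⟨π, hπ⟩ := Groth.Agent.DiagRep.exists_pt (R := k) (A := A) (C := B) (w.hom ≫ i ≫ v.inv)
  refine ⟨B, _, _, w, hw, π, inferInstance, hB, hB', ?_, ?_⟩
  · show w.hom ≫ i = pt π ≫ v.hom
    rw [← hπ]
    simp only [Category.assoc, v.inv_hom_id, Category.comp_id]
  · refine DiagRep.surjective_of_isClosedImmersion π ?_
    rw [← hπ]
    haveI : IsIso w.hom.left := (Over.forget _).map_isIso w.hom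
    haveI : IsIso v.inv.left := (Over.forget _).map_isIso v.inv
    rw [Over.comp_left, Over.comp_left]
    infer_instance

end Groth.Agent.ObsLib

end
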