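import Groth.Agent.RootSubgrpLib.Dyn
import Groth.Agent.BorelLib.Cartan
import Groth.Agent.BorelLib.TorAlg
import Groth.Agent.BorelLib.Solv
import Groth.Agent.TorPtLib.Basic

/-!
# Regular one-parameter subgroups of a torus
-/

set_option autoImplicit false
set_option linter.style.haveILetI false
set_option linter.unusedSectionVars false
set_option backward.isDefEq.respectTransparency false
set_option maxHeartbeats 2000000
set_option synthInstance.maxHeartbeats 400000

noncomputable section

universe u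

open WithConv LaurentPolynomial
open scoped TensorProduct

namespace Groth.Agent.ObsLib

open BorelLib

attribute [local instance] pTop pTopTensor

variable {k : Type u} [Field k] [IsAlgClosed k] {A : Type u} [CommRing A] [HopfAlgebra k A] [Algebra.FiniteType k A]

/-- A torus contains a one-parameter subgroup with the same centraliser. -/
theorem exists_cochar {S : Subgroup (Pt k A)} (hS : IsTor S) :
    ∃ lam lamNeg : A →ₐc[k] k[T;T⁻¹], (lamNeg : A →ₐ[k] k[T;T⁻¹]) = Dyn.negParam k A lam ∧
      (∀ z : kˣ, DynLib.lamAt lam z ∈ S) ∧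
      ∀ g : Pt k A, (∀ z : kˣ, g * DynLib.lamAt lam z = DynLib.lamAt lam z * g) → ∀ s ∈ S, g * s = s * g := by
  classical
  obtain ⟨V, _, _, _, r, hr⟩ := exists_faithful (k := k) (A := A)
  obtain ⟨ι, _, b, χ, hχ, hb⟩ := hS.exists_weight_basis r
  obtain ⟨B, _, _, f, hft, hred, hfm, hind, hinj, hrange, φ, hφs, hfφ⟩ := exists_frame hS.closed
  haveI := hft; haveI := hred
  have hc : ∀ x y : Pt k B, x * y = y * x := fun x y => hinj (by
    rw [map_mul, map_mul]; exact hS.comm _ (hrange ▸ ⟨x, rfl⟩) _ (hrange ▸ ⟨y, rfl⟩))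
  have hconn : IsPreconnected (Set.univ : Set (Pt k B)) := isPreconnected_univ_frame hind (hrange.symm ▸ hS.conn)
  have hD : (Set.univ : Set (Pt k B)) ⊆ closure {x | IsPT x} := fun x _ => by
    rw [hind.closure_eq_preimage_closure_image]
    refine closure_mono ?_ (hS.dense (hrange ▸ ⟨x, rfl⟩ : f x ∈ S))
    rintro y ⟨hy, hyt⟩
    rw [← hrange] at hy
    obtain ⟨z, rfl⟩ := hy
    exact ⟨z, hyt.of_map hinj, rfl⟩
  obtain ⟨n, ⟨E⟩⟩ := exists_glBasis hc hconn hD
  -- the weights as characters of the lattice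
  have hm : ∀ i, ∃ m, ∀ x : Pt k B, χ i (f x) = x.ofConv (E.e m) := fun i => by
    obtain ⟨a, ha⟩ := hχ i
    have hv : ∀ x, χ i (f x) = x.ofConv (φ a) := fun x => by rw [ha, hfφ]; rfl
    have hmem : ∀ x, f x ∈ S := fun x => hrange ▸ ⟨x, rfl⟩
    have hg : IsGroupLikeElem k (φ a) := by
      refine isGroupLikeElem_of_mult ?_ fun x y => ?_
      · rw [← hv, map_one]
        have h := hb i 1 S.one_mem
        rw [r.map_one, Module.End.one_apply] at h
        exact (smul_left_injective k (b.ne_zero i) (by simpa using h)).symm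
      · rw [← hv, ← hv, ← hv, map_mul]
        have h := hb i _ (S.mul_mem (hmem x) (hmem y))
        rw [r.mul_apply trivial trivial, hb i _ (hmem y), map_smul, hb i _ (hmem x), smul_smul] at h
        exact ((smul_left_injective k (b.ne_zero i) h).symm).trans (mul_comm _ _)
    obtain ⟨m, hm⟩ : ∃ m, φ a = E.e m := by
      by_contra! hne
      have hli : LinearIndepOn k id {e : B | IsGroupLikeElem k e} := linearIndepOn_isGroupLikeElem
      have hsub : LinearIndepOn k id (insert (φ a) (Set.range E.e)) := hli.mono (by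
        rintro y (rfl | ⟨a', rfl⟩)
        exacts [hg, ⟨E.counit_e a', E.comul_e a'⟩])
      have hnot : φ a ∉ Set.range E.e := fun ⟨a', ha'⟩ => hne a' ha'.symm
      refine ((linearIndepOn_id_insert hnot).1 hsub).2 ?_
      rw [E.e.span_eq]
      exact Submodule.mem_top
    exact ⟨m, fun x => by rw [hv, hm]⟩
  choose m hm using hm
  obtain ⟨c₀, hc₀⟩ := Groth.Agent.TorPt.exists_separating_nat (Finset.univ.image fun p : ι × ι => m p.1 - m p.2)
  let c : (Fin n → ℤ) →+ ℤ :=
    { toFun := fun a => ∑ i : Fin n, a i * (c₀ : ℤ) ^ (i : ℕ)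
      map_zero' := by simp
      map_add' := fun a a' => by simp [add_mul, Finset.sum_add_distrib] }
  -- the map of coordinate rings
  let L : ((Fin n → ℤ) →+ ℤ) → (B →ₗ[k] k[T;T⁻¹]) := fun d => E.e.constr k fun a => T (d a)
  have hL : ∀ d a, L d (E.e a) = T (d a) := fun d a => E.e.constr_basis k _ a
  have hLmul : ∀ d x y, L d (x * y) = L d x * L d y := fun d x y => by
    have key : ∀ a y, L d (E.e a * y) = L d (E.e a) * L d y := fun a y => by
      have e : L d ∘ₗ LinearMap.mulLeft k (E.e a) = LinearMap.mulLeft k (L d (E.e a)) ∘ₗ L d :=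
        E.e.ext fun a' => by
          show L d (E.e a * E.e a') = L d (E.e a) * L d (E.e a')
          rw [E.e_mul, hL, hL, hL, map_add, T_add]
      exact LinearMap.congr_fun e y
    have e : L d ∘ₗ LinearMap.mulRight k y = LinearMap.mulRight k (L d y) ∘ₗ L d := E.e.ext fun a => key a y
    exact LinearMap.congr_fun e x
  let mk : ((Fin n → ℤ) →+ ℤ) → (B →ₐ[k] k[T;T⁻¹]) := fun d =>
    AlgHom.ofLinearMap (L d) (by rw [← E.e_zero, hL, map_zero, T_zero]) (hLmul d)
  have hmk : ∀ d a, mk d (E.e a) = T (d a) := fun d a => E.e.constr_basis k _ a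
  have hext : ∀ x y : Pt k B, (∀ a, x.ofConv (E.e a) = y.ofConv (E.e a)) → x = y := fun x y h =>
    WithConv.ext (AlgHom.toLinearMap_injective (E.e.ext h))
  have hlam : ∀ d, ∃ l : A →ₐc[k] k[T;T⁻¹], (l : A →ₐ[k] k[T;T⁻¹]) = (mk d).comp φ := fun d => by
    refine RootSubgrp.exists_bialgHom_of_pts ((mk d).comp φ) ?_ fun x y => ?_
    · rw [pull_comp, show pull (mk d) (1 : Pt k k[T;T⁻¹]) = 1 from hext _ _ fun a => ?_, ← hfφ, map_one]
      show (1 : Pt k k[T;T⁻¹]).ofConv (mk d (E.e a)) = _
      rw [hmk, AlgHom.convOne_apply, AlgHom.convOne_apply, E.counit_e, counit_T]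
    · rw [pull_comp, pull_comp, pull_comp,
        show pull (mk d) (x * y) = pull (mk d) x * pull (mk d) y from hext _ _ fun a => ?_, ← hfφ, ← hfφ, ← hfφ, map_mul]
      show (x * y).ofConv (mk d (E.e a)) = _
      rw [hmk, mul_ofConv, mul_ofConv, comul_T, E.comul_e, pair_tmul, pair_tmul]
      show x.ofConv (T (d a)) * y.ofConv (T (d a)) = x.ofConv (mk d (E.e a)) * y.ofConv (mk d (E.e a))
      rw [hmk]
  obtain ⟨lam, hl⟩ := hlam c
  obtain ⟨lamNeg, hl'⟩ := hlam (-c)
  have hneg : (lamNeg : A →ₐ[k] k[T;T⁻¹]) = Dyn.negParam k A lam := by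
    have e : mk (-c) = (LaurentPolynomial.invert (R := k)).toAlgHom.comp (mk c) :=
      AlgHom.toLinearMap_injective (E.e.ext fun a => by
        show mk (-c) (E.e a) = invert (mk c (E.e a))
        rw [hmk, hmk, invert_T]
        rfl)
    rw [hl', e, Dyn.negParam, hl]
    rfl
  let zB : kˣ → Pt k B := fun z => toConv ((DynLib.ev (Algebra.ofId k k) z).comp (mk c))
  have hat : ∀ z, DynLib.lamAt lam z = f (zB z) := fun z => by
    rw [hfφ]
    show toConv ((DynLib.ev (Algebra.ofId k k) z).comp (lam : A →ₐ[k] k[T;T⁻¹])) = _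
    rw [hl]
    rfl
  refine ⟨lam, lamNeg, hneg, fun z => hat z ▸ (hrange ▸ ⟨zB z, rfl⟩ : f (zB z) ∈ S), fun g hg s hs => ?_⟩
  -- the weights separated on the one-parameter subgroup
  have hval : ∀ i (z : kˣ), χ i (DynLib.lamAt lam z) = ((z ^ c (m i) : kˣ) : k) := fun i z => by
    rw [hat, hm]
    show DynLib.ev (Algebra.ofId k k) z (mk c (E.e (m i))) = _
    rw [hmk, DynLib.ev_T]
  have hsep : ∀ i j, (∀ z : kˣ, χ i (DynLib.lamAt lam z) = χ j (DynLib.lamAt lam z)) → χ i s = χ j s := by
    intro i j h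
    obtain ⟨y, rfl⟩ : s ∈ f.range := hrange.symm ▸ hs
    rw [hm, hm]
    by_contra hne
    have hd : c (m i - m j) ≠ 0 := hc₀ _ (Finset.mem_image.2 ⟨(i, j), Finset.mem_univ _, rfl⟩)
      (fun h0 => hne (by rw [sub_eq_zero.1 h0]))
    haveI : Infinite ↥({0}ᶜ : Set k) := (Set.finite_singleton (0 : k)).infinite_compl.to_subtype
    haveI : Infinite kˣ := Infinite.of_injective (α := kˣ) (β := ↥({0}ᶜ : Set k))
      (fun x => Units.mk0 x.1 x.2) fun x y h => Subtype.ext (congrArg Units.val h :)
    refine (Set.Infinite.image (Set.injOn_of_injective Units.val_injective) (Set.infinite_univ (α := kˣ))) ?_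
    refine Set.Finite.subset (Polynomial.finite_setOfPred_isRoot
      (p := Polynomial.X ^ (c (m i - m j)).natAbs - Polynomial.C (1 : k))
      (Polynomial.X_pow_sub_C_ne_zero (Int.natAbs_pos.2 hd) 1)) ?_
    rintro _ ⟨z, -, rfl⟩
    have h1 := h z
    rw [hval, hval, Units.val_inj] at h1
    have h2 : z ^ c (m i - m j) = 1 := by rw [map_sub, zpow_sub, h1, mul_inv_cancel]
    have h3 : z ^ (c (m i - m j)).natAbs = 1 := by
      rcases Int.natAbs_eq (c (m i - m j)) with h4 | h4 <;> rw [h4] at h2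
      · rwa [zpow_natCast] at h2
      · rwa [zpow_neg, zpow_natCast, inv_eq_one] at h2
    have h4 := congrArg Units.val h3
    simp only [Units.val_pow_eq_pow_val, Units.val_one] at h4
    rw [map_sub] at h4
    simp [h4]
  have hcomm : r.ρ g * r.ρ s = r.ρ s * r.ρ g := by
    refine b.ext fun i => ?_
    simp only [Module.End.mul_apply, hb i s hs, map_smul]
    have key : ∀ j, b.repr (r.ρ g (b i)) j ≠ 0 → χ j s = χ i s := by
      intro j hj
      refine hsep j i fun z => ?_
      set t := DynLib.lamAt lam z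
      have ht : t ∈ S := by
        show DynLib.lamAt lam z ∈ S
        rw [hat]
        exact hrange ▸ ⟨zB z, rfl⟩
      have e : r.ρ t (r.ρ g (b i)) = χ i t • r.ρ g (b i) := by
        rw [← r.mul_apply trivial trivial, ← hg, r.mul_apply trivial trivial, hb i t ht, map_smul]
      have e' := congrArg (fun v => b.repr v j) e
      have e1 : r.ρ t (r.ρ g (b i)) = ∑ l, (b.repr (r.ρ g (b i)) l * χ l t) • b l := by
        conv_lhs => rw [← b.sum_repr (r.ρ g (b i)), map_sum]
        exact Finset.sum_congr rfl fun l _ => by rw [map_smul, hb l t ht, smul_smul]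
      rw [e1] at e'
      simp only [b.repr_sum_self, map_smul, Finsupp.smul_apply, smul_eq_mul] at e'
      exact mul_left_cancel₀ hj (e'.trans (mul_comm _ _))
    conv_rhs => rw [← b.sum_repr (r.ρ g (b i)), map_sum]
    conv_lhs => rw [← b.sum_repr (r.ρ g (b i)), Finset.smul_sum]
    refine Finset.sum_congr rfl fun j _ => ?_
    rw [map_smul, hb j s hs, smul_comm]
    by_cases hj : b.repr (r.ρ g (b i)) j = 0
    · simp [hj]
    · rw [key j hj]
  have h1 : r.ρ (g * s * g⁻¹ * s⁻¹) = 1 := by
    rw [r.map_mul _ trivial _ trivial, r.map_mul _ trivial _ trivial, r.map_mul g trivial s trivial, hcomm,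
      ← r.map_mul s trivial g trivial, ← r.map_mul _ trivial _ trivial, ← r.map_mul _ trivial _ trivial,
      show s * g * g⁻¹ * s⁻¹ = 1 by group, r.map_one]
  have := hr _ h1
  rwa [mul_inv_eq_one, mul_inv_eq_iff_eq_mul] at this

end Groth.Agent.ObsLib

end
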