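import Groth.Agent.MoriLib.DVR
import Groth.Agent.NormalLib.Serre
import Mathlib.Order.WellQuasiOrder

/-!
# Dickson's lemma for divisors supported on a hypersurface
-/

set_option autoImplicit false
set_option linter.style.haveILetI false

noncomputable section

universe u

namespace Groth.Agent.ObsLib

/-- Among the divisors of powers of a fixed element of a Noetherian normal domain, a finite set divides all the
others. -/
theorem exists_dvd_basis {A : Type u} [CommRing A] [IsDomain A] [IsNoetherianRing A] [IsIntegrallyClosed A]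
    {h : A} (h0 : h ≠ 0) (M : Set A) (hM : ∀ f ∈ M, ∃ N : ℕ, f ∣ h ^ N) :
    ∃ s : Finset A, ↑s ⊆ M ∧ ∀ f ∈ M, ∃ g ∈ s, g ∣ f := by
  classical
  let Ps : Set (Ideal A) := {P | P ∈ (Ideal.span {h}).minimalPrimes ∧ P.height = 1}
  haveI : Finite Ps := ((Ideal.finite_minimalPrimes_of_isNoetherianRing A (Ideal.span {h})).subset fun P hP => hP.1).to_subtype
  haveI : ∀ P : Ps, P.1.IsPrime := fun P => P.2.1.isPrime
  haveI : ∀ P : Ps, IsDomain (Localization.AtPrime P.1) := fun P =>
    IsLocalization.isDomain_localization P.1.primeCompl_le_nonZeroDivisors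
  haveI : ∀ P : Ps, IsDiscreteValuationRing (Localization.AtPrime P.1) := fun P =>
    MoriLib.isDVR_localization P.1 P.2.2
  let v : A → (Ps → ℕ∞) := fun f P =>
    IsDiscreteValuationRing.addVal (Localization.AtPrime P.1) (algebraMap A (Localization.AtPrime P.1) f)
  let Vs : Set (Ps → ℕ∞) := v '' M
  let Mins : Set (Ps → ℕ∞) := {x | Minimal (· ∈ Vs) x}
  have hanti : IsAntichain (· ≤ ·) Mins := fun x hx y hy hne hle => hne (le_antisymm hle (hy.2 hx.1 hle))
  have hfin : Mins.Finite := hanti.finite_of_wellQuasiOrdered wellQuasiOrdered_le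
  have hsub : ∀ x ∈ hfin.toFinset, ∃ g ∈ M, v g = x := fun x hx => (hfin.mem_toFinset.1 hx).1
  choose g hgM hgv using hsub
  refine ⟨hfin.toFinset.attach.image fun x => g x.1 x.2, fun a ha => ?_, fun f hf => ?_⟩
  · obtain ⟨x, -, rfl⟩ := Finset.mem_image.1 (Finset.mem_coe.1 ha)
    exact hgM _ _
  obtain ⟨x, ⟨hxV, hxle⟩, hxmin⟩ := (wellFounded_lt (α := Ps → ℕ∞)).has_min {y | y ∈ Vs ∧ y ≤ v f}
    ⟨v f, ⟨f, hf, rfl⟩, le_rfl⟩
  have hx : x ∈ hfin.toFinset := hfin.mem_toFinset.2 ⟨hxV, fun y hy hyx => by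
    by_contra hne
    exact hxmin y ⟨hy, hyx.trans hxle⟩ (lt_of_le_not_ge hyx hne)⟩
  refine ⟨g x hx, Finset.mem_image_of_mem (fun x : hfin.toFinset => g x.1 x.2) (Finset.mem_attach _ ⟨x, hx⟩), ?_⟩
  obtain ⟨N, hN⟩ := hM _ (hgM x hx)
  have hg0 : g x hx ≠ 0 := fun e => by
    rw [e, zero_dvd_iff] at hN
    exact h0 (pow_eq_zero_iff'.1 hN).1
  refine NormalLib.dvd_of_forall_associatedPrimes fun P hP => ?_
  haveI : P.IsPrime := hP.isPrime
  have h1 : P.height = 1 := NormalLib.height_eq_one_of_mem_associatedPrimes hg0 hP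
  have hgP : g x hx ∈ P := by
    refine (IsAssociatedPrime.annihilator_le hP) ?_
    rw [Submodule.annihilator_top, Ideal.annihilator_quotient]
    exact Ideal.mem_span_singleton_self _
  have hhP : h ∈ P := ‹P.IsPrime›.mem_of_pow_mem N (Ideal.mem_of_dvd P hN hgP)
  have hPs : P ∈ Ps := by
    refine ⟨⟨⟨inferInstance, (Ideal.span_singleton_le_iff_mem P).2 hhP⟩, fun Q ⟨hQ, hQh⟩ hle => ?_⟩, h1⟩
    by_contra hne
    haveI := hQ
    haveI : Ideal.FiniteHeight P := inferInstance
    have hlt := Ideal.height_strict_mono_of_isPrime (lt_of_le_not_ge hle hne)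
    rw [h1, ENat.lt_one_iff_eq_zero] at hlt
    have hbot : Q = ⊥ := by
      have h2 := Ideal.height_eq_zero_iff.1 hlt
      rw [IsDomain.minimalPrimes_eq_singleton_bot] at h2
      exact Set.mem_singleton_iff.1 h2
    rw [hbot, Ideal.span_singleton_le_iff_mem, Ideal.mem_bot] at hQh
    exact h0 hQh
  have hle : v (g x hx) ⟨P, hPs⟩ ≤ v f ⟨P, hPs⟩ := by rw [hgv]; exact hxle _
  obtain ⟨q, hq⟩ := IsDiscreteValuationRing.addVal_le_iff_dvd.1 hle
  obtain ⟨q, t, rfl⟩ := IsLocalization.exists_mk'_eq P.primeCompl q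
  refine ⟨t, t.2, q, IsLocalization.injective (Localization.AtPrime P) P.primeCompl_le_nonZeroDivisors ?_⟩
  show algebraMap A (Localization.AtPrime P) ((t : A) * f) = algebraMap A (Localization.AtPrime P) (g x hx * q)
  rw [map_mul, map_mul, ← IsLocalization.mk'_spec (Localization.AtPrime P) q t, hq]
  ring

end Groth.Agent.ObsLib

end
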