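import Groth.Agent.ObsLib.Groups
import Groth.Agent.S0573
import Groth.Agent.S0566
import Groth.Agent.DeltaBaseLib.Main

/-!
# Finite generation of invariants and subgroups of finite index
-/

set_option autoImplicit false
set_option linter.style.haveILetI false
set_option linter.unusedSectionVars false
set_option backward.isDefEq.respectTransparency false
set_option backward.isDefEq.respectTransparency.types false
set_option maxHeartbeats 1000000
set_option synthInstance.maxHeartbeats 400000

noncomputable section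

universe u

open CategoryTheory MonoidalCategory CartesianMonoidalCategory AlgebraicGeometry WithConv
open scoped MonObj TensorProduct
open CoactBr (sp pt)

namespace Groth.Agent.ObsLib

open BorelLib BlowRegLib

attribute [-instance] CategoryTheory.Hom.commGroup
attribute [local instance] pTop pTopTensor

variable {k : Type u} [Field k] [IsAlgClosed k] {A : Type u} [CommRing A] [HopfAlgebra k A] [Algebra.FiniteType k A]
  [_root_.IsReduced A]

/-- The algebra of invariant functions. -/
def invAlg (S : Subgroup (Pt k A)) : Subalgebra k A where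
  carrier := {a | Inv S a}
  mul_mem' {a b} ha hb := fun x h hh => by rw [map_mul, map_mul, ha x h hh, hb x h hh]
  add_mem' {a b} ha hb := fun x h hh => by rw [map_add, map_add, ha x h hh, hb x h hh]
  algebraMap_mem' c := fun x h hh => by rw [AlgHom.commutes, AlgHom.commutes]

@[simp] lemma mem_invAlg {S : Subgroup (Pt k A)} {a : A} : a ∈ invAlg S ↔ Inv S a := Iff.rfl

/-- Left translation as an algebra map. -/
def lTa (g : Pt k A) : A →ₐ[k] A :=
  { toFun := lT g
    map_one' := ext_pts (k := k) fun x => by rw [eval_lT, map_one, map_one]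
    map_mul' := fun a b => ext_pts (k := k) fun x => by rw [eval_lT, map_mul, map_mul, eval_lT, eval_lT]
    map_zero' := map_zero _
    map_add' := map_add _
    commutes' := fun c => ext_pts (k := k) fun x => by rw [eval_lT, AlgHom.commutes, AlgHom.commutes] }

@[simp] lemma eval_lTa (g x : Pt k A) (a : A) : x.ofConv (lTa g a) = (g * x).ofConv a := eval_lT g x a

/-- Right translation as an algebra map. -/
def rTa (g : Pt k A) : A →ₐ[k] A :=
  { toFun := rT g
    map_one' := ext_pts (k := k) fun x => by rw [eval_rT, map_one, map_one]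
    map_mul' := fun a b => ext_pts (k := k) fun x => by rw [eval_rT, map_mul, map_mul, eval_rT, eval_rT]
    map_zero' := map_zero _
    map_add' := map_add _
    commutes' := fun c => ext_pts (k := k) fun x => by rw [eval_rT, AlgHom.commutes, AlgHom.commutes] }

@[simp] lemma eval_rTa (g x : Pt k A) (a : A) : x.ofConv (rTa g a) = (x * g).ofConv a := eval_rT g x a

variable {N S : Subgroup (Pt k A)}

/-- Invariants of a subgroup of finite index are integral over the invariants of the group. -/
theorem isIntegral_invAlg (h : FinIdx N S) {a : A} (ha : Inv N a) : IsIntegral ↥(invAlg S) a := by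
  classical
  obtain ⟨F, hF, hcov⟩ := h
  let T : Finset A := F.image fun r => rTa r a
  have hTmem : ∀ g ∈ S, rTa g a ∈ T := fun g hg => by
    obtain ⟨r, hr, hrg⟩ := hcov g hg
    refine Finset.mem_image.2 ⟨r, hr, ext_pts (k := k) fun x => ?_⟩
    rw [eval_rTa, eval_rTa, show x * g = x * r * (r⁻¹ * g) by group]
    exact (ha _ _ hrg).symm
  have hperm : ∀ g ∈ S, T.image (rTa g) = T := fun g hg => by
    refine Finset.eq_of_subset_of_card_le (fun y hy => ?_) ?_
    · obtain ⟨t, ht, rfl⟩ := Finset.mem_image.1 hy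
      obtain ⟨r, hr, rfl⟩ := Finset.mem_image.1 ht
      have e : rTa g (rTa r a) = rTa (g * r) a := ext_pts (k := k) fun x => by simp [mul_assoc]
      rw [e]
      exact hTmem _ (S.mul_mem hg (hF r hr))
    · refine (Finset.card_image_of_injective T fun p q hpq => ext_pts (k := k) fun x => ?_).ge
      have := congrArg (fun z => (x * g⁻¹).ofConv z) hpq
      simpa using this
  let P : Polynomial A := ∏ t ∈ T, (Polynomial.X - Polynomial.C t)
  have hcoef : ∀ n, P.coeff n ∈ invAlg S := fun n x g hg => by
    have hinj : Function.Injective (rTa g) := fun p q hpq => ext_pts (k := k) fun y => by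
      have := congrArg (fun z => (y * g⁻¹).ofConv z) hpq
      simpa using this
    have e : P.map (rTa g : A →+* A) = P := by
      simp only [P, Polynomial.map_prod, Polynomial.map_sub, Polynomial.map_X, Polynomial.map_C]
      conv_rhs => rw [← hperm g hg, Finset.prod_image fun p _ q _ hpq => hinj hpq]
      rfl
    have h1 := congrArg (fun Q : Polynomial A => x.ofConv (Q.coeff n)) e
    simp only [Polynomial.coeff_map] at h1
    rw [← h1]
    exact (eval_rTa g x _).symm
  have hmon : P.Monic := Polynomial.monic_prod_of_monic _ _ fun t _ => Polynomial.monic_X_sub_C t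
  have hl : P ∈ Polynomial.lifts (algebraMap ↥(invAlg S) A) :=
    (Polynomial.lifts_iff_coeff_lifts P).2 fun n => ⟨⟨_, hcoef n⟩, rfl⟩
  haveI : Nontrivial A := (1 : Pt k A).ofConv.toRingHom.domain_nontrivial
  obtain ⟨Q, hQ, -, hQm⟩ := Polynomial.lifts_and_degree_eq_and_monic hl hmon
  refine ⟨Q, hQm, ?_⟩
  rw [← Polynomial.eval_map, hQ, Polynomial.eval_prod]
  refine Finset.prod_eq_zero (hTmem 1 S.one_mem) ?_
  rw [Polynomial.eval_sub, Polynomial.eval_X, Polynomial.eval_C, sub_eq_zero]
  exact ext_pts (k := k) fun x => by rw [eval_rTa, mul_one]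

/-- **Finite generation of invariants passes to and from subgroups of finite index.** -/
theorem fg_invAlg_iff (h : FinIdx N S) (hle : N ≤ S) : (invAlg N).FG ↔ (invAlg S).FG := by
  classical
  have hsub : invAlg S ≤ invAlg N := fun a ha => Inv.mono hle ha
  let B := ↥(invAlg S)
  let C := ↥(invAlg N)
  letI : Algebra B C := (Subalgebra.inclusion hsub).toRingHom.toAlgebra
  haveI : IsScalarTower k B C := IsScalarTower.of_algebraMap_eq fun _ => rfl
  haveI : IsScalarTower B C A := IsScalarTower.of_algebraMap_eq fun _ => rfl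
  constructor
  · intro hN
    haveI : Algebra.FiniteType k C := ⟨(Subalgebra.fg_top _).2 hN⟩
    haveI : Algebra.FiniteType B C := Algebra.FiniteType.of_restrictScalars_finiteType k B C
    haveI : Algebra.IsIntegral B C := ⟨fun c =>
      (isIntegral_algebraMap_iff (R := B) (B := A) Subtype.val_injective).1 (isIntegral_invAlg h c.2)⟩
    haveI : Module.Finite B C := Algebra.IsIntegral.finite
    exact (Subalgebra.fg_top _).1
      (fg_of_fg_of_fg k B C Algebra.FiniteType.out Module.Finite.fg_top (Subalgebra.inclusion_injective hsub))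
  · intro hS
    haveI : Algebra.FiniteType k B := ⟨(Subalgebra.fg_top _).2 hS⟩
    have hnag : CAlg.IsNagata B := Groth.Agent.S0566.result k (DeltaBaseLib.isNagata_of_field k) B
    haveI : IsNoetherianRing B := hnag.1
    haveI : Algebra.FiniteType B A := Algebra.FiniteType.of_restrictScalars_finiteType k B A
    haveI : Module.Finite B (integralClosure B A) := Groth.Agent.S0573.result B hnag A
    let inc : C →ₗ[B] integralClosure B A :=
      { toFun := fun c => ⟨(c : A), isIntegral_invAlg h c.2⟩
        map_add' := fun _ _ => rfl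
        map_smul' := fun b c => Subtype.ext rfl }
    haveI : Module.Finite B C := Module.Finite.of_injective inc fun c d hcd => Subtype.ext (congrArg Subtype.val hcd :)
    exact (Subalgebra.fg_top _).1 (Algebra.FiniteType.trans (R := k) (S := B) (A := C) inferInstance inferInstance).out

variable {A₀ : Type u} [CommRing A₀] [HopfAlgebra k A₀] [Algebra.FiniteType k A₀] [_root_.IsReduced A₀]

/-- **Finite generation of invariants is decided on an open subgroup.** -/
theorem fg_invAlg_open {π : A →ₐ[k] A₀} (hsur : Function.Surjective π) (f : Pt k A₀ →* Pt k A)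
    (hf : ∀ y, f y = pull π y) (ho : IsOpen (f.range : Set (Pt k A))) (hc : IsClosed (f.range : Set (Pt k A)))
    (hfin : FinIdx f.range ⊤) (hN : N ≤ f.range) : (invAlg N).FG ↔ (invAlg (N.comap f)).FG := by
  classical
  obtain ⟨e, he1, he0⟩ := exists_sep_closed (Y := (f.range : Set (Pt k A))) (Y' := (f.range : Set (Pt k A))ᶜ) hc
    ho.isClosed_compl disjoint_compl_right
  have hef : ∀ y : Pt k A₀, (f y).ofConv e = 1 := fun y => he1 _ ⟨y, rfl⟩
  have hext : ∀ a : A, Inv (N.comap f) (π a) → Inv N (e * a) := by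
    intro a ha x n hn
    have hnM : n ∈ f.range := hN hn
    by_cases hx : x ∈ f.range
    · obtain ⟨y, rfl⟩ := hx
      obtain ⟨z, rfl⟩ := hnM
      rw [map_mul, map_mul, ← map_mul f, hef, hef, hf (y * z), hf y]
      congr 1
      exact ha y z hn
    · have hx' : x * n ∉ f.range := fun h => hx (by simpa using f.range.mul_mem h (f.range.inv_mem hnM))
      rw [map_mul, map_mul, he0 _ hx', he0 _ hx, zero_mul, zero_mul]
  have he : Inv N e := by
    have := hext 1 (fun y z _ => by rw [map_one, map_one, map_one])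
    rwa [mul_one] at this
  have hres : ∀ a, Inv N a → Inv (N.comap f) (π a) := fun a ha y z hz => by
    show (pull π (y * z)).ofConv a = (pull π y).ofConv a
    rw [← hf, ← hf, map_mul]
    exact ha _ _ hz
  have himg : (invAlg N).map π = invAlg (N.comap f) := by
    refine le_antisymm ?_ fun b hb => ?_
    · rintro _ ⟨a, ha, rfl⟩
      exact hres a ha
    · obtain ⟨a, rfl⟩ := hsur b
      refine ⟨e * a, hext a hb, ext_pts (k := k) fun y => ?_⟩
      show (pull π y).ofConv (e * a) = (pull π y).ofConv a
      rw [← hf, map_mul, hef, one_mul]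
  refine ⟨fun h => himg ▸ h.map π, fun ⟨t, ht⟩ => ?_⟩
  obtain ⟨F, -, hF⟩ := hfin
  choose l hl using hsur
  let gens : Finset A := insert e (t.image fun b => e * l b)
  let Gn : Finset A := F.biUnion fun r => gens.image fun x => lTa r⁻¹ x
  have hgens : ∀ x ∈ gens, Inv N x := fun x hx => by
    rcases Finset.mem_insert.1 hx with rfl | hx
    · exact he
    · obtain ⟨b, hb, rfl⟩ := Finset.mem_image.1 hx
      refine hext _ ?_
      rw [hl]
      exact mem_invAlg.1 (ht ▸ Algebra.subset_adjoin (Finset.mem_coe.2 hb))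
  have hlT : ∀ (g : Pt k A) (x : A), Inv N x → Inv N (lTa g x) := fun g x hx y n hn => by
    rw [eval_lTa, eval_lTa, ← mul_assoc]
    exact hx _ _ hn
  refine ⟨Gn, le_antisymm (Algebra.adjoin_le fun x hx => ?_) fun a ha => ?_⟩
  · obtain ⟨r, -, hx⟩ := Finset.mem_biUnion.1 (Finset.mem_coe.1 hx)
    obtain ⟨y, hy, rfl⟩ := Finset.mem_image.1 hx
    exact hlT _ _ (hgens y hy)
  set D := Algebra.adjoin k (↑Gn : Set A)
  have hec : ∀ c : A, Inv N c → e * c ∈ Algebra.adjoin k (↑gens : Set A) := by
    intro c hc'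
    have hb : π c ∈ Algebra.adjoin k (↑t : Set A₀) := ht.symm ▸ hres c hc'
    have key : ∀ b ∈ Algebra.adjoin k (↑t : Set A₀), ∃ p ∈ Algebra.adjoin k (↑gens : Set A), π p = b := by
      intro b hb
      induction hb using Algebra.adjoin_induction with
      | mem b hb =>
        refine ⟨e * l b, Algebra.subset_adjoin (Finset.mem_coe.2 (Finset.mem_insert_of_mem
          (Finset.mem_image_of_mem _ (Finset.mem_coe.1 hb)))), ?_⟩
        refine ext_pts (k := k) fun y => ?_
        conv_rhs => rw [← hl b]
        show (pull π y).ofConv (e * l b) = (pull π y).ofConv (l b)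
        rw [← hf, map_mul, hef, one_mul]
      | algebraMap d => exact ⟨algebraMap k A d, Subalgebra.algebraMap_mem _ d, π.commutes d⟩
      | add x y _ _ hx hy =>
        obtain ⟨p, hp, rfl⟩ := hx
        obtain ⟨q, hq, rfl⟩ := hy
        exact ⟨p + q, Subalgebra.add_mem _ hp hq, map_add π p q⟩
      | mul x y _ _ hx hy =>
        obtain ⟨p, hp, rfl⟩ := hx
        obtain ⟨q, hq, rfl⟩ := hy
        exact ⟨p * q, Subalgebra.mul_mem _ hp hq, map_mul π p q⟩
    obtain ⟨p, hp, hpe⟩ := key _ hb
    have hec' : e * c = e * p := ext_pts (k := k) fun x => by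
      rw [map_mul, map_mul]
      by_cases hx : x ∈ f.range
      · obtain ⟨y, rfl⟩ := hx
        have h2 : (pull π y).ofConv c = (pull π y).ofConv p := congrArg y.ofConv hpe.symm
        rw [hf y, h2]
      · rw [he0 _ hx, zero_mul, zero_mul]
    rw [hec']
    exact Subalgebra.mul_mem _ (Algebra.subset_adjoin (Finset.mem_coe.2 (Finset.mem_insert_self _ _))) hp
  have hpiece : ∀ r ∈ F, lTa r⁻¹ e ∈ D ∧ a * lTa r⁻¹ e ∈ D := by
    intro r hr
    have hmap : ∀ p ∈ Algebra.adjoin k (↑gens : Set A), lTa r⁻¹ p ∈ D := fun p hp => by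
      have hp' : lTa r⁻¹ p ∈ (Algebra.adjoin k (↑gens : Set A)).map (lTa r⁻¹) := ⟨p, hp, rfl⟩
      rw [AlgHom.map_adjoin] at hp'
      refine Algebra.adjoin_mono ?_ hp'
      rintro _ ⟨y, hy, rfl⟩
      exact Finset.mem_coe.2 (Finset.mem_biUnion.2 ⟨r, hr, Finset.mem_image_of_mem _ (Finset.mem_coe.1 hy)⟩)
    refine ⟨hmap e (Algebra.subset_adjoin (Finset.mem_coe.2 (Finset.mem_insert_self _ _))), ?_⟩
    have h1 : a * lTa r⁻¹ e = lTa r⁻¹ (e * lTa r a) := ext_pts (k := k) fun x => by
      simp only [map_mul, eval_lTa, mul_inv_cancel_left]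
      ring
    rw [h1]
    exact hmap _ (hec _ (hlT r a ha))
  have hprod : ∀ F' ⊆ F, a * (1 - ∏ r ∈ F', (1 - lTa r⁻¹ e)) ∈ D := by
    intro F'
    induction F' using Finset.induction_on with
    | empty => intro _; simp
    | insert r F' hr ih =>
      intro hsub
      obtain ⟨hr', hF'⟩ := Finset.insert_subset_iff.1 hsub
      rw [Finset.prod_insert hr, show a * (1 - (1 - lTa r⁻¹ e) * ∏ x ∈ F', (1 - lTa x⁻¹ e)) =
        a * (1 - ∏ x ∈ F', (1 - lTa x⁻¹ e)) + a * lTa r⁻¹ e * ∏ x ∈ F', (1 - lTa x⁻¹ e) by ring]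
      refine D.add_mem (ih hF') (D.mul_mem (hpiece r hr').2 (prod_mem fun x hx => ?_))
      exact D.sub_mem D.one_mem (hpiece x (hF' hx)).1
  have hz : ∏ r ∈ F, (1 - lTa r⁻¹ e) = 0 := ext_pts (k := k) fun x => by
    obtain ⟨r, hr, hrx⟩ := hF x trivial
    rw [map_zero, map_prod]
    exact Finset.prod_eq_zero hr (by rw [map_sub, map_one, eval_lTa, he1 _ hrx, sub_self])
  have := hprod F subset_rfl
  rwa [hz, sub_zero, mul_one] at this

variable {G : Over (Spec (CommRingCat.of k))} [GrpObj G] (v : sp k A ≅ G) [IsMonHom v.hom] [IsAffine G.left]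
  {B' : Type u} [CommRing B'] [HopfAlgebra k B'] [Algebra.FiniteType k B'] [_root_.IsReduced B']
  {H : Over (Spec (CommRingCat.of k))} [GrpObj H] (w : sp k B' ≅ H) [IsMonHom w.hom] [IsAffine H.left]
  {i : H ⟶ G} [IsMonHom i] {π : A →ₐ[k] B'} (hπ : w.hom ≫ i = gpt v π)
include hπ

/-- Finite generation of right invariant functions on points. -/
theorem subringFGOver_iff : AGF.SubringFGOver k G (AGF.rTransInv i) ↔ (invAlg (ptsSub v i)).FG := by
  classical
  letI := algTop G
  let eA : Γ(G.left, ⊤) ≃ₐ[k] A := AlgEquiv.ofBijective (ev v) (ev_bijective v)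
  have hmem : ∀ f, f ∈ AGF.rTransInv i ↔ eA f ∈ invAlg (ptsSub v i) := fun f =>
    (AGF.mem_rTransInv_iff i f).trans (isRTransInv_iff_inv v w hπ f)
  have hcl : ∀ s : Finset Γ(G.left, ⊤), Subring.closure
      (Set.range (fun c : k => G.hom.appTop ((Scheme.ΓSpecIso (CommRingCat.of k)).inv c)) ∪ ↑s) =
      (Algebra.adjoin k (↑s : Set Γ(G.left, ⊤))).toSubring := fun s => by
    rw [Algebra.adjoin_eq_ring_closure]
    rfl
  constructor
  · rintro ⟨s, hs, hgen⟩
    refine ⟨s.image eA, ?_⟩
    rw [Finset.coe_image]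
    change Algebra.adjoin k (eA.toAlgHom '' _) = _
    rw [← AlgHom.map_adjoin eA.toAlgHom]
    refine le_antisymm ?_ fun a ha => ?_
    · rintro _ ⟨f, hf, rfl⟩
      have hle : Algebra.adjoin k (↑s : Set Γ(G.left, ⊤)) ≤ (invAlg (ptsSub v i)).comap eA.toAlgHom :=
        Algebra.adjoin_le fun f hf => (hmem f).1 (hs hf)
      exact hle hf
    · obtain ⟨f, rfl⟩ := eA.surjective a
      have := hgen ((hmem f).2 ha)
      rw [hcl] at this
      exact ⟨f, this, rfl⟩
  · rintro ⟨t, ht⟩
    refine ⟨t.image eA.symm, fun f hf => ?_, fun f hf => ?_⟩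
    · obtain ⟨a, ha, rfl⟩ := Finset.mem_image.1 hf
      exact (hmem _).2 (by rw [AlgEquiv.apply_symm_apply]; exact ht ▸ Algebra.subset_adjoin (Finset.mem_coe.2 ha))
    · rw [hcl]
      have h1 : eA f ∈ Algebra.adjoin k (↑t : Set A) := ht.symm ▸ (hmem f).1 hf
      have h2 : eA.symm (eA f) ∈ (Algebra.adjoin k (↑t : Set A)).map eA.symm.toAlgHom := ⟨_, h1, rfl⟩
      rw [AlgHom.map_adjoin, AlgEquiv.symm_apply_apply] at h2
      rw [Finset.coe_image]
      exact h2

end Groth.Agent.ObsLib
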