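import Groth.Agent.BorelLib.Chev
import Groth.Agent.BorelLib.Frame
import Mathlib.LinearAlgebra.ExteriorPower.Basis
import Mathlib.LinearAlgebra.Multilinear.Basis

/-!
# Constructions of regular representations: translations, products, exterior powers
-/

set_option autoImplicit false
set_option linter.style.haveILetI false
set_option linter.unusedSectionVars false

noncomputable section

universe u v w

open WithConv
open scoped TensorProduct

namespace Groth.Agent.ObsLib

open BorelLib

attribute [local instance] pTop pTopTensor

variable {k : Type u} [Field k] {A : Type u} [CommRing A] [HopfAlgebra k A]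

/-- Right translation of a function by a point. -/
def rT (g : Pt k A) : A →ₗ[k] A :=
  (TensorProduct.rid k A).toLinearMap ∘ₗ g.ofConv.toLinearMap.lTensor A ∘ₗ CoalgebraStruct.comul (R := k)

/-- Left translation of a function by a point. -/
def lT (g : Pt k A) : A →ₗ[k] A :=
  (TensorProduct.lid k A).toLinearMap ∘ₗ g.ofConv.toLinearMap.rTensor A ∘ₗ CoalgebraStruct.comul (R := k)

@[simp] lemma eval_rT (g x : Pt k A) (a : A) : x.ofConv (rT g a) = (x * g).ofConv a := by
  rw [mul_ofConv, rT]
  simp only [LinearMap.coe_comp, Function.comp_apply, LinearEquiv.coe_coe]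
  generalize CoalgebraStruct.comul (R := k) a = t
  induction t using TensorProduct.induction_on with
  | zero => simp
  | add a c ha hc => simp only [map_add, ha, hc]
  | tmul a c => simp [mul_comm]

@[simp] lemma eval_lT (g x : Pt k A) (a : A) : x.ofConv (lT g a) = (g * x).ofConv a := by
  rw [mul_ofConv, lT]
  simp only [LinearMap.coe_comp, Function.comp_apply, LinearEquiv.coe_coe]
  generalize CoalgebraStruct.comul (R := k) a = t
  induction t using TensorProduct.induction_on with
  | zero => simp
  | add a c ha hc => simp only [map_add, ha, hc]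
  | tmul a c => simp

section Translate

/-- The right translates of finitely many functions span a finite-dimensional space. -/
lemma finiteDimensional_span_rT (s : Finset A) :
    FiniteDimensional k (Submodule.span k {y : A | ∃ a ∈ s, ∃ g : Pt k A, y = rT g a}) := by
  classical
  choose S hS using fun a : A => TensorProduct.exists_finset (R := k) (CoalgebraStruct.comul (R := k) a)
  let T : Finset A := s.biUnion fun a => (S a).image Prod.fst
  have : FiniteDimensional k (Submodule.span k (T : Set A)) := FiniteDimensional.span_of_finite k T.finite_toSet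
  refine Submodule.finiteDimensional_of_le (S₂ := Submodule.span k (T : Set A)) (Submodule.span_le.2 ?_)
  rintro _ ⟨a, ha, g, rfl⟩
  rw [rT, LinearMap.coe_comp, Function.comp_apply, LinearMap.coe_comp, Function.comp_apply, hS a, map_sum, map_sum]
  refine Submodule.sum_mem _ fun i hi => ?_
  simp only [LinearMap.lTensor_tmul, LinearEquiv.coe_coe, TensorProduct.rid_tmul]
  exact Submodule.smul_mem _ _ (Submodule.subset_span
    (Finset.mem_biUnion.2 ⟨a, ha, Finset.mem_image_of_mem _ hi⟩))

variable [IsAlgClosed k] [Algebra.FiniteType k A] [IsReduced A]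

lemma ext_pts {a b : A} (h : ∀ x : Pt k A, x.ofConv a = x.ofConv b) : a = b :=
  sub_eq_zero.1 (eq_zero_of_forall (k := k) fun x => by rw [map_sub, h x, sub_self])

lemma rT_one : rT (1 : Pt k A) = 1 := LinearMap.ext fun a => ext_pts (k := k) fun x => by
  rw [eval_rT, mul_one]; rfl

lemma rT_mul (g h : Pt k A) : rT (g * h) = rT g * rT h :=
  LinearMap.ext fun a => ext_pts (k := k) fun x => by
    rw [Module.End.mul_apply, eval_rT, eval_rT, eval_rT, mul_assoc]

lemma lT_one : lT (1 : Pt k A) = 1 := LinearMap.ext fun a => ext_pts (k := k) fun x => by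
  rw [eval_lT, one_mul]; rfl

lemma lT_mul (g h : Pt k A) : lT (g * h) = lT h * lT g :=
  LinearMap.ext fun a => ext_pts (k := k) fun x => by
    rw [Module.End.mul_apply, eval_lT, eval_lT, eval_lT, mul_assoc]

/-- The representation by right translations on a stable space of functions. -/
def funRep (W : Submodule k A) (hW : ∀ g : Pt k A, ∀ a ∈ W, rT g a ∈ W) : RegRep (⊤ : Subgroup (Pt k A)) W where
  ρ g := (rT g).restrict (hW g)
  map_one := LinearMap.ext fun a => Subtype.ext (by
    show rT (1 : Pt k A) (a : A) = _
    rw [rT_one]; rfl)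
  map_mul g _ h _ := LinearMap.ext fun a => Subtype.ext (by
    show rT (g * h) (a : A) = _
    rw [rT_mul]; rfl)
  reg φ a := by
    obtain ⟨p, hp⟩ := W.subtype.exists_leftInverse_of_injective W.ker_subtype
    let ψ : A →ₗ[k] k := φ ∘ₗ p
    refine ⟨TensorProduct.lid k A (ψ.rTensor A (CoalgebraStruct.comul (R := k) (a : A))), fun g => ?_⟩
    have e : φ ((rT g).restrict (hW g) a) = ψ (rT g (a : A)) :=
      congrArg φ (LinearMap.congr_fun hp ((rT g).restrict (hW g) a)).symm
    dsimp only
    rw [e, rT]
    simp only [LinearMap.coe_comp, Function.comp_apply, LinearEquiv.coe_coe]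
    generalize CoalgebraStruct.comul (R := k) (a : A) = t
    induction t using TensorProduct.induction_on with
    | zero => simp
    | add a c ha hc => simp only [map_add, ha, hc]
    | tmul a c => simp [mul_comm]

@[simp] lemma coe_funRep (W : Submodule k A) (hW : ∀ g : Pt k A, ∀ a ∈ W, rT g a ∈ W) (g : Pt k A) (a : W) :
    ((funRep W hW).ρ g a : A) = rT g a := rfl

/-- Finitely many functions lie in a finite-dimensional space stable under right translations. -/
theorem exists_stable (s : Finset A) :
    ∃ W : Submodule k A, FiniteDimensional k W ∧ (↑s : Set A) ⊆ W ∧ ∀ g : Pt k A, ∀ a ∈ W, rT g a ∈ W := by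
  refine ⟨_, finiteDimensional_span_rT (k := k) s, fun a ha => Submodule.subset_span ⟨a, ha, 1, by rw [rT_one]; rfl⟩,
    fun g a ha => ?_⟩
  induction ha using Submodule.span_induction with
  | mem y hy =>
    obtain ⟨a, ha, g', rfl⟩ := hy
    exact Submodule.subset_span ⟨a, ha, g * g', by rw [rT_mul]; rfl⟩
  | zero => simp
  | add y z _ _ hy hz => rw [map_add]; exact add_mem hy hz
  | smul c y _ hy => rw [map_smul]; exact Submodule.smul_mem _ c hy

end Translate

/-- Finite expansions of regular vector-valued functions. -/
lemma IsReg.multilinear {V : Type v} [AddCommGroup V] [Module k V] [FiniteDimensional k V] {m : ℕ}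
    (M : MultilinearMap k (fun _ : Fin m => V) k) (F : Fin m → Pt k A → V)
    (hF : ∀ i (φ : V →ₗ[k] k), IsReg fun x => φ (F i x)) : IsReg fun x => M fun i => F i x := by
  classical
  let b := Module.finBasis k V
  have e : (fun x => M fun i => F i x) = fun x => ∑ f : Fin m → Fin (Module.finrank k V),
      (∏ i, b.coord (f i) (F i x)) * M fun i => b (f i) := by
    funext x
    conv_lhs => rw [show (fun i => F i x) = fun i => ∑ j, b.coord j (F i x) • b j from
      funext fun i => (b.sum_repr (F i x)).symm]
    rw [M.map_sum]
    exact Finset.sum_congr rfl fun f _ => by rw [M.map_smul_univ, smul_eq_mul]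
  rw [e]
  exact IsReg.sum _ fun f _ => (IsReg.prod _ fun i _ => hF i _).mul (IsReg.const _)

variable {K : Subgroup (Pt k A)} {V : Type v} [AddCommGroup V] [Module k V]

/-- A regular character as a one-dimensional representation. -/
def charRep (χ : Pt k A → k) (hχ : IsReg χ) (h1 : χ 1 = 1) (hm : ∀ g ∈ K, ∀ h ∈ K, χ (g * h) = χ g * χ h) :
    RegRep K k where
  ρ g := χ g • 1
  map_one := by rw [h1, one_smul]
  map_mul g hg h hh := by rw [hm g hg h hh, smul_mul_smul_comm, one_mul]
  reg φ c := by
    have e : (fun g => φ ((χ g • (1 : Module.End k k)) c)) = fun g => χ g * φ c := by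
      funext g
      rw [LinearMap.smul_apply, Module.End.one_apply, map_smul, smul_eq_mul]
    rw [e]
    exact hχ.mul (IsReg.const _)

/-- The tensor product of two representations. -/
def tensorRep {U : Type w} [AddCommGroup U] [Module k U] [FiniteDimensional k V] (r : RegRep K V) (s : RegRep K U) :
    RegRep K (V ⊗[k] U) where
  ρ g := TensorProduct.map (r.ρ g) (s.ρ g)
  map_one := by rw [r.map_one, s.map_one]; exact TensorProduct.map_id
  map_mul g hg h hh := by
    rw [r.map_mul g hg h hh, s.map_mul g hg h hh]
    exact TensorProduct.map_comp _ _ _ _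
  reg φ t := by
    induction t using TensorProduct.induction_on with
    | zero => simpa using IsReg.const (R := A) (0 : k)
    | add a c ha hc => simpa using ha.add hc
    | tmul v u =>
      let b := Module.finBasis k V
      have e : (fun g => φ (TensorProduct.map (r.ρ g) (s.ρ g) (v ⊗ₜ u))) =
          fun g => ∑ i, b.coord i (r.ρ g v) * (φ ∘ₗ TensorProduct.mk k V U (b i)) (s.ρ g u) := by
        funext g
        rw [TensorProduct.map_tmul]
        conv_lhs => rw [← b.sum_repr (r.ρ g v)]
        rw [TensorProduct.sum_tmul, map_sum]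
        exact Finset.sum_congr rfl fun i _ => by
          rw [← TensorProduct.smul_tmul', map_smul, smul_eq_mul]; rfl
      rw [e]
      exact IsReg.sum _ fun i _ => (r.reg _ v).mul (s.reg _ u)

@[simp] lemma tensorRep_tmul {U : Type w} [AddCommGroup U] [Module k U] [FiniteDimensional k V] (r : RegRep K V)
    (s : RegRep K U) (g : Pt k A) (v : V) (u : U) :
    (tensorRep r s).ρ g (v ⊗ₜ u) = r.ρ g v ⊗ₜ s.ρ g u := rfl

/-- Finitely many copies of a representation. -/
def piRep (n : ℕ) (r : RegRep K V) : RegRep K (Fin n → V) where
  ρ g := LinearMap.pi fun i => r.ρ g ∘ₗ LinearMap.proj i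
  map_one := LinearMap.ext fun f => funext fun i => by simp [r.map_one]
  map_mul g hg h hh := LinearMap.ext fun f => funext fun i => by simp [r.map_mul g hg h hh]
  reg φ f := by
    have e : (fun g => φ ((LinearMap.pi fun i => r.ρ g ∘ₗ LinearMap.proj i) f)) =
        fun g => ∑ i, (φ ∘ₗ LinearMap.single k (fun _ => V) i) (r.ρ g (f i)) := by
      funext g
      conv_lhs => rw [← Finset.univ_sum_single ((LinearMap.pi fun i => r.ρ g ∘ₗ LinearMap.proj i) f)]
      rw [map_sum]
      rfl
    rw [e]
    exact IsReg.sum _ fun i _ => r.reg _ _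

@[simp] lemma piRep_apply (n : ℕ) (r : RegRep K V) (g : Pt k A) (f : Fin n → V) (i : Fin n) :
    (piRep n r).ρ g f i = r.ρ g (f i) := rfl

/-- The exterior powers of a representation. -/
def extRep (m : ℕ) [FiniteDimensional k V] (r : RegRep K V) : RegRep K (⋀[k]^m V) where
  ρ g := exteriorPower.map m (r.ρ g)
  map_one := by rw [r.map_one]; exact exteriorPower.map_id
  map_mul g hg h hh := by
    rw [r.map_mul g hg h hh]
    exact exteriorPower.map_comp (r.ρ h) (r.ρ g)
  reg φ t := by
    have ht : t ∈ Submodule.span k (Set.range (exteriorPower.ιMulti k m)) := by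
      rw [exteriorPower.ιMulti_span]; trivial
    induction ht using Submodule.span_induction with
    | mem y hy =>
      obtain ⟨f, rfl⟩ := hy
      simp only [exteriorPower.map_apply_ιMulti]
      exact IsReg.multilinear ((φ.compAlternatingMap (exteriorPower.ιMulti k m)).toMultilinearMap)
        (fun i g => r.ρ g (f i)) fun i ψ => r.reg ψ _
    | zero => simpa using IsReg.const (R := A) (0 : k)
    | add y z _ _ hy hz => simpa using hy.add hz
    | smul c y _ hy => simpa using (IsReg.const (R := A) c).mul hy

@[simp] lemma extRep_ιMulti (m : ℕ) [FiniteDimensional k V] (r : RegRep K V) (g : Pt k A) (f : Fin m → V) :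
    (extRep m r).ρ g (exteriorPower.ιMulti k m f) = exteriorPower.ιMulti k m (fun i => r.ρ g (f i)) :=
  exteriorPower.map_apply_ιMulti _ _

end Groth.Agent.ObsLib

end
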