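import Groth.Agent.ObsLib.WeightFin

/-!
# Semi-invariants are integral over a family without common zero of the same weight
-/

set_option autoImplicit false
set_option linter.style.haveILetI false
set_option linter.unusedSectionVars false
set_option backward.isDefEq.respectTransparency false
set_option maxHeartbeats 2000000
set_option synthInstance.maxHeartbeats 400000

noncomputable section

universe u

open WithConv
open scoped TensorProduct

namespace Groth.Agent.ObsLib

open BorelLib

attribute [local instance] pTop pTopTensor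

variable {k : Type u} [Field k] [IsAlgClosed k] {A : Type u} [CommRing A] [HopfAlgebra k A] [Algebra.FiniteType k A]
  [IsDomain A] {H : Subgroup (Pt k A)}

/-- **Integrality of semi-invariants of a subgroup with complete quotient.** -/
theorem isIntegral_of_semiInv (hc : Complete (⊤ : Subgroup (Pt k A)) H) {χ : Pt k A → k} (R : Subalgebra k A)
    {T : Finset A} (hTR : ↑T ⊆ (R : Set A)) (hT : ∀ e ∈ T, SemiInv H χ e)
    (hnz : ∀ g : Pt k A, ∃ e ∈ T, g.ofConv e ≠ 0) {f : A} (hf : SemiInv H χ f) : IsIntegral R f := by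
  classical
  by_cases hf0 : f = 0
  · rw [hf0]; exact isIntegral_zero
  let Loc := Localization.Away f
  haveI : Algebra.FinitePresentation A Loc := IsLocalization.Away.finitePresentation f
  haveI : Algebra.FiniteType A Loc := inferInstance
  haveI : Algebra.FiniteType k Loc := Algebra.FiniteType.trans (R := k) (S := A) (A := Loc) inferInstance inferInstance
  haveI : IsDomain Loc := IsLocalization.isDomain_localization (powers_le_nonZeroDivisors_of_noZeroDivisors hf0)
  have hLinj : Function.Injective (algebraMap A Loc) :=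
    IsLocalization.injective Loc (powers_le_nonZeroDivisors_of_noZeroDivisors hf0)
  let u : Loc := IsLocalization.Away.invSelf f
  have hu1 : u * algebraMap A Loc f = 1 := by
    rw [mul_comm]; exact IsLocalization.Away.mul_invSelf f
  let gens : Finset Loc := insert u (T.image fun e => algebraMap A Loc e)
  let S' : Subalgebra k Loc := Algebra.adjoin k (↑gens : Set Loc)
  haveI : Algebra.FiniteType k S' := ⟨(Subalgebra.fg_top _).2 ⟨gens, rfl⟩⟩
  let uS : S' := ⟨u, Algebra.subset_adjoin (Finset.mem_coe.2 (Finset.mem_insert_self _ _))⟩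
  let eS : T → S' := fun e => ⟨algebraMap A Loc e, Algebra.subset_adjoin (Finset.mem_coe.2
    (Finset.mem_insert_of_mem (Finset.mem_image_of_mem _ e.2)))⟩
  by_cases hunit : IsUnit uS
  · obtain ⟨vS, hv⟩ := hunit.exists_right_inv
    have hv' : u * (vS : Loc) = 1 := congrArg Subtype.val hv
    have hveq : (vS : Loc) = algebraMap A Loc f := by
      calc (vS : Loc) = (u * algebraMap A Loc f) * vS := by rw [hu1, one_mul]
        _ = algebraMap A Loc f * (u * vS) := by ring
        _ = _ := by rw [hv', mul_one]
    have hle : S' ≤ (Algebra.adjoin R {u}).restrictScalars k := Algebra.adjoin_le fun z hz => by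
      rcases Finset.mem_insert.1 (Finset.mem_coe.1 hz) with rfl | hz
      · exact Algebra.self_mem_adjoin_singleton R _
      · obtain ⟨e, he, rfl⟩ := Finset.mem_image.1 hz
        exact (Algebra.adjoin R {u}).algebraMap_mem (⟨e, hTR he⟩ : R)
    have h := isIntegral_of_inv_mem_adjoin hv' (hle vS.2)
    rw [hveq] at h
    exact (isIntegral_algHom_iff (IsScalarTower.toAlgHom R A Loc) hLinj).1 h
  exfalso
  -- the incidence set
  let Y : Set (Pt k (S' ⊗[k] A)) := {y |
    (∀ e e' : T, (fstP y).ofConv (eS e) * (sndP y).ofConv (e' : A) =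
      (fstP y).ofConv (eS e') * (sndP y).ofConv (e : A)) ∧
    ∀ e : T, (sndP y).ofConv f * (fstP y).ofConv uS * (fstP y).ofConv (eS e) = (sndP y).ofConv (e : A)}
  have hY : IsClosed Y := by
    have h₁ : ∀ a : S', IsReg (R := S' ⊗[k] A) fun y => (fstP y).ofConv a := fun a => (IsReg.eval a).comp IsMor.fstP
    have h₂ : ∀ a : A, IsReg (R := S' ⊗[k] A) fun y => (sndP y).ofConv a := fun a => (IsReg.eval a).comp IsMor.sndP
    simp only [Y, Set.setOf_and, Set.setOf_forall]
    exact IsClosed.inter (isClosed_iInter fun e => isClosed_iInter fun e' =>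
        IsReg.isClosed_eq ((h₁ _).mul (h₂ _)) ((h₁ _).mul (h₂ _)))
      (isClosed_iInter fun e => IsReg.isClosed_eq (((h₂ _).mul (h₁ _)).mul (h₁ _)) (h₂ _))
  have hYH : ∀ y ∈ Y, ∀ h ∈ H, pair (fstP y) (sndP y * h) ∈ Y := by
    rintro y ⟨hy1, hy2⟩ h hh
    have hmul : ∀ e : T, (sndP y * h).ofConv (e : A) = χ h * (sndP y).ofConv (e : A) := fun e => hT e e.2 _ h hh
    refine ⟨fun e e' => ?_, fun e => ?_⟩
    · simp only [fstP_pair, sndP_pair, hmul]
      linear_combination χ h * hy1 e e'
    · simp only [fstP_pair, sndP_pair, hmul, hf _ h hh]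
      linear_combination χ h * hy2 e
  have hZc := hc S' Y hY (fun _ _ => trivial) hYH
  have hgen : ∀ z : Pt k Loc, pull S'.val z ∈ fstP '' Y := fun z => by
    let g : Pt k A := pull (IsScalarTower.toAlgHom k A Loc) z
    have hq : ∀ e : A, z.ofConv (algebraMap A Loc e) = g.ofConv e := fun e => rfl
    have hzu : z.ofConv u * g.ofConv f = 1 := by rw [← hq, ← map_mul, hu1, map_one]
    refine ⟨pair (pull S'.val z) g, ⟨fun e e' => ?_, fun e => ?_⟩, fstP_pair _ _⟩
    · simp only [fstP_pair, sndP_pair, pull_apply]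
      show z.ofConv (algebraMap A Loc e) * _ = z.ofConv (algebraMap A Loc e') * _
      rw [hq, hq]; ring
    · simp only [fstP_pair, sndP_pair, pull_apply]
      show g.ofConv f * z.ofConv u * z.ofConv (algebraMap A Loc e) = _
      rw [hq]
      linear_combination g.ofConv (e : A) * hzu
  have hall : ∀ s : Pt k S', s ∈ fstP '' Y := fun s => by
    rw [← zeros_vanish_of_isClosed hZc]
    intro b hb
    have hb0 : b = 0 := Subtype.ext (eq_zero_of_forall (k := k) fun z => hb _ (hgen z))
    rw [hb0, map_zero]
  obtain ⟨s, hs⟩ := exists_pt_mem (k := k) (R := S') (Z := PrimeSpectrum.zeroLocus {uS})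
    (by
      obtain ⟨M, hM, hmem⟩ := exists_max_ideal_of_mem_nonunits hunit
      exact ⟨⟨M, hM.isPrime⟩, by simpa using hmem⟩)
    (PrimeSpectrum.isClosed_zeroLocus _).isLocallyClosed
  have hsu : s.ofConv uS = 0 := by
    have h : uS ∈ (toP s).asIdeal := hs (Set.mem_singleton uS)
    rwa [toP_asIdeal, RingHom.mem_ker] at h
  obtain ⟨y, ⟨-, hy2⟩, hys⟩ := hall s
  obtain ⟨e, he, hne⟩ := hnz (sndP y)
  exact hne (by rw [← hy2 ⟨e, he⟩, hys, hsu, mul_zero, zero_mul])

end Groth.Agent.ObsLib

end
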