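import Groth.Agent.ObsLib.BigCell
import Groth.Agent.ObsLib.WeightInt
import Groth.Agent.ObsLib.EigenMonoid
import Groth.Agent.ObsLib.InvFG
import Groth.Agent.ObsLib.Reps

/-!
# Functions with characters under translations of a Borel subgroup
-/

set_option autoImplicit false
set_option linter.style.haveILetI false
set_option linter.unusedSectionVars false
set_option backward.isDefEq.respectTransparency false
set_option maxHeartbeats 2000000
set_option synthInstance.maxHeartbeats 400000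

noncomputable section

universe u

open WithConv
open scoped TensorProduct

namespace Groth.Agent.ObsLib

open BorelLib

attribute [local instance] pTop pTopTensor

variable {k : Type u} [Field k] [IsAlgClosed k] {A : Type u} [CommRing A] [HopfAlgebra k A] [Algebra.FiniteType k A]
  [IsDomain A] {S U B : Subgroup (Pt k A)}

lemma exists_eval_ne {a : A} (ha : a ≠ 0) : ∃ x : Pt k A, x.ofConv a ≠ 0 := by
  by_contra! h
  exact ha (eq_zero_of_forall (k := k) h)

/-- Two characters of one semi-invariant agree. -/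
lemma char_unique {χ ψ : Pt k A → k} {a : A} (ha : SemiInv S χ a) (hb : SemiInv S ψ a) (h0 : a ≠ 0)
    {g : Pt k A} (hg : g ∈ S) : χ g = ψ g := by
  obtain ⟨x, hx⟩ := exists_eval_ne (k := k) h0
  exact mul_right_cancel₀ hx ((ha x g hg).symm.trans (hb x g hg))

lemma char_ne_zero {χ : Pt k A → k} {a : A} (ha : SemiInv S χ a) (h0 : a ≠ 0) {g : Pt k A} (hg : g ∈ S) :
    χ g ≠ 0 := fun h => by
  obtain ⟨x, hx⟩ := exists_eval_ne (k := k) h0
  have := ha (x * g⁻¹) g hg
  rw [inv_mul_cancel_right, h, zero_mul] at this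
  exact hx this

/-- A weight vector invariant under the second generator is semi-invariant under the generated group. -/
lemma semiInv_of_gen (hgen : ∀ M : Subgroup (Pt k A), IsClosed (M : Set (Pt k A)) → S ≤ M → U ≤ M → B ≤ M)
    {χ : Pt k A → k} {a : A} (ha : SemiInv S χ a) (hu : Inv U a) (h0 : a ≠ 0) :
    ∃ χ' : Pt k A → k, SemiInv B χ' a := by
  obtain ⟨x₀, hx₀⟩ := exists_eval_ne (k := k) h0
  let M : Subgroup (Pt k A) :=
    { carrier := {h | ∃ c : k, c ≠ 0 ∧ ∀ x : Pt k A, (x * h).ofConv a = c * x.ofConv a}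
      one_mem' := ⟨1, one_ne_zero, fun x => by rw [mul_one, one_mul]⟩
      mul_mem' := fun {g h} ⟨c, hc, hg⟩ ⟨d, hd, hh⟩ => ⟨d * c, mul_ne_zero hd hc, fun x => by
        rw [← mul_assoc, hh, hg, mul_assoc]⟩
      inv_mem' := fun {g} ⟨c, hc, hg⟩ => ⟨c⁻¹, inv_ne_zero hc, fun x => by
        have h := hg (x * g⁻¹)
        rw [inv_mul_cancel_right] at h
        rw [h, inv_mul_cancel_left₀ hc]⟩ }
  have hMc : IsClosed (M : Set (Pt k A)) := by
    have e : (M : Set (Pt k A)) = ⋂ x : Pt k A,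
        {h | (x * h).ofConv a * x₀.ofConv a = (x₀ * h).ofConv a * x.ofConv a} := by
      ext h
      simp only [Set.mem_iInter, Set.mem_ofPred_eq, SetLike.mem_coe]
      constructor
      · rintro ⟨c, -, hc⟩ x
        rw [hc, hc]
        ring
      · intro hh
        refine ⟨(x₀ * h).ofConv a / x₀.ofConv a, div_ne_zero (fun h0' => hx₀ ?_) hx₀, fun x => ?_⟩
        · have h1 := hh (x₀ * h⁻¹)
          rw [inv_mul_cancel_right, h0', zero_mul] at h1
          exact mul_self_eq_zero.1 h1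
        · rw [div_mul_eq_mul_div, eq_div_iff hx₀]
          exact hh x
    rw [e]
    exact isClosed_iInter fun x => IsReg.isClosed_eq
      (((IsReg.eval a).comp (IsMor.const x |>.mul IsMor.id)).mul (IsReg.const _))
      (((IsReg.eval a).comp (IsMor.const x₀ |>.mul IsMor.id)).mul (IsReg.const _))
  have hBM := hgen M hMc (fun s hs => ⟨χ s, char_ne_zero ha h0 hs, fun x => ha x s hs⟩)
    fun h hh => ⟨1, one_ne_zero, fun x => by rw [one_mul]; exact hu x h hh⟩
  refine ⟨fun h => (x₀ * h).ofConv a / x₀.ofConv a, fun x h hh => ?_⟩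
  obtain ⟨c, -, hc⟩ := hBM hh
  simp only []
  rw [hc x, hc x₀, mul_div_assoc, div_self hx₀, mul_one]

/-- Characters of invariant weight vectors are determined on the torus. -/
lemma char_eq_of_eq (hgen : ∀ M : Subgroup (Pt k A), IsClosed (M : Set (Pt k A)) → S ≤ M → U ≤ M → B ≤ M)
    (hSB : S ≤ B) (hUB : U ≤ B) (hBc : IsClosed (B : Set (Pt k A))) {χ ψ : Pt k A → k} {a b : A}
    (ha : SemiInv B χ a) (hb : SemiInv B ψ b) (hua : Inv U a) (hub : Inv U b) (ha0 : a ≠ 0) (hb0 : b ≠ 0)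
    (h : ∀ g ∈ S, χ g = ψ g) : ∀ g ∈ B, χ g = ψ g := by
  obtain ⟨x₀, hx₀⟩ := exists_eval_ne (k := k) ha0
  obtain ⟨y₀, hy₀⟩ := exists_eval_ne (k := k) hb0
  have hmul : ∀ {θ : Pt k A → k} {c : A} {x : Pt k A}, SemiInv B θ c → x.ofConv c ≠ 0 →
      ∀ g ∈ B, ∀ g' ∈ B, θ (g * g') = θ g * θ g' := fun {θ c x} hc hx g hg g' hg' => by
    have h1 := hc x (g * g') (B.mul_mem hg hg')
    rw [← mul_assoc, hc _ g' hg', hc x g hg] at h1
    exact mul_right_cancel₀ hx (by linear_combination -h1)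
  have hone : ∀ {θ : Pt k A → k} {c : A} {x : Pt k A}, SemiInv B θ c → x.ofConv c ≠ 0 → θ 1 = 1 := fun {θ c x} hc hx => by
    have h1 := hc x 1 B.one_mem
    rw [mul_one] at h1
    exact (mul_eq_right₀ hx).1 h1.symm
  let M : Subgroup (Pt k A) :=
    { carrier := {g | g ∈ B ∧ χ g = ψ g}
      one_mem' := ⟨B.one_mem, by rw [hone ha hx₀, hone hb hy₀]⟩
      mul_mem' := fun {g g'} ⟨hg, e⟩ ⟨hg', e'⟩ =>
        ⟨B.mul_mem hg hg', by rw [hmul ha hx₀ g hg g' hg', hmul hb hy₀ g hg g' hg', e, e']⟩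
      inv_mem' := fun {g} ⟨hg, e⟩ => ⟨inv_mem hg, by
        refine mul_left_cancel₀ (char_ne_zero ha ha0 hg) ?_
        rw [← hmul ha hx₀ g hg _ (inv_mem hg), e, ← hmul hb hy₀ g hg _ (inv_mem hg), mul_inv_cancel, hone ha hx₀,
          hone hb hy₀]⟩ }
  have hMc : IsClosed (M : Set (Pt k A)) := by
    have e : (M : Set (Pt k A)) = (B : Set (Pt k A)) ∩
        {g | (x₀ * g).ofConv a * y₀.ofConv b = (y₀ * g).ofConv b * x₀.ofConv a} := by
      ext g
      constructor
      · rintro ⟨hg, e⟩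
        refine ⟨hg, ?_⟩
        rw [Set.mem_setOf_eq, ha x₀ g hg, hb y₀ g hg, e]
        ring
      · rintro ⟨hg, e⟩
        refine ⟨hg, mul_right_cancel₀ (mul_ne_zero hx₀ hy₀) ?_⟩
        rw [Set.mem_setOf_eq, ha x₀ g hg, hb y₀ g hg] at e
        linear_combination e
    rw [e]
    exact hBc.inter (IsReg.isClosed_eq
      (((IsReg.eval a).comp (IsMor.const x₀ |>.mul IsMor.id)).mul (IsReg.const _))
      (((IsReg.eval b).comp (IsMor.const y₀ |>.mul IsMor.id)).mul (IsReg.const _)))
  refine fun g hg => (hgen M hMc (fun s hs => ⟨hSB hs, h s hs⟩) (fun u hu => ⟨hUB hu, ?_⟩) hg).2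
  have h1 := ha x₀ u (hUB hu)
  have h2 := hb y₀ u (hUB hu)
  rw [hua x₀ u hu] at h1
  rw [hub y₀ u hu] at h2
  rw [(mul_eq_right₀ hx₀).1 h1.symm, (mul_eq_right₀ hy₀).1 h2.symm]

/-- A weight is covered by a set of functions if its semi-invariants there have no common zero. -/
def Cov (R : Set A) (B : Subgroup (Pt k A)) (χ : Pt k A → k) : Prop :=
  ∀ x : Pt k A, ∃ e ∈ R, SemiInv B χ e ∧ x.ofConv e ≠ 0

/-- A finite subfamily without common zero. -/
lemma Cov.exists_finset {R : Set A} {χ : Pt k A → k} (h : Cov R B χ) :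
    ∃ T : Finset A, ↑T ⊆ R ∧ (∀ e ∈ T, SemiInv B χ e) ∧ ∀ x : Pt k A, ∃ e ∈ T, x.ofConv e ≠ 0 := by
  classical
  let E : Set A := {e | e ∈ R ∧ SemiInv B χ e}
  have htop : Ideal.span E = ⊤ := by
    by_contra hne
    obtain ⟨M, hM, hle⟩ := Ideal.exists_le_maximal _ hne
    obtain ⟨g, hg⟩ := exists_pt_mem (k := k) (R := A) (Z := PrimeSpectrum.zeroLocus (M : Set A))
      ⟨⟨M, hM.isPrime⟩, fun _ h => h⟩ (PrimeSpectrum.isClosed_zeroLocus _).isLocallyClosed
    obtain ⟨e, heR, he, hne'⟩ := h g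
    have h2 : e ∈ (toP g).asIdeal := hg (hle (Ideal.subset_span ⟨heR, he⟩))
    rw [toP_asIdeal, RingHom.mem_ker] at h2
    exact hne' h2
  obtain ⟨T, hT, h1T⟩ := Submodule.mem_span_finite_of_mem_span ((Ideal.eq_top_iff_one _).1 htop)
  refine ⟨T, fun e he => (hT he).1, fun e he => (hT he).2, fun g => ?_⟩
  by_contra! h'
  have hle : Ideal.span (↑T : Set A) ≤ RingHom.ker g.ofConv.toRingHom := Ideal.span_le.2 fun e he => h' e he
  exact one_ne_zero ((map_one g.ofConv).symm.trans (hle h1T))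

/-- All translates of one semi-invariant cover its weight. -/
lemma cov_of_semiInv {χ : Pt k A → k} {a : A} (ha : SemiInv B χ a) (h0 : a ≠ 0) :
    Cov (Set.range fun g : Pt k A => lT g a) B χ := fun x => by
  obtain ⟨x₀, hx₀⟩ := exists_eval_ne (k := k) h0
  exact ⟨_, ⟨x₀ * x⁻¹, rfl⟩, ha.lT _, by rw [eval_lT, inv_mul_cancel_right]; exact hx₀⟩

lemma Cov.mono {R R' : Set A} {χ : Pt k A → k} (h : Cov R B χ) (hR : R ⊆ R') : Cov R' B χ := fun x =>
  let ⟨e, he, h1, h2⟩ := h x
  ⟨e, hR he, h1, h2⟩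

lemma Cov.mul {R : Subalgebra k A} {χ ψ : Pt k A → k} (h : Cov (R : Set A) B χ) (h' : Cov (R : Set A) B ψ) :
    Cov (R : Set A) B fun g => χ g * ψ g := fun x => by
  obtain ⟨e, he, h1, h2⟩ := h x
  obtain ⟨e', he', h1', h2'⟩ := h' x
  exact ⟨e * e', R.mul_mem he he', h1.mul h1', by rw [map_mul]; exact mul_ne_zero h2 h2'⟩

lemma Cov.congr {R : Set A} {χ ψ : Pt k A → k} (h : Cov R B χ) (he : ∀ g ∈ B, χ g = ψ g) : Cov R B ψ := fun x =>
  let ⟨e, h0, h1, h2⟩ := h x
  ⟨e, h0, h1.congr he, h2⟩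

variable (B U) in
/-- Invariant functions with characters under translations of a subgroup from both sides. -/
structure BiEigen (f : A) : Prop where
  ne : f ≠ 0
  left : ∀ b ∈ B, ∃ c : k, lT b f = c • f
  inv : Inv U f
  right : ∃ χ : Pt k A → k, SemiInv B χ f

lemma BiEigen.quot {f g q : A} (hf : BiEigen U B f) (hg : BiEigen U B g) (e : f = g * q) : BiEigen U B q := by
  have hq : q ≠ 0 := fun h => hf.ne (by rw [e, h, mul_zero])
  refine ⟨hq, fun b hb => ?_, fun x u hu => ?_, ?_⟩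
  · obtain ⟨c, hc⟩ := hf.left b hb
    obtain ⟨d, hd⟩ := hg.left b hb
    have hd0 : d ≠ 0 := fun h => hg.ne (ext_pts (k := k) fun x => by
      have := congrArg (fun z => (b⁻¹ * x).ofConv z) hd
      simpa [h] using this)
    have h1 : lTa b f = c • f := hc
    have h2 : lTa b g = d • g := hd
    refine ⟨d⁻¹ * c, mul_left_cancel₀ (smul_ne_zero hd0 hg.ne) ?_⟩
    rw [e, map_mul, h2] at h1
    show (d • g) * lTa b q = _
    rw [h1, smul_mul_smul_comm, mul_inv_cancel_left₀ hd0]
  · have h1 : rTa u f = f := ext_pts (k := k) fun y => by rw [eval_rTa]; exact hf.inv y u hu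
    have h2 : rTa u g = g := ext_pts (k := k) fun y => by rw [eval_rTa]; exact hg.inv y u hu
    rw [e, map_mul, h2] at h1
    have h3 := congrArg (fun z => x.ofConv z) (mul_left_cancel₀ hg.ne h1)
    simpa using h3
  · obtain ⟨χ, hχ⟩ := hf.right
    obtain ⟨ψ, hψ⟩ := hg.right
    refine ⟨fun b => (ψ b)⁻¹ * χ b, fun x b hb => ?_⟩
    have hψ0 := char_ne_zero hψ hg.ne hb
    have h1 : rTa b f = χ b • f := ext_pts (k := k) fun y => by
      rw [eval_rTa, map_smul, smul_eq_mul]; exact hχ y b hb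
    have h2 : rTa b g = ψ b • g := ext_pts (k := k) fun y => by
      rw [eval_rTa, map_smul, smul_eq_mul]; exact hψ y b hb
    rw [e, map_mul, h2] at h1
    have h3 : rTa b q = ((ψ b)⁻¹ * χ b) • q := by
      refine mul_left_cancel₀ (smul_ne_zero hψ0 hg.ne) ?_
      rw [h1, smul_mul_smul_comm, mul_inv_cancel_left₀ hψ0]
    have h4 := congrArg (fun z => x.ofConv z) h3
    simpa using h4

/-- A function with characters from both sides divides a power of an equation of the complement of a double coset. -/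
lemma BiEigen.dvd_pow {f : A} (hf : BiEigen U B f) {d : Pt k A} {h : A}
    (hcell : ∀ x : Pt k A, x.ofConv h ≠ 0 → ∃ b ∈ B, ∃ b' ∈ B, x = b * d * b') (h0 : h ≠ 0) :
    ∃ N : ℕ, f ∣ h ^ N := by
  obtain ⟨χ, hχ⟩ := hf.right
  have hleft : ∀ b ∈ B, ∃ c : k, c ≠ 0 ∧ ∀ x : Pt k A, (b * x).ofConv f = c * x.ofConv f := fun b hb => by
    obtain ⟨c, hc⟩ := hf.left b hb
    have h1 : ∀ x : Pt k A, (b * x).ofConv f = c * x.ofConv f := fun x => by
      have := congrArg (fun z => x.ofConv z) hc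
      simpa using this
    refine ⟨c, fun hc0 => hf.ne (ext_pts (k := k) fun x => ?_), h1⟩
    have := h1 (b⁻¹ * x)
    rw [mul_inv_cancel_left, hc0, zero_mul] at this
    rw [this, map_zero]
  have hd : d.ofConv f ≠ 0 := fun hdf => by
    have : f * h = 0 := eq_zero_of_forall (k := k) fun x => by
      rw [map_mul]
      by_cases hx : x.ofConv h = 0
      · rw [hx, mul_zero]
      · obtain ⟨b, hb, b', hb', rfl⟩ := hcell x hx
        obtain ⟨c, -, hc⟩ := hleft b hb
        rw [hχ _ b' hb', hc, hdf, mul_zero, mul_zero, zero_mul]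
    exact mul_ne_zero hf.ne h0 this
  have hrad : h ∈ (Ideal.span {f}).radical := by
    by_contra hh
    rw [Ideal.radical_eq_sInf, Submodule.mem_sInf] at hh
    push Not at hh
    obtain ⟨P, ⟨hPf, hP⟩, hhP⟩ := hh
    obtain ⟨g, hg⟩ := exists_pt_mem (k := k) (R := A)
      (Z := PrimeSpectrum.zeroLocus {f} ∩ (PrimeSpectrum.basicOpen h : Set (PrimeSpectrum A)))
      ⟨⟨P, hP⟩, by simpa using (Ideal.span_singleton_le_iff_mem P).1 hPf, hhP⟩
      ((PrimeSpectrum.isClosed_zeroLocus _).isLocallyClosed.inter (PrimeSpectrum.basicOpen h).isOpen.isLocallyClosed)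
    have hgf : g.ofConv f = 0 := by
      have h1 : f ∈ (toP g).asIdeal := hg.1 (Set.mem_singleton f)
      rwa [toP_asIdeal, RingHom.mem_ker] at h1
    have hgh : g.ofConv h ≠ 0 := notMem_toP.1 hg.2
    obtain ⟨b, hb, b', hb', rfl⟩ := hcell g hgh
    obtain ⟨c, hc0, hc⟩ := hleft b hb
    rw [hχ _ b' hb', hc] at hgf
    exact mul_ne_zero (char_ne_zero hχ hf.ne hb') (mul_ne_zero hc0 hd) hgf
  obtain ⟨N, hN⟩ := hrad
  exact ⟨N, Ideal.mem_span_singleton.1 hN⟩

/-- Every weight is the weight of a function with characters from both sides. -/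
theorem exists_biEigen (hB : IsBor ⊤ B) (hUB : U ≤ B) {χ : Pt k A → k} {a : A} (ha : SemiInv B χ a) (hu : Inv U a)
    (h0 : a ≠ 0) : ∃ f, BiEigen U B f ∧ SemiInv B χ f := by
  classical
  have hTp : IsPreconnected ((⊤ : Subgroup (Pt k A)) : Set (Pt k A)) := by
    rw [Subgroup.coe_top]; exact (isIrreducible_univ (k := k) (R := A)).isConnected.isPreconnected
  have hTc : IsClosed ((⊤ : Subgroup (Pt k A)) : Set (Pt k A)) := by rw [Subgroup.coe_top]; exact isClosed_univ
  let E : Submodule k A :=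
    { carrier := {e | SemiInv B χ e}
      add_mem' := fun {p q} hp hq x b hb => by rw [map_add, map_add, hp x b hb, hq x b hb, mul_add]
      zero_mem' := fun x b hb => by rw [map_zero, map_zero, mul_zero]
      smul_mem' := fun c {p} hp x b hb => by
        rw [map_smul, map_smul, hp x b hb, smul_eq_mul, smul_eq_mul]; ring }
  obtain ⟨s, hs⟩ := finite_semiInv (hB.complete hTc hTp) χ
  haveI : FiniteDimensional k E := by
    haveI := FiniteDimensional.span_of_finite k s.finite_toSet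
    exact Submodule.finiteDimensional_of_le (S₂ := Submodule.span k (s : Set A)) fun e he => hs e he
  let r : RegRep (⊤ : Subgroup (Pt k A)) E :=
    { ρ := fun g => (lT g⁻¹).restrict fun e he => SemiInv.lT he g⁻¹
      map_one := LinearMap.ext fun e => Subtype.ext (by
        show lT (1 : Pt k A)⁻¹ (e : A) = _
        rw [inv_one, lT_one]; rfl)
      map_mul := fun g _ h _ => LinearMap.ext fun e => Subtype.ext (by
        show lT (g * h)⁻¹ (e : A) = lT g⁻¹ (lT h⁻¹ (e : A))
        rw [mul_inv_rev, lT_mul]; rfl)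
      reg := fun φ e => by
        obtain ⟨p, hp⟩ := E.subtype.exists_leftInverse_of_injective E.ker_subtype
        let ψ : A →ₗ[k] k := φ ∘ₗ p
        have h1 : IsReg fun g : Pt k A => ψ (lT g (e : A)) := by
          refine ⟨TensorProduct.rid k A (ψ.lTensor A (CoalgebraStruct.comul (R := k) (e : A))), fun g => ?_⟩
          dsimp only
          simp only [lT, LinearMap.coe_comp, Function.comp_apply, LinearEquiv.coe_coe]
          generalize CoalgebraStruct.comul (R := k) (e : A) = t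
          induction t using TensorProduct.induction_on with
          | zero => simp
          | add a c ha hc => simp only [map_add, ha, hc]
          | tmul a c => simp [mul_comm]
        have h2 := h1.comp IsMor.id.inv
        refine (congrArg IsReg ?_).mpr h2
        funext g
        show φ _ = φ (p (lT g⁻¹ (e : A)))
        exact congrArg φ (LinearMap.congr_fun hp _).symm }
  obtain ⟨w, -, hw0, hw⟩ := r.exists_weight_of_isSol (le_top : B ≤ ⊤) hB.conn hB.sol (W := ⊤)
    ((Submodule.ne_bot_iff _).2 ⟨⟨a, ha⟩, trivial, fun e => h0 (congrArg Subtype.val e)⟩) fun g _ w _ => trivial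
  refine ⟨w, ⟨fun e => hw0 (Subtype.ext e), fun b hb => ?_, fun x u hu' => ?_, ⟨χ, w.2⟩⟩, w.2⟩
  · obtain ⟨c, hc⟩ := hw b⁻¹ (inv_mem hb)
    have := congrArg Subtype.val hc
    refine ⟨c, ?_⟩
    show lT b (w : A) = c • (w : A)
    rw [← inv_inv b]
    exact this
  · rw [w.2 x u (hUB hu')]
    obtain ⟨y, hy⟩ := exists_eval_ne (k := k) h0
    have h1 := ha y u (hUB hu')
    rw [hu y u hu'] at h1
    rw [(mul_eq_right₀ hy).1 h1.symm, one_mul]

end Groth.Agent.ObsLib

end
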