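import Groth.Agent.ObsLib.Key

/-!
# Extending representations of observable subgroups; transitivity
-/

set_option autoImplicit false
set_option linter.style.haveILetI false
set_option linter.unusedSectionVars false

noncomputable section

universe u v w

open WithConv
open scoped TensorProduct

namespace Groth.Agent.ObsLib

open BorelLib

attribute [local instance] pTop pTopTensor

variable {k : Type u} [Field k]

/-- The exterior product of independent vectors is non-zero. -/
lemma ιMulti_ne_zero {E : Type v} [AddCommGroup E] [Module k E] {m : ℕ} {f : Fin m → E}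
    (hf : LinearIndependent k f) : exteriorPower.ιMulti k m f ≠ 0 := by
  intro h0
  let b := Module.Basis.span hf
  obtain ⟨p, hp⟩ := (Submodule.span k (Set.range f)).subtype.exists_leftInverse_of_injective
    (Submodule.ker_subtype _)
  have h := congrArg (exteriorPower.alternatingMapLinearEquiv (b.det.compLinearMap p)) h0
  rw [exteriorPower.alternatingMapLinearEquiv_apply_ιMulti, map_zero, AlternatingMap.compLinearMap_apply] at h
  have e : (fun i => p (f i)) = b := funext fun i => by
    refine Eq.trans ?_ (LinearMap.congr_fun hp (b i))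
    show p (f i) = p (b i : E)
    rw [Module.Basis.span_apply]
  rw [e, Module.Basis.det_self] at h
  exact one_ne_zero h

/-- An alternating map of top degree is determined by its value on a basis. -/
lemma alternating_eq_det_smul {N : Type v} [AddCommGroup N] [Module k N] {X : Type w} [AddCommGroup X]
    [Module k X] {d : ℕ} (e : Module.Basis (Fin d) k N) (F : N [⋀^Fin d]→ₗ[k] X) (f : Fin d → N) :
    F f = e.det f • F e := by
  have : F = (LinearMap.toSpanSingleton k X (F e)).compAlternatingMap e.det := by
    refine Module.Basis.ext_alternating e fun v hv => ?_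
    obtain ⟨σ, rfl⟩ : ∃ σ : Equiv.Perm (Fin d), (σ : Fin d → Fin d) = v :=
      ⟨Equiv.ofBijective v ⟨hv, Finite.surjective_of_injective hv⟩, rfl⟩
    rw [LinearMap.compAlternatingMap_apply, LinearMap.toSpanSingleton_apply,
      show (fun i => e (σ i)) = (e : Fin d → N) ∘ σ from rfl, F.map_perm, e.det.map_perm, Module.Basis.det_self,
      smul_assoc, one_smul]
  conv_lhs => rw [this]
  rfl

variable [IsAlgClosed k] {A : Type u} [CommRing A] [HopfAlgebra k A] [Algebra.FiniteType k A] [IsReduced A]
  {S T : Subgroup (Pt k A)}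

/-- **Quotients of representations embed equivariantly**, when the inverse characters occur. -/
theorem CharInv.exists_ext_quot (hinv : CharInv S) {W : Type u} [AddCommGroup W] [Module k W]
    [FiniteDimensional k W] (R : RegRep (⊤ : Subgroup (Pt k A)) W) (N : Submodule k W) (hN : R.Stable S N) :
    ∃ (U : Type u) (_ : AddCommGroup U) (_ : Module k U) (_ : FiniteDimensional k U)
      (r : RegRep (⊤ : Subgroup (Pt k A)) U) (j : W →ₗ[k] U),
      LinearMap.ker j = N ∧ ∀ h ∈ S, ∀ w, j (R.ρ h w) = r.ρ h (j w) := by
  classical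
  let d := Module.finrank k N
  let e : Module.Basis (Fin d) k N := Module.finBasis k N
  let ev : Fin d → W := fun i => (e i : W)
  have hev : LinearIndependent k ev := e.linearIndependent.map' N.subtype N.ker_subtype
  let f : Pt k A → Fin d → N := fun h i => if hh : h ∈ S then ⟨R.ρ h (ev i), hN h hh _ (e i).2⟩ else 0
  have hf : ∀ h ∈ S, (fun i => R.ρ h (ev i)) = fun i => (f h i : W) := fun h hh => by
    funext i
    simp only [f, dif_pos hh]
  have hfd : ∀ h ∈ S, exteriorPower.ιMulti k d (fun i => R.ρ h (ev i)) =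
      e.det (f h) • exteriorPower.ιMulti k d ev := fun h hh => by
    rw [hf h hh]
    exact alternating_eq_det_smul e ((exteriorPower.ιMulti k d).compLinearMap N.subtype) (f h)
  have hv0 : exteriorPower.ιMulti k d ev ≠ 0 := ιMulti_ne_zero hev
  obtain ⟨a, ha, ha1⟩ := semiInv_of_weight (S := S) (χ := fun h => e.det (f h)) (extRep d R) hv0
    (fun h hh => by rw [extRep_ιMulti]; exact hfd h hh)
  obtain ⟨b, hb, hb1⟩ := hinv a _ ha ha1
  obtain ⟨U, _, _, _, s, u, hu, hsu⟩ := weight_of_semiInv hb hb1
  let L : W →ₗ[k] ⋀[k]^(d + 1) W :=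
    { toFun := fun w => exteriorPower.ιMulti k (d + 1) (Matrix.vecCons w ev)
      map_add' := fun x y => AlternatingMap.map_vecCons_add _ _ _ _
      map_smul' := fun c x => AlternatingMap.map_vecCons_smul _ _ _ _ }
  refine ⟨(⋀[k]^(d + 1) W) ⊗[k] U, inferInstance, inferInstance, inferInstance,
    tensorRep (extRep (d + 1) R) s, (TensorProduct.mk k _ U).flip u ∘ₗ L, ?_, fun h hh w => ?_⟩
  · ext w
    simp only [LinearMap.mem_ker, LinearMap.coe_comp, Function.comp_apply, LinearMap.flip_apply, TensorProduct.mk_apply]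
    constructor
    · intro h0
      by_contra hw
      obtain ⟨ψ, hψ⟩ := ComodLib.exists_dual_ne (k := k) hu
      have h1 := congrArg ((TensorProduct.rid k _).toLinearMap ∘ₗ ψ.lTensor _) h0
      simp only [LinearMap.coe_comp, Function.comp_apply, LinearMap.lTensor_tmul, LinearEquiv.coe_coe,
        TensorProduct.rid_tmul, map_zero, smul_eq_zero, hψ, false_or] at h1
      refine ιMulti_ne_zero ?_ h1
      show LinearIndependent k (Fin.cons w ev : Fin (d + 1) → W)
      rw [linearIndependent_finCons]
      refine ⟨hev, fun hmem => hw ?_⟩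
      exact (Submodule.span_le.2 (by rintro _ ⟨i, rfl⟩; exact (e i).2) : Submodule.span k (Set.range ev) ≤ N) hmem
    · intro hw
      have h1 : L w = 0 := by
        refine AlternatingMap.map_linearDependent (exteriorPower.ιMulti k (d + 1) (M := W)) (Matrix.vecCons w ev) fun hli => ?_
        rw [show (Matrix.vecCons w ev) = (Fin.cons w ev : Fin (d + 1) → W) from rfl, linearIndependent_finCons] at hli
        apply hli.2
        have he : Submodule.span k (Set.range ev) = N := by
          rw [show Set.range ev = N.subtype '' Set.range e by rw [← Set.range_comp]; rfl, Submodule.span_image,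
            e.span_eq, Submodule.map_top, Submodule.range_subtype]
        rwa [he]
      rw [h1, TensorProduct.zero_tmul]
  · simp only [LinearMap.coe_comp, Function.comp_apply, LinearMap.flip_apply, TensorProduct.mk_apply, tensorRep_tmul]
    have hL : (extRep (d + 1) R).ρ h (L w) = e.det (f h) • L (R.ρ h w) := by
      show (extRep (d + 1) R).ρ h (exteriorPower.ιMulti k (d + 1) (Matrix.vecCons w ev)) = _
      rw [extRep_ιMulti, show (fun i => R.ρ h (Matrix.vecCons w ev i)) =
          Matrix.vecCons (R.ρ h w) (fun i => (f h i : W)) by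
        funext i
        refine Fin.cases ?_ (fun j => ?_) i
        · rfl
        · exact congrFun (hf h hh) j]
      exact alternating_eq_det_smul e
        (((exteriorPower.ιMulti k (d + 1)).curryLeft (R.ρ h w)).compLinearMap N.subtype) (f h)
    rw [hL, hsu h hh, TensorProduct.smul_tmul, smul_smul, mul_inv_cancel₀ (ha.char_ne ha1 hh), one_smul]

/-- **Extension of representations**. -/
theorem CharInv.exists_ext (hinv : CharInv S) {V : Type u} [AddCommGroup V] [Module k V]
    [FiniteDimensional k V] (σ : RegRep S V) :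
    ∃ (U : Type u) (_ : AddCommGroup U) (_ : Module k U) (_ : FiniteDimensional k U)
      (r : RegRep (⊤ : Subgroup (Pt k A)) U) (ι : V →ₗ[k] U),
      Function.Injective ι ∧ ∀ h ∈ S, ∀ x, ι (σ.ρ h x) = r.ρ h (ι x) := by
  classical
  let b := Module.finBasis k V
  choose a ha using fun (i j : Fin (Module.finrank k V)) => σ.reg (b.coord i) (b j)
  simp only at ha
  obtain ⟨W, hfd, hsW, hW⟩ := exists_stable (k := k) (Finset.univ.image fun p : _ × _ => a p.1 p.2)
  haveI := hfd
  have hmem : ∀ i j, a i j ∈ W := fun i j => hsW (Finset.mem_image_of_mem _ (Finset.mem_univ (i, j)))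
  let c : V →ₗ[k] (Fin (Module.finrank k V) → W) := b.constr k fun j i => ⟨a i j, hmem i j⟩
  have hc : ∀ (g : Pt k A) (x : V) (i), g.ofConv (c x i : A) = b.coord i (σ.ρ g x) := by
    intro g x i
    let l₁ : V →ₗ[k] k := g.ofConv.toLinearMap ∘ₗ W.subtype ∘ₗ LinearMap.proj i ∘ₗ c
    have : l₁ = b.coord i ∘ₗ σ.ρ g := b.ext fun j => by
      show g.ofConv (c (b j) i : A) = _
      rw [show c (b j) = _ from b.constr_basis k _ j]
      exact (ha i j g).symm
    exact LinearMap.congr_fun this x
  let N : Submodule k (Fin (Module.finrank k V) → W) :=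
    { carrier := {w | ∀ i, ∀ x ∈ S, x.ofConv (w i : A) = 0}
      zero_mem' := fun i x _ => by simp
      add_mem' := fun {p q} hp hq i x hx => by simp [hp i x hx, hq i x hx]
      smul_mem' := fun t p hp i x hx => by simp [hp i x hx] }
  let R := piRep (Module.finrank k V) (funRep W hW)
  have hN : R.Stable S N := fun h hh w hw i x hx => by
    show x.ofConv (rT h (w i : A)) = 0
    rw [eval_rT]
    exact hw i _ (S.mul_mem hx hh)
  obtain ⟨U, _, _, _, r, j, hker, hj⟩ := hinv.exists_ext_quot R N hN
  refine ⟨U, inferInstance, inferInstance, inferInstance, r, j ∘ₗ c, ?_, fun h hh x => ?_⟩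
  · intro x y hxy
    rw [← sub_eq_zero]
    have : c (x - y) ∈ N := by
      rw [← hker, LinearMap.mem_ker, map_sub, map_sub, sub_eq_zero]
      exact hxy
    refine b.forall_coord_eq_zero_iff.1 fun i => ?_
    have h1 := this i 1 S.one_mem
    rwa [hc, σ.map_one, Module.End.one_apply] at h1
  · simp only [LinearMap.coe_comp, Function.comp_apply]
    rw [← hj h hh, ← sub_eq_zero, ← map_sub, ← LinearMap.mem_ker, hker]
    intro i y hy
    rw [Pi.sub_apply, AddSubgroupClass.coe_sub, map_sub, sub_eq_zero, piRep_apply, coe_funRep, eval_rT, hc, hc,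
      σ.mul_apply hy hh]

/-- Extension of all representations gives inverse characters. -/
theorem charInv_of_ext
    (h : ∀ (V : Type u) [AddCommGroup V] [Module k V] [FiniteDimensional k V] (σ : RegRep S V),
      ∃ (U : Type u) (_ : AddCommGroup U) (_ : Module k U) (r : RegRep (⊤ : Subgroup (Pt k A)) U) (ι : V →ₗ[k] U),
        Function.Injective ι ∧ ∀ h ∈ S, ∀ x, ι (σ.ρ h x) = r.ρ h (ι x)) : CharInv S := by
  intro a χ ha h1
  let χ' : Pt k A → k := fun g => g⁻¹.ofConv a * ((1 : Pt k A).ofConv a)⁻¹
  have hreg : IsReg χ' := ((IsReg.eval a).comp IsMor.id.inv).mul (IsReg.const _)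
  have hχ : ∀ g ∈ S, χ' g = (χ g)⁻¹ := fun g hg => by
    rw [← ha.char_inv h1 hg, ha.char_eq h1 (inv_mem hg), div_eq_mul_inv]
  let σ : RegRep S k := charRep χ' hreg (by simp only [χ', inv_one]; exact mul_inv_cancel₀ h1) fun g hg h hh => by
    rw [hχ g hg, hχ h hh, hχ _ (S.mul_mem hg hh), ha.char_mul h1 hg hh, mul_inv]
  obtain ⟨U, _, _, r, ι, hι, heq⟩ := h k σ
  refine semiInv_of_weight r (v := ι 1) (fun h0 => one_ne_zero (hι (h0.trans (map_zero ι).symm))) fun g hg => ?_
  rw [← heq g hg]
  show ι (χ' g • (1 : k)) = _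
  rw [map_smul, hχ g hg]

/-- **Transitivity of observability**. -/
theorem Obs.trans (hT : Obs T) (hST : S ≤ T) (h : ObsIn S T) : Obs S := by
  classical
  intro g hg
  have hgT : g ∈ T := hT g fun a ha => hg a (ha.mono hST)
  -- finitely many invariants on `T`
  let d : A → A := fun a => a - algebraMap k A ((1 : Pt k A).ofConv a)
  haveI : IsNoetherianRing A := Algebra.FiniteType.isNoetherianRing k A
  obtain ⟨s', hs', hspan⟩ := (Submodule.fg_span_iff_fg_span_finset_subset (d '' {a | InvOn S T a})).1
    (IsNoetherian.noetherian (Submodule.span A (d '' {a | InvOn S T a})))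
  choose f hf hf' using fun t : s' => hs' t.2
  obtain ⟨W, hfd, hsW, hW⟩ := exists_stable (k := k) (Finset.univ.image f)
  haveI := hfd
  let n := Fintype.card s'
  let eI := Fintype.equivFin s'
  let R := piRep n (funRep W hW)
  let N : Submodule k (Fin n → W) :=
    { carrier := {w | ∀ i, ∀ x ∈ T, x.ofConv (w i : A) = 0}
      zero_mem' := fun i x _ => by simp
      add_mem' := fun {p q} hp hq i x hx => by simp [hp i x hx, hq i x hx]
      smul_mem' := fun t p hp i x hx => by simp [hp i x hx] }
  have hN : R.Stable T N := fun h hh w hw i x hx => by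
    show x.ofConv (rT h (w i : A)) = 0
    rw [eval_rT]
    exact hw i _ (T.mul_mem hx hh)
  obtain ⟨U, _, _, _, r, j, hker, hj⟩ := hT.isVecStab.charInv.exists_ext_quot R N hN
  let v : Fin n → W := fun i => ⟨f (eI.symm i), hsW (Finset.mem_image_of_mem _ (Finset.mem_univ _))⟩
  have hfix : ∀ h ∈ S, r.ρ h (j v) = j v := fun h hh => by
    rw [← hj h (hST hh), ← sub_eq_zero, ← map_sub, ← LinearMap.mem_ker, hker]
    intro i x hx
    rw [Pi.sub_apply, AddSubgroupClass.coe_sub, map_sub, sub_eq_zero, piRep_apply, coe_funRep, eval_rT]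
    exact hf (eI.symm i) x hx h hh
  have hgfix : r.ρ g (j v) = j v := by
    rw [← sub_eq_zero]
    refine (Module.forall_dual_apply_eq_zero_iff k _).1 fun φ => ?_
    obtain ⟨a, ha⟩ := r.reg φ (j v)
    simp only at ha
    rw [map_sub, sub_eq_zero, ha, hg a (fun x h hh => by
      rw [← ha, ← ha, r.mul_apply trivial trivial, hfix h hh]), ← ha, r.map_one, Module.End.one_apply]
  refine h g hgT fun c hc => ?_
  have hmemN : R.ρ g v - v ∈ N := by
    rw [← hker, LinearMap.mem_ker, map_sub, hj g hgT, hgfix, sub_self]
  have hle : Submodule.span A (s' : Set A) ≤ RingHom.ker g.ofConv.toRingHom := by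
    refine Submodule.span_le.2 fun t ht => ?_
    show g.ofConv t = 0
    have h1 := hmemN (eI ⟨t, ht⟩) 1 T.one_mem
    rw [Pi.sub_apply, AddSubgroupClass.coe_sub, map_sub, sub_eq_zero, piRep_apply, coe_funRep, eval_rT, one_mul] at h1
    simp only [v, Equiv.symm_apply_apply] at h1
    rw [← show d (f ⟨t, ht⟩) = t from hf' ⟨t, ht⟩, map_sub, AlgHom.commutes, Algebra.algebraMap_self, RingHom.id_apply,
      sub_eq_zero]
    exact h1
  have : d c ∈ Submodule.span A (d '' {a | InvOn S T a}) := Submodule.subset_span ⟨c, hc, rfl⟩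
  rw [hspan] at this
  have e : g.ofConv (d c) = 0 := hle this
  rwa [map_sub, AlgHom.commutes, Algebra.algebraMap_self, RingHom.id_apply, sub_eq_zero] at e

end Groth.Agent.ObsLib

end
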