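import Groth.Agent.ObsLib.BigCell
import Groth.Agent.BorelLib.Norm
import Groth.Agent.BorelLib.Reductive
import Groth.Agent.BorelLib.RedPtsMore
import Groth.Agent.SplitFibLib.Family

/-!
# Limits along one-parameter subgroups
-/

set_option autoImplicit false
set_option linter.style.haveILetI false
set_option linter.unusedSectionVars false
set_option backward.isDefEq.respectTransparency false
set_option maxHeartbeats 2000000
set_option synthInstance.maxHeartbeats 400000

noncomputable section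

universe u

open WithConv LaurentPolynomial
open scoped TensorProduct

namespace Groth.Agent.ObsLib

open BorelLib

attribute [local instance] pTop pTopTensor

variable {k : Type u} [Field k] [IsAlgClosed k] {A : Type u} [CommRing A] [HopfAlgebra k A] [Algebra.FiniteType k A]

/-- The point of the punctured line. -/
def gp (z : kˣ) : Pt k k[T;T⁻¹] := toConv (DynLib.ev (Algebra.ofId k k) z)

lemma exists_gp (x : Pt k k[T;T⁻¹]) : ∃ z, gp z = x := by
  obtain ⟨z, hz⟩ := RootSubgrp.exists_eq_ev x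
  exact ⟨z, WithConv.ext hz.symm⟩

lemma lamAt_eq_pull (lam : A →ₐc[k] k[T;T⁻¹]) (z : kˣ) :
    DynLib.lamAt lam z = pull (lam : A →ₐ[k] k[T;T⁻¹]) (gp z) := rfl

/-- A one-parameter subgroup on points. -/
def lamHom (lam : A →ₐc[k] k[T;T⁻¹]) : kˣ →* Pt k A :=
  MonoidHom.mk' (fun z => DynLib.lamAt lam z) fun s t => DynLib.lamAt_mul lam s t

lemma lamHom_apply (lam : A →ₐc[k] k[T;T⁻¹]) (z : kˣ) : lamHom lam z = DynLib.lamAt lam z := rfl

lemma isMor_zpow {R : Type u} [CommRing R] [Algebra k R] {F : Pt k R → Pt k A} (h : IsMor F) :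
    ∀ a : ℤ, IsMor fun x => F x ^ a
  | Int.ofNat n => by simpa using h.pow n
  | Int.negSucc n => by simpa [zpow_negSucc] using (h.pow (n + 1)).inv

lemma exists_unit_pow_ne {N : ℤ} (hN : N ≠ 0) : ∃ z : kˣ, z ^ N ≠ 1 := by
  by_contra! h
  haveI : Infinite ↥({0}ᶜ : Set k) := (Set.finite_singleton (0 : k)).infinite_compl.to_subtype
  haveI : Infinite kˣ := Infinite.of_injective (α := kˣ) (β := ↥({0}ᶜ : Set k))
    (fun x => Units.mk0 x.1 x.2) fun x y h => Subtype.ext (congrArg Units.val h :)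
  refine (Set.Infinite.image (Set.injOn_of_injective Units.val_injective) (Set.infinite_univ (α := kˣ))) ?_
  refine Set.Finite.subset (Polynomial.finite_setOfPred_isRoot
    (p := Polynomial.X ^ N.natAbs - Polynomial.C (1 : k)) (Polynomial.X_pow_sub_C_ne_zero (Int.natAbs_pos.2 hN) 1)) ?_
  rintro _ ⟨z, -, rfl⟩
  have h1 := h z
  have h3 : z ^ N.natAbs = 1 := by
    rcases Int.natAbs_eq N with h4 | h4 <;> rw [h4] at h1
    · rwa [zpow_natCast] at h1
    · rwa [zpow_neg, zpow_natCast, inv_eq_one] at h1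
  have h4 := congrArg Units.val h3
  simp only [Units.val_pow_eq_pow_val, Units.val_one] at h4
  simp [h4]

lemma eq_of_zpow_eq {m n : ℤ} (h : ∀ z : kˣ, z ^ m = z ^ n) : m = n := by
  by_contra hne
  obtain ⟨z, hz⟩ := exists_unit_pow_ne (k := k) (sub_ne_zero.2 hne)
  exact hz (by rw [zpow_sub, h z, mul_inv_cancel])

/-- A multiplicative map on the punctured line is a one-parameter subgroup. -/
theorem exists_cochar_of_mor {F : Pt k k[T;T⁻¹] → Pt k A} (hF : IsMor F) (h1 : F 1 = 1)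
    (hmul : ∀ x y, F (x * y) = F x * F y) : ∃ nu : A →ₐc[k] k[T;T⁻¹], ∀ z : kˣ, DynLib.lamAt nu z = F (gp z) := by
  obtain ⟨φ, hφ⟩ := hF
  obtain ⟨nu, hnu⟩ := RootSubgrp.exists_bialgHom_of_pts φ (by rw [← hφ, h1])
    fun x y => by rw [← hφ, ← hφ, ← hφ, hmul]
  exact ⟨nu, fun z => by rw [lamAt_eq_pull, hnu, hφ]⟩

lemma pull_bialg_mul (lam : A →ₐc[k] k[T;T⁻¹]) (x y : Pt k k[T;T⁻¹]) :
    pull (lam : A →ₐ[k] k[T;T⁻¹]) (x * y) = pull (lam : A →ₐ[k] k[T;T⁻¹]) x * pull (lam : A →ₐ[k] k[T;T⁻¹]) y :=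
  map_mul (DynLib.pull lam (R := k)) x y

lemma pull_bialg_one (lam : A →ₐc[k] k[T;T⁻¹]) : pull (lam : A →ₐ[k] k[T;T⁻¹]) (1 : Pt k k[T;T⁻¹]) = 1 :=
  map_one (DynLib.pull lam (R := k))

/-- An integral combination of commuting one-parameter subgroups. -/
theorem exists_comb {T : Subgroup (Pt k A)} (hT : ∀ a ∈ T, ∀ b ∈ T, a * b = b * a) {l l' : A →ₐc[k] k[T;T⁻¹]}
    (hl : ∀ z : kˣ, DynLib.lamAt l z ∈ T) (hl' : ∀ z : kˣ, DynLib.lamAt l' z ∈ T) (a b : ℤ) :
    ∃ nu : A →ₐc[k] k[T;T⁻¹], (∀ z : kˣ, DynLib.lamAt nu z = DynLib.lamAt l z ^ a * DynLib.lamAt l' z ^ b) ∧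
      ∀ z : kˣ, DynLib.lamAt nu z ∈ T := by
  have hm : ∀ x, pull (l : A →ₐ[k] k[T;T⁻¹]) x ∈ T := fun x => by
    obtain ⟨z, rfl⟩ := exists_gp x; exact hl z
  have hm' : ∀ x, pull (l' : A →ₐ[k] k[T;T⁻¹]) x ∈ T := fun x => by
    obtain ⟨z, rfl⟩ := exists_gp x; exact hl' z
  obtain ⟨nu, hnu⟩ := exists_cochar_of_mor
    (F := fun x => pull (l : A →ₐ[k] k[T;T⁻¹]) x ^ a * pull (l' : A →ₐ[k] k[T;T⁻¹]) x ^ b)
    ((isMor_zpow (IsMor.pull _) a).mul (isMor_zpow (IsMor.pull _) b))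
    (by rw [pull_bialg_one, pull_bialg_one, one_zpow, one_zpow, one_mul]) fun x y => by
      have c1 : Commute (pull (l : A →ₐ[k] k[T;T⁻¹]) x) (pull (l : A →ₐ[k] k[T;T⁻¹]) y) := hT _ (hm x) _ (hm y)
      have c2 : Commute (pull (l' : A →ₐ[k] k[T;T⁻¹]) x) (pull (l' : A →ₐ[k] k[T;T⁻¹]) y) := hT _ (hm' x) _ (hm' y)
      have c3 : Commute (pull (l : A →ₐ[k] k[T;T⁻¹]) y ^ a) (pull (l' : A →ₐ[k] k[T;T⁻¹]) x ^ b) :=
        hT _ (zpow_mem (hm y) a) _ (zpow_mem (hm' x) b)
      rw [pull_bialg_mul, pull_bialg_mul, c1.mul_zpow, c2.mul_zpow, c3.mul_mul_mul_comm]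
  exact ⟨nu, hnu, fun z => hnu z ▸ T.mul_mem (zpow_mem (hl z) a) (zpow_mem (hl' z) b)⟩

/-- The exponent of a character along a one-parameter subgroup. -/
theorem exists_exponent {T : Subgroup (Pt k A)} {χ : Pt k A → k} (hχ : IsReg χ) (h1 : χ 1 = 1)
    (hmul : ∀ s ∈ T, ∀ t ∈ T, χ (s * t) = χ s * χ t) {lam : A →ₐc[k] k[T;T⁻¹]} (hlam : ∀ z : kˣ, DynLib.lamAt lam z ∈ T) :
    ∃ N : ℤ, ∀ z : kˣ, χ (DynLib.lamAt lam z) = ((z ^ N : kˣ) : k) := by
  obtain ⟨a, ha⟩ := hχ
  obtain ⟨b, hb⟩ := (IsReg.eval (k := k) a).comp (IsMor.id (k := k) (R := A)).inv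
  dsimp only at hb
  have hrs : lam a * lam b = 1 := by
    refine sub_eq_zero.1 (eq_zero_of_forall (k := k) fun x => ?_)
    obtain ⟨z, rfl⟩ := exists_gp x
    rw [map_sub, map_mul, map_one, sub_eq_zero]
    show (DynLib.lamAt lam z).ofConv a * (DynLib.lamAt lam z).ofConv b = 1
    rw [← hb, ← ha, ← ha, ← hmul _ (hlam z) _ (inv_mem (hlam z)), mul_inv_cancel, h1]
  obtain ⟨c, N, hN⟩ := SplitFib.exists_monomial (IsUnit.of_mul_eq_one (a := lam a) (lam b) hrs)
  have key : ∀ z : kˣ, χ (DynLib.lamAt lam z) = c * ((z ^ N : kˣ) : k) := fun z => by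
    rw [ha]
    show DynLib.ev (Algebra.ofId k k) z (lam a) = _
    rw [hN, map_mul, DynLib.ev_T, show ∀ c : k, (LaurentPolynomial.C c : k[T;T⁻¹]) = algebraMap k _ c from fun _ => rfl, AlgHom.commutes]
    rfl
  have hc : c = 1 := by
    have := key 1
    rw [DynLib.lamAt_one, h1] at this
    simpa using this.symm
  exact ⟨N, fun z => by rw [key z, hc, one_mul]⟩

/-- A point has a limit along a one-parameter subgroup. -/
def Fam (lam : A →ₐc[k] k[T;T⁻¹]) (g p : Pt k A) : Prop :=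
  ∃ φ : A →ₐ[k] Polynomial k,
    (∀ z : kˣ, pull φ (linePt (z : k)) = DynLib.lamAt lam z * g * DynLib.lamAt lam z⁻¹) ∧ pull φ (linePt 0) = p

variable {lam : A →ₐc[k] k[T;T⁻¹]} {g p : Pt k A}

lemma mem_zero_of_units {Y : Set (Pt k (Polynomial k))} (hY : IsClosed Y) (h : ∀ z : kˣ, linePt (z : k) ∈ Y)
    (x : Pt k (Polynomial k)) : x ∈ Y := by
  by_contra hx
  haveI : Infinite k := IsAlgClosed.instInfinite
  refine ((Set.finite_singleton (0 : k)).infinite_compl) ((finite_lineCoord hY hx).subset fun c hc => ?_)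
  exact ⟨linePt c, h (Units.mk0 c hc), lineCoord_linePt c⟩

lemma eq_of_units {f : Pt k (Polynomial k) → k} (hf : IsReg f) {c : k} (h : ∀ z : kˣ, f (linePt (z : k)) = c)
    (x : Pt k (Polynomial k)) : f x = c :=
  mem_zero_of_units (hf.isClosed_eq (IsReg.const c)) h x

lemma Fam.mem (h : Fam lam g p) {Y : Set (Pt k A)} (hY : IsClosed Y)
    (hz : ∀ z : kˣ, DynLib.lamAt lam z * g * DynLib.lamAt lam z⁻¹ ∈ Y) : p ∈ Y := by
  obtain ⟨φ, hφ, rfl⟩ := h
  refine mem_zero_of_units (hY.preimage (IsMor.pull φ).continuous) (fun z => ?_) (linePt 0)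
  show pull φ (linePt (z : k)) ∈ Y
  rw [hφ]; exact hz z

lemma fam_one (lam : A →ₐc[k] k[T;T⁻¹]) : Fam lam (1 : Pt k A) 1 := by
  obtain ⟨φ, hφ⟩ := IsMor.const (R' := Polynomial k) (1 : Pt k A)
  refine ⟨φ, fun z => ?_, (hφ _).symm⟩
  rw [← hφ, mul_one, DynLib.lamAt_inv, mul_inv_cancel]

lemma fam_of_commute (t : Pt k A) (h : ∀ z : kˣ, t * DynLib.lamAt lam z = DynLib.lamAt lam z * t) : Fam lam t t := by
  obtain ⟨φ, hφ⟩ := IsMor.const (R' := Polynomial k) t
  refine ⟨φ, fun z => ?_, (hφ _).symm⟩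
  rw [← hφ, ← h, DynLib.lamAt_inv, mul_inv_cancel_right]

lemma Fam.conj (h : Fam lam g p) (t : Pt k A) (ht : ∀ z : kˣ, t * DynLib.lamAt lam z = DynLib.lamAt lam z * t) :
    Fam lam (t * g * t⁻¹) (t * p * t⁻¹) := by
  obtain ⟨φ, hφ, rfl⟩ := h
  obtain ⟨ψ, hψ⟩ := ((IsMor.const t).mul (IsMor.pull φ)).mul (IsMor.const t⁻¹)
  refine ⟨ψ, fun z => ?_, (hψ _).symm⟩
  rw [← hψ]
  dsimp only
  rw [hφ]
  have e : DynLib.lamAt lam z⁻¹ * t⁻¹ = t⁻¹ * DynLib.lamAt lam z⁻¹ := by
    rw [DynLib.lamAt_inv, ← mul_inv_rev, ← mul_inv_rev, ht]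
  calc t * (DynLib.lamAt lam z * g * DynLib.lamAt lam z⁻¹) * t⁻¹
      = (t * DynLib.lamAt lam z) * g * (DynLib.lamAt lam z⁻¹ * t⁻¹) := by group
    _ = _ := by rw [ht, e]; group

/-- A subgroup contracted to the identity is connected. -/
theorem isPreconnected_of_fam {H : Subgroup (Pt k A)} (hH : IsClosed (H : Set (Pt k A)))
    (hn : ∀ g ∈ H, ∀ z : kˣ, DynLib.lamAt lam z * g * DynLib.lamAt lam z⁻¹ ∈ H) (hf : ∀ g ∈ H, Fam lam g 1) :
    IsPreconnected (H : Set (Pt k A)) := by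
  refine isPreconnected_of_forall 1 fun g hg => ?_
  obtain ⟨φ, hφ, h0⟩ := hf g hg
  refine ⟨Set.range (pull φ), ?_, ⟨linePt 0, h0⟩, ⟨linePt 1, ?_⟩, ?_⟩
  · rintro _ ⟨x, rfl⟩
    refine mem_zero_of_units (hH.preimage (IsMor.pull φ).continuous) (fun z => ?_) x
    show pull φ (linePt (z : k)) ∈ H
    rw [hφ]; exact hn g hg z
  · have := hφ 1
    rwa [Units.val_one, inv_one, DynLib.lamAt_one, one_mul, mul_one] at this
  · rw [← Set.image_univ]
    exact (IsIrreducible.isPreirreducible isIrreducible_univ).isPreconnected.image _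
      (IsMor.pull φ).continuous.continuousOn

lemma pull_toL (φ : A →ₐ[k] Polynomial k) (z : kˣ) :
    pull φ (linePt (z : k)) = DynLib.push (DynLib.ev (Algebra.ofId k k) z) (DynLib.push (DynLib.toL k k) (toConv φ)) := by
  have ht : (DynLib.ev (Algebra.ofId k k) z).comp (DynLib.toL k k) = Polynomial.aeval (z : k) := by
    refine Polynomial.algHom_ext ?_
    show DynLib.ev (Algebra.ofId k k) z (Polynomial.toLaurent Polynomial.X) = Polynomial.aeval (z : k) Polynomial.X
    rw [Polynomial.toLaurent_X, DynLib.ev_T, zpow_one, Polynomial.aeval_X]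
  refine WithConv.ext (AlgHom.ext fun a => ?_)
  exact (DFunLike.congr_fun ht (φ a)).symm

lemma ev_orbit_eq (lam : A →ₐc[k] k[T;T⁻¹]) (g : Pt k A) (z : kˣ) :
    DynLib.push (DynLib.ev (Algebra.ofId k k) z) (DynLib.orbit k lam g) =
      DynLib.lamAt lam z * g * DynLib.lamAt lam z⁻¹ := by
  rw [DynLib.ev_orbit, DynLib.lamAt_inv]
  exact congrArg (fun w => DynLib.lamAt lam z * w * (DynLib.lamAt lam z)⁻¹)
    (WithConv.ext (AlgHom.ext fun _ => rfl))

lemma pull_zero (h : WithConv (A →ₐ[k] Polynomial k)) :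
    pull h.ofConv (linePt 0) = DynLib.push (DynLib.ev0 k k) h := rfl

theorem exists_fam_iff_limExists (g : Pt k A) : (∃ p, Fam lam g p) ↔ Dyn.LimExists k A lam k g.ofConv := by
  constructor
  · rintro ⟨p, φ, hφ, -⟩
    exact (RootSubgrp.limExists_of_family lam g φ hφ).1
  · intro h
    obtain ⟨h', hh⟩ := (DynLib.limExists_iff lam g.ofConv).1 h
    rw [toConv_ofConv] at hh
    refine ⟨_, h'.ofConv, fun z => ?_, rfl⟩
    rw [pull_toL, toConv_ofConv, hh, ev_orbit_eq]

theorem fam_one_iff_limIsOne (g : Pt k A) : Fam lam g 1 ↔ Dyn.LimIsOne k A lam k g.ofConv := by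
  constructor
  · rintro ⟨φ, hφ, h0⟩
    exact (RootSubgrp.limExists_of_family lam g φ hφ).2 h0
  · intro h
    obtain ⟨h', hh, h0⟩ := (DynLib.limIsOne_iff lam g.ofConv).1 h
    rw [toConv_ofConv] at hh
    refine ⟨h'.ofConv, fun z => ?_, h0⟩
    rw [pull_toL, toConv_ofConv, hh, ev_orbit_eq]

section Entries

variable {σ : Type*} {e : σ → A} {g : Pt k A} {d : σ → ℤ}

/-- The orbit on an eigenfunction. -/
lemma orbit_eigen {a : A} {m : ℤ}
    (h : ∀ z : kˣ, (DynLib.lamAt lam z * g * DynLib.lamAt lam z⁻¹).ofConv a = ((z ^ m : kˣ) : k) * g.ofConv a) :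
    (DynLib.orbit k lam g).ofConv a = LaurentPolynomial.C (g.ofConv a) * LaurentPolynomial.T m := by
  refine sub_eq_zero.1 (eq_zero_of_forall (k := k) fun x => ?_)
  obtain ⟨z, rfl⟩ := exists_gp x
  rw [map_sub, sub_eq_zero]
  show DynLib.ev (Algebra.ofId k k) z ((DynLib.orbit k lam g).ofConv a) = DynLib.ev (Algebra.ofId k k) z _
  rw [map_mul, DynLib.ev_T, show ∀ c : k, (LaurentPolynomial.C c : k[T;T⁻¹]) = algebraMap k _ c from fun _ => rfl, AlgHom.commutes]
  exact (congrArg (fun q : Pt k A => q.ofConv a) (ev_orbit_eq lam g z)).trans ((h z).trans (mul_comm _ _))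

/-- A limit from non-negative exponents. -/
theorem exists_fam (he : Algebra.adjoin k (Set.range e) = ⊤)
    (hd : ∀ s, ∀ z : kˣ, (DynLib.lamAt lam z * g * DynLib.lamAt lam z⁻¹).ofConv (e s) = ((z ^ d s : kˣ) : k) * g.ofConv (e s))
    (hpos : ∀ s, g.ofConv (e s) ≠ 0 → 0 ≤ d s) :
    ∃ p, Fam lam g p ∧ ∀ s, p.ofConv (e s) = if d s = 0 then g.ofConv (e s) else 0 := by
  let ψ := (DynLib.orbit k lam g).ofConv
  have hrange : ∀ a, ψ a ∈ (DynLib.toL k k).range := fun a => by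
    have hm : a ∈ (DynLib.toL k k).range.comap ψ := by
      have ha : a ∈ Algebra.adjoin k (Set.range e) := he ▸ trivial
      refine Algebra.adjoin_le ?_ ha
      rintro _ ⟨s, rfl⟩
      show ψ (e s) ∈ (DynLib.toL k k).range
      rw [show ψ (e s) = _ from orbit_eigen (hd s)]
      rcases eq_or_ne (g.ofConv (e s)) 0 with h0 | h0
      · rw [h0, map_zero, zero_mul]; exact Subalgebra.zero_mem _
      · refine ⟨Polynomial.C (g.ofConv (e s)) * Polynomial.X ^ (d s).toNat, ?_⟩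
        show Polynomial.toLaurent _ = _
        rw [map_mul, Polynomial.toLaurent_C, Polynomial.toLaurent_X_pow, Int.toNat_of_nonneg (hpos s h0)]
    exact hm
  let φ : A →ₐ[k] Polynomial k :=
    ((AlgEquiv.ofInjective (DynLib.toL k k) DynLib.toL_injective).symm.toAlgHom).comp (ψ.codRestrict _ hrange)
  have hφ : ∀ a, DynLib.toL k k (φ a) = ψ a := fun a =>
    congrArg Subtype.val ((AlgEquiv.ofInjective (DynLib.toL k k) DynLib.toL_injective).apply_symm_apply ⟨ψ a, hrange a⟩)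
  have hpush : DynLib.push (DynLib.toL k k) (toConv φ) = DynLib.orbit k lam g := WithConv.ext (AlgHom.ext hφ)
  refine ⟨_, ⟨φ, fun z => by rw [pull_toL, hpush, ev_orbit_eq], rfl⟩, fun s => ?_⟩
  show Polynomial.aeval (0 : k) (φ (e s)) = _
  have h2 := (hφ (e s)).trans (orbit_eigen (hd s))
  rcases eq_or_ne (g.ofConv (e s)) 0 with h0 | h0
  · rw [h0, map_zero, zero_mul] at h2
    rw [DynLib.toL_injective (h2.trans (map_zero _).symm), map_zero, h0, ite_self]
  · have h3 : φ (e s) = Polynomial.C (g.ofConv (e s)) * Polynomial.X ^ (d s).toNat := by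
      refine DynLib.toL_injective (h2.trans ?_)
      show _ = Polynomial.toLaurent _
      rw [map_mul, Polynomial.toLaurent_C, Polynomial.toLaurent_X_pow, Int.toNat_of_nonneg (hpos s h0)]
    rw [h3, map_mul, Polynomial.aeval_C, map_pow, Polynomial.aeval_X]
    have := hpos s h0
    split_ifs with hz
    · rw [hz, Int.toNat_zero, pow_zero, mul_one]; rfl
    · rw [zero_pow (by omega), mul_zero]

/-- The exponents of a point with a limit. -/
theorem Fam.exponent {p : Pt k A} (h : Fam lam g p) {a : A} {m : ℤ}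
    (hm : ∀ z : kˣ, (DynLib.lamAt lam z * g * DynLib.lamAt lam z⁻¹).ofConv a = ((z ^ m : kˣ) : k) * g.ofConv a)
    (hne : g.ofConv a ≠ 0) : 0 ≤ m ∧ p.ofConv a = if m = 0 then g.ofConv a else 0 := by
  obtain ⟨φ, hφ, rfl⟩ := h
  have hpush : DynLib.push (DynLib.toL k k) (toConv φ) = DynLib.orbit k lam g := by
    refine WithConv.ext (AlgHom.ext fun b => sub_eq_zero.1 (eq_zero_of_forall (k := k) fun x => ?_))
    obtain ⟨z, rfl⟩ := exists_gp x
    rw [map_sub, sub_eq_zero]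
    exact congrArg (fun q : Pt k A => q.ofConv b) (((pull_toL φ z).symm.trans (hφ z)).trans (ev_orbit_eq lam g z).symm)
  have h1 : Polynomial.toLaurent (φ a) = LaurentPolynomial.C (g.ofConv a) * LaurentPolynomial.T m :=
    (congrArg (fun q => q.ofConv a) hpush).trans (orbit_eigen hm)
  have hm0 : 0 ≤ m := by
    by_contra hlt
    push Not at hlt
    have h2 := DynLib.toLaurent_coeff_neg (φ a) hlt
    rw [h1, ← single_eq_C_mul_T, AddMonoidAlgebra.coeff_single, Finsupp.single_apply, if_pos rfl] at h2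
    exact hne h2
  refine ⟨hm0, ?_⟩
  show Polynomial.aeval (0 : k) (φ a) = _
  rw [show φ a = Polynomial.C (g.ofConv a) * Polynomial.X ^ m.toNat from Polynomial.toLaurent_injective (by
    rw [h1, map_mul, Polynomial.toLaurent_C, Polynomial.toLaurent_X_pow, Int.toNat_of_nonneg hm0]),
    map_mul, Polynomial.aeval_C, map_pow, Polynomial.aeval_X]
  split_ifs with hz
  · rw [hz, Int.toNat_zero, pow_zero, mul_one]; rfl
  · rw [zero_pow (by omega), mul_zero]

end Entries

section Uni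

lemma charpoly_conj_end {W : Type u} [AddCommGroup W] [Module k W] {n : ℕ} (b : Module.Basis (Fin n) k W)
    (P Q N : Module.End k W) (h : P * Q = 1) (h' : Q * P = 1) :
    (LinearMap.toMatrix b b (P * N * Q)).charpoly = (LinearMap.toMatrix b b N).charpoly := by
  let L : (Matrix (Fin n) (Fin n) k)ˣ := Units.map (LinearMap.toMatrixAlgEquiv b : Module.End k W →* Matrix (Fin n) (Fin n) k) ⟨P, Q, h, h'⟩
  have := Matrix.charpoly_units_conj L (LinearMap.toMatrix b b N)
  rw [LinearMap.toMatrix_mul, LinearMap.toMatrix_mul]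
  have hinv : ((L⁻¹ : (Matrix (Fin n) (Fin n) k)ˣ) : Matrix (Fin n) (Fin n) k) = LinearMap.toMatrix b b Q := rfl
  rw [Matrix.coe_units_inv] at hinv
  have hval : (L : Matrix (Fin n) (Fin n) k) = LinearMap.toMatrix b b P := rfl
  rw [← hinv, ← hval]
  exact this

/-- Unipotence is kept by limits along a one-parameter subgroup. -/
theorem Fam.isUni_iff (h : Fam lam g p) : IsUni g ↔ IsUni p := by
  classical
  obtain ⟨φ, hφ, rfl⟩ := h
  suffices key : ∀ (W : Type u) [AddCommGroup W] [Module k W] [FiniteDimensional k W]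
      (r : RegRep (⊤ : Subgroup (Pt k A)) W),
      (IsNilpotent (r.ρ g - 1) ↔ IsNilpotent (r.ρ (pull φ (linePt 0)) - 1)) from
    ⟨fun hu W _ _ _ r => (key W r).1 (hu W r), fun hu W _ _ _ r => (key W r).2 (hu W r)⟩
  intro W _ _ _ r
  let b := Module.finBasis k W
  have hreg : ∀ i j, IsReg fun x => LinearMap.toMatrix b b (r.ρ x - 1) i j := fun i j => by
    obtain ⟨a, ha⟩ := r.reg (b.coord i) (b j)
    refine ⟨a - algebraMap k A (if i = j then 1 else 0), fun x => ?_⟩
    show LinearMap.toMatrix b b (r.ρ x - 1) i j = x.ofConv _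
    rw [map_sub x.ofConv, AlgHom.commutes, ← ha, LinearMap.toMatrix_apply, LinearMap.sub_apply,
      Module.End.one_apply, map_sub, Finsupp.sub_apply, b.repr_self, Finsupp.single_apply]
    simp only [Module.Basis.coord_apply, eq_comm (a := j), Algebra.algebraMap_self, RingHom.id_apply]
  choose ent hent using hreg
  let M : Matrix (Fin (Module.finrank k W)) (Fin (Module.finrank k W)) A := ent
  let P : Pt k A → Polynomial k := fun x => (LinearMap.toMatrix b b (r.ρ x - 1)).charpoly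
  have hP : ∀ j, IsReg fun x => (P x).coeff j := fun j => ⟨M.charpoly.coeff j, fun x => by
    show (P x).coeff j = x.ofConv.toRingHom _
    rw [← Polynomial.coeff_map, ← Matrix.charpoly_map]
    refine congrArg (fun q : Matrix _ _ k => q.charpoly.coeff j) ?_
    ext i i'
    exact hent i i' x⟩
  have hconj : ∀ (l x : Pt k A), P (l * x * l⁻¹) = P x := fun l x => by
    have e : r.ρ (l * x * l⁻¹) - 1 = r.ρ l * (r.ρ x - 1) * r.ρ l⁻¹ := by
      rw [r.map_mul _ trivial _ trivial, r.map_mul l trivial x trivial, mul_sub, sub_mul, mul_one,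
        ← r.map_mul l trivial l⁻¹ trivial, mul_inv_cancel, r.map_one]
    show (LinearMap.toMatrix b b _).charpoly = _
    rw [e]
    exact charpoly_conj_end b (r.ρ l) (r.ρ l⁻¹) _ (by rw [← r.map_mul l trivial l⁻¹ trivial, mul_inv_cancel, r.map_one])
      (by rw [← r.map_mul l⁻¹ trivial l trivial, inv_mul_cancel, r.map_one])
  have heq : P (pull φ (linePt 0)) = P g := Polynomial.ext fun j => by
    refine eq_of_units ((hP j).comp (IsMor.pull φ)) (c := (P g).coeff j) (fun z => ?_) (linePt 0)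
    show (P (pull φ (linePt (z : k)))).coeff j = _
    rw [hφ, DynLib.lamAt_inv, hconj]
  have hnil : ∀ x : Pt k A, IsNilpotent (r.ρ x - 1) ↔ P x = Polynomial.X ^ Module.finrank k W := fun x => by
    constructor
    · intro hx
      have h := Matrix.isNilpotent_charpoly_sub_pow_of_isNilpotent (hx.map (LinearMap.toMatrixAlgEquiv b))
      rw [Fintype.card_fin] at h
      exact sub_eq_zero.1 h.eq_zero
    · intro hx
      refine ⟨Module.finrank k W, (LinearMap.toMatrixAlgEquiv b).injective ?_⟩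
      rw [map_pow, map_zero]
      have h := Matrix.aeval_self_charpoly (LinearMap.toMatrix b b (r.ρ x - 1))
      rw [show (LinearMap.toMatrix b b (r.ρ x - 1)).charpoly = _ from hx, map_pow, Polynomial.aeval_X] at h
      exact h
  rw [hnil, hnil, heq]

end Uni

end Groth.Agent.ObsLib

end
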