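import Groth.Agent.ObsLib.Bridge
import Groth.Agent.ObsLib.Reps
import Groth.Agent.S6094
import Groth.Prelude.Def_W4bk4grossh1223Act

/-!
# Rational modules and regular representations of the points
-/

set_option autoImplicit false
set_option linter.style.haveILetI false
set_option linter.unusedSectionVars false
set_option backward.isDefEq.respectTransparency false
set_option backward.isDefEq.respectTransparency.types false
set_option maxHeartbeats 1000000
set_option synthInstance.maxHeartbeats 400000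

noncomputable section

universe u

open CategoryTheory MonoidalCategory CartesianMonoidalCategory AlgebraicGeometry WithConv
open scoped MonObj TensorProduct
open CoactBr (sp pt)

namespace Groth.Agent.ObsLib

open BorelLib BlowRegLib

attribute [-instance] CategoryTheory.Hom.commGroup
attribute [local instance] pTop pTopTensor

variable {k : Type u} [Field k] [IsAlgClosed k] {A : Type u} [CommRing A] [HopfAlgebra k A] [Algebra.FiniteType k A]
  [_root_.IsReduced A]
  {G : Over (Spec (CommRingCat.of k))} [GrpObj G] (v : sp k A ≅ G) [IsMonHom v.hom]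
  {V : Type u} [AddCommGroup V] [Module k V]

omit [IsAlgClosed k] in
lemma lid_Wmap (x : Pt k A) (z : A ⊗[k] V) :
    TensorProduct.lid k V (VecGrp.Wmap x.ofConv z) = TensorProduct.lid k V (x.ofConv.toLinearMap.rTensor V z) := rfl

/-- Tensors over a reduced algebra are determined at points. -/
lemma tens_ext {B : Type u} [CommRing B] [Algebra k B] [_root_.IsReduced B] [Algebra.FiniteType k B]
    {z z' : B ⊗[k] V} (h : ∀ y : Pt k B, VecGrp.Wmap y.ofConv z = VecGrp.Wmap y.ofConv z') : z = z' := by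
  let b := Module.Free.chooseBasis k V
  obtain ⟨c, hc⟩ := TensorProduct.eq_repr_basis_right b (z - z')
  rw [← sub_eq_zero, ← hc]
  have h0 : ∀ i, c i = 0 := fun i => eq_zero_of_forall (k := k) fun y => by
    have e : VecGrp.Wmap y.ofConv (z - z') = 0 := by rw [map_sub, h y, sub_self]
    rw [← hc] at e
    have := congrArg (fun t => b.repr (TensorProduct.lid k V t) i) e
    by_contra hne
    simp [Finsupp.sum, map_sum, Finsupp.single_apply] at this
    exact hne (this (fun h0 => hne (by rw [h0, map_zero])))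
  simp [Finsupp.sum, h0]

lemma Wmap_comp {B C D : Type u} [CommRing B] [Algebra k B] [CommRing C] [Algebra k C] [CommRing D] [Algebra k D]
    (f : B →ₐ[k] C) (g : C →ₐ[k] D) (z : B ⊗[k] V) :
    VecGrp.Wmap g (VecGrp.Wmap f z) = VecGrp.Wmap (g.comp f) z := by
  induction z using TensorProduct.induction_on with
  | zero => simp
  | add a c ha hc => simp only [map_add, ha, hc]
  | tmul a c => simp

/-- The universal value of a module structure. -/
def uval (m : VecGrp.GMod G V) : V →ₗ[k] A ⊗[k] V :=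
  (m.ρ A (gpt v (AlgHom.id k A))).toLinearMap.restrictScalars k ∘ₗ TensorProduct.mk k A V 1

lemma rho_gpt (m : VecGrp.GMod G V) {C : Type u} [CommRing C] [Algebra k C] (φ : A →ₐ[k] C) (u : V) :
    m.ρ C (gpt v φ) ((1 : C) ⊗ₜ[k] u) = VecGrp.Wmap φ (uval v m u) := by
  refine Eq.trans ?_ (m.naturality φ (gpt v (AlgHom.id k A)) ((1 : A) ⊗ₜ[k] u)).symm
  rw [VecGrp.Wmap_tmul, map_one, ptMap_gpt, AlgHom.comp_id]

/-- The representation of the points on a module. -/
def toRep (m : VecGrp.GMod G V) : RegRep (⊤ : Subgroup (Pt k A)) V where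
  ρ x := (TensorProduct.lid k V).toLinearMap ∘ₗ x.ofConv.toLinearMap.rTensor V ∘ₗ uval v m
  map_one := LinearMap.ext fun u => by
    have h := rho_gpt v m (1 : Pt k A).ofConv u
    rw [show gpt v (1 : Pt k A).ofConv = 1 from ptk_one v, show m.ρ k (1 : VecGrp.pt k k ⟶ G) = 1 from map_one _] at h
    show TensorProduct.lid k V (VecGrp.Wmap (1 : Pt k A).ofConv (uval v m u)) = u
    rw [← h]
    exact one_smul k u
  map_mul g _ g' _ := LinearMap.ext fun u => by
    have h := rho_gpt v m (g * g').ofConv u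
    rw [show gpt v (g * g').ofConv = ptk v g * ptk v g' from ptk_mul v g g',
      show m.ρ k (ptk v g * ptk v g') = _ from map_mul _ _ _, LinearEquiv.mul_apply] at h
    rw [show ptk v g' = gpt v g'.ofConv from rfl, rho_gpt] at h
    have e : VecGrp.Wmap g'.ofConv (uval v m u) =
        (1 : k) ⊗ₜ[k] TensorProduct.lid k V (VecGrp.Wmap g'.ofConv (uval v m u)) :=
      (TensorProduct.lid k V).symm_apply_apply _ |>.symm
    rw [e, ptk, rho_gpt] at h
    show TensorProduct.lid k V (VecGrp.Wmap (g * g').ofConv (uval v m u)) =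
      TensorProduct.lid k V (VecGrp.Wmap g.ofConv (uval v m (TensorProduct.lid k V (VecGrp.Wmap g'.ofConv (uval v m u)))))
    rw [h]
  reg φ u := ⟨TensorProduct.rid k A (φ.lTensor A (uval v m u)), fun x => by
    show φ (TensorProduct.lid k V (x.ofConv.toLinearMap.rTensor V (uval v m u))) = _
    generalize uval v m u = z
    induction z using TensorProduct.induction_on with
    | zero => simp
    | add a c ha hc => simp only [map_add, ha, hc]
    | tmul a c => simp [mul_comm]⟩

lemma rho_ptk (m : VecGrp.GMod G V) (x : Pt k A) (u : V) :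
    m.ρ k (ptk v x) ((1 : k) ⊗ₜ[k] u) = (1 : k) ⊗ₜ[k] (toRep v m).ρ x u := by
  rw [ptk, rho_gpt]
  exact ((TensorProduct.lid k V).symm_apply_apply _).symm

lemma rho_fix_iff (m : VecGrp.GMod G V) (x : Pt k A) (u : V) :
    m.ρ k (ptk v x) ((1 : k) ⊗ₜ[k] u) = (1 : k) ⊗ₜ[k] u ↔ (toRep v m).ρ x u = u := by
  rw [rho_ptk]
  exact ⟨fun h => (TensorProduct.lid k V).symm.injective h, fun h => by rw [h]⟩

/-- The module of a representation of the points. -/
theorem exists_gmod [FiniteDimensional k V] (r : RegRep (⊤ : Subgroup (Pt k A)) V) :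
    ∃ m : VecGrp.GMod G V, ∀ x u, (toRep v m).ρ x u = r.ρ x u := by
  classical
  let b := Module.finBasis k V
  choose a ha using fun (i j : Fin (Module.finrank k V)) => r.reg (b.coord i) (b j)
  simp only at ha
  let δ : V →ₗ[k] V ⊗[k] A := b.constr k fun j => ∑ i, b i ⊗ₜ[k] a i j
  have hδ : ∀ j, δ (b j) = ∑ i, b i ⊗ₜ[k] a i j := fun j => b.constr_basis k _ j
  have hco : Groth.Agent.S6094.IsCoaction δ := by
    refine ⟨b.ext fun j => ?_, b.ext fun j => ?_⟩
    · have hcomul : ∀ i, CoalgebraStruct.comul (R := k) (a i j) = ∑ l, a i l ⊗ₜ[k] a l j := fun i => by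
        rw [← sub_eq_zero]
        refine eq_zero_of_forall_pair fun x y => ?_
        rw [map_sub, sub_eq_zero, ← mul_ofConv, map_sum, ← ha, r.mul_apply trivial trivial]
        conv_lhs => rw [← b.sum_repr (r.ρ y (b j))]
        simp only [map_sum, map_smul, smul_eq_mul, pair_tmul, ← ha, Module.Basis.coord_apply]
        exact Finset.sum_congr rfl fun l _ => mul_comm _ _
      simp only [LinearMap.coe_comp, Function.comp_apply, hδ, map_sum, LinearMap.rTensor_tmul, LinearMap.lTensor_tmul,
        hcomul, TensorProduct.sum_tmul, TensorProduct.tmul_sum, LinearEquiv.coe_coe, TensorProduct.assoc_tmul]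
      exact Finset.sum_comm
    · simp only [LinearMap.coe_comp, Function.comp_apply, hδ, map_sum, LinearMap.lTensor_tmul,
        LinearMap.flip_apply, TensorProduct.mk_apply]
      have h1 : ∀ i, CoalgebraStruct.counit (R := k) (a i j) = (Finsupp.single j (1 : k)) i := fun i => by
        have := ha i j 1
        rw [r.map_one, Module.End.one_apply, Module.Basis.coord_apply, b.repr_self] at this
        rw [this, AlgHom.convOne_apply]
        rfl
      simp only [h1]
      rw [Finset.sum_eq_single j (fun i _ hij => by rw [Finsupp.single_eq_of_ne hij, TensorProduct.tmul_zero])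
        (fun h => absurd (Finset.mem_univ j) h), Finsupp.single_eq_same]
  let m₀ := Groth.Agent.S6094.toGMod hco
  let m : VecGrp.GMod G V :=
    { ρ := fun C _ _ => (m₀.ρ C).comp
        (MonoidHom.mk' (fun g : VecGrp.pt k C ⟶ G => g ≫ v.inv) fun g g' => MonObj.mul_comp g g' v.inv)
      naturality := fun φ g x => by
        show VecGrp.Wmap φ (m₀.ρ _ (g ≫ v.inv) x) = m₀.ρ _ ((VecGrp.ptMap φ ≫ g) ≫ v.inv) _
        rw [Category.assoc]
        exact m₀.naturality φ _ x }
  refine ⟨m, fun x u => (TensorProduct.lid k V).symm.injective ?_⟩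
  show (1 : k) ⊗ₜ[k] (toRep v m).ρ x u = (1 : k) ⊗ₜ[k] r.ρ x u
  rw [← rho_ptk]
  show Groth.Agent.S6094.act δ (Groth.Agent.S6094.algOf (ptk v x ≫ v.inv)).ofConv ((1 : k) ⊗ₜ[k] u) = _
  have he : ptk v x ≫ v.inv = Groth.Agent.S6094.ptOf x := by
    show (pt x.ofConv ≫ v.hom) ≫ v.inv = _
    rw [Category.assoc, v.hom_inv_id, Category.comp_id]
    rfl
  rw [he, Groth.Agent.S6094.algOf_ptOf, Groth.Agent.S6094.act_tmul, one_smul]
  have key : Groth.Agent.S6094.evalAt x.ofConv ∘ₗ δ = TensorProduct.mk k k V 1 ∘ₗ r.ρ x := b.ext fun j => by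
    simp only [LinearMap.coe_comp, Function.comp_apply, hδ, map_sum, Groth.Agent.S6094.evalAt_tmul,
      TensorProduct.mk_apply]
    conv_rhs => rw [← b.sum_repr (r.ρ x (b j))]
    rw [TensorProduct.tmul_sum]
    refine Finset.sum_congr rfl fun i _ => ?_
    rw [← Module.Basis.coord_apply, ha i j x, ← TensorProduct.smul_tmul, smul_eq_mul, mul_one]
  exact LinearMap.congr_fun key u

section Sub

attribute [local instance] algTop

variable {B : Type u} [CommRing B] [HopfAlgebra k B] [Algebra.FiniteType k B] [_root_.IsReduced B]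
  {H : Over (Spec (CommRingCat.of k))} [GrpObj H] (w : sp k B ≅ H) [IsMonHom w.hom]
  {i : H ⟶ G} [IsMonHom i] {π : A →ₐ[k] B} (hπ : w.hom ≫ i = gpt v π)
include hπ

/-- Weight vectors over all test algebras. -/
theorem weight_iff [IsAffine H.left] (m : VecGrp.GMod G V) (u : V) (χ : H ⟶ Red.Gm (Spec (CommRingCat.of k))) :
    (∀ (C : Type u) [CommRing C] [Algebra k C] (h : VecGrp.pt k C ⟶ H),
      m.ρ C (h ≫ i) ((1 : C) ⊗ₜ[k] u) = VecGrp.chiVal χ h • ((1 : C) ⊗ₜ[k] u)) ↔
    ∀ y : Pt k B, (toRep v m).ρ (pull π y) u = y.ofConv (ev w (Red.gmFn χ)) • u := by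
  have hchi : ∀ {C : Type u} [CommRing C] [Algebra k C] (h : VecGrp.pt k C ⟶ H),
      VecGrp.chiVal χ h = evalPt h (Red.gmFn χ) := fun {C} _ _ h => by
    rw [VecGrp.chiVal, GmPts.gmFn_comp]
    rfl
  constructor
  · intro h y
    have h' := h k (ptk w y)
    rw [ptk_comp v w hπ, rho_ptk, hchi, evalPt_ptk, ← TensorProduct.tmul_smul] at h'
    exact (TensorProduct.lid k V).symm.injective h'
  · intro h C _ _ g
    obtain ⟨ψ, rfl⟩ := exists_gpt w g
    rw [gpt_comp v w hπ, rho_gpt, hchi, evalPt_gpt]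
    have key : VecGrp.Wmap π (uval v m u) = ev w (Red.gmFn χ) ⊗ₜ[k] u := by
      refine tens_ext fun y => ?_
      have h1 : VecGrp.Wmap y.ofConv (VecGrp.Wmap π (uval v m u)) = VecGrp.Wmap (pull π y).ofConv (uval v m u) :=
        Wmap_comp π y.ofConv _
      rw [h1, ← rho_gpt]
      show m.ρ k (ptk v (pull π y)) _ = _
      rw [rho_ptk, h y, VecGrp.Wmap_tmul, ← TensorProduct.smul_tmul, smul_eq_mul, mul_one]
    have h2 : VecGrp.Wmap (ψ.comp π) (uval v m u) = VecGrp.Wmap ψ (VecGrp.Wmap π (uval v m u)) :=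
      (Wmap_comp π ψ _).symm
    rw [h2, key, VecGrp.Wmap_tmul, TensorProduct.smul_tmul', smul_eq_mul, mul_one]

/-- A module over a subgroup as a regular representation of its points. -/
theorem exists_subRep (hsur : Function.Surjective π) (σ : VecGrp.GMod H V) :
    ∃ r : RegRep (ptsSub v i) V, ∀ y : Pt k B, ∀ u, r.ρ (pull π y) u = (toRep w σ).ρ y u := by
  obtain ⟨s, hs⟩ := π.toLinearMap.exists_rightInverse_of_surjective (LinearMap.range_eq_top.2 hsur)
  have hp : ∀ y : Pt k B, (pull π y).ofConv.toLinearMap ∘ₗ s = y.ofConv.toLinearMap := fun y =>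
    LinearMap.ext fun c => congrArg y.ofConv (LinearMap.congr_fun hs c)
  let ρ : Pt k A → Module.End k V := fun x =>
    (TensorProduct.lid k V).toLinearMap ∘ₗ (x.ofConv.toLinearMap ∘ₗ s).rTensor V ∘ₗ uval w σ
  have hρ : ∀ y, ρ (pull π y) = (toRep w σ).ρ y := fun y => by
    show _ ∘ₗ ((pull π y).ofConv.toLinearMap ∘ₗ s).rTensor V ∘ₗ _ = _
    rw [hp]
    rfl
  have h1 : pull π (1 : Pt k B) = 1 := by
    obtain ⟨y, hy⟩ := (mem_sub_iff v w hπ).1 (ptsSub v i).one_mem
    refine ptk_injective v ?_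
    rw [← ptk_comp v w hπ, ptk_one, MonObj.one_comp, ptk_one]
  have hmul : ∀ y y', pull π (y * y') = pull π y * pull π y' := fun y y' => by
    refine ptk_injective v ?_
    rw [← ptk_comp v w hπ, ptk_mul, MonObj.mul_comp, ptk_mul, ← ptk_comp v w hπ, ← ptk_comp v w hπ]
  refine ⟨{
    ρ := ρ
    map_one := by rw [← h1, hρ, (toRep w σ).map_one]
    map_mul := fun g hg g' hg' => by
      obtain ⟨y, rfl⟩ := (mem_sub_iff v w hπ).1 hg
      obtain ⟨y', rfl⟩ := (mem_sub_iff v w hπ).1 hg'
      rw [← hmul, hρ, hρ, hρ, (toRep w σ).map_mul y trivial y' trivial]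
    reg := fun φ u => ⟨s (TensorProduct.rid k B (φ.lTensor B (uval w σ u))), fun x => by
      show φ (TensorProduct.lid k V ((x.ofConv.toLinearMap ∘ₗ s).rTensor V (uval w σ u))) = _
      generalize uval w σ u = z
      induction z using TensorProduct.induction_on with
      | zero => simp
      | add a c ha hc => simp only [map_add, ha, hc]
      | tmul a c => simp [mul_comm]⟩ }, fun y u => LinearMap.congr_fun (hρ y) u⟩

/-- Equivariance over all test algebras. -/
theorem extends_iff {U : Type u} [AddCommGroup U] [Module k U] (σ : VecGrp.GMod H V) (m : VecGrp.GMod G U)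
    (φ : V →ₗ[k] U) :
    (∀ (C : Type u) [CommRing C] [Algebra k C] (h : VecGrp.pt k C ⟶ H) (x : C ⊗[k] V),
      φ.baseChange C (σ.ρ C h x) = m.ρ C (h ≫ i) (φ.baseChange C x)) ↔
    ∀ (y : Pt k B) (u : V), φ ((toRep w σ).ρ y u) = (toRep v m).ρ (pull π y) (φ u) := by
  constructor
  · intro h y u
    have h' := h k (ptk w y) ((1 : k) ⊗ₜ[k] u)
    rw [rho_ptk, ptk_comp v w hπ, LinearMap.baseChange_tmul, LinearMap.baseChange_tmul, rho_ptk] at h'
    exact (TensorProduct.lid k U).symm.injective h'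
  · intro h C _ _ g x
    obtain ⟨ψ, rfl⟩ := exists_gpt w g
    rw [gpt_comp v w hπ]
    induction x using TensorProduct.induction_on with
    | zero => simp
    | add a c ha hc => simp only [map_add, ha, hc]
    | tmul c u =>
      rw [show c ⊗ₜ[k] u = c • ((1 : C) ⊗ₜ[k] u) by rw [TensorProduct.smul_tmul', smul_eq_mul, mul_one], map_smul,
        map_smul, map_smul, map_smul, rho_gpt, LinearMap.baseChange_tmul, rho_gpt]
      congr 1
      have hnat : ∀ {D : Type u} [CommRing D] [Algebra k D] (χ : B →ₐ[k] D) (z : B ⊗[k] V),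
          φ.baseChange D (VecGrp.Wmap χ z) = VecGrp.Wmap χ (φ.baseChange B z) := fun {D} _ _ χ z => by
        induction z using TensorProduct.induction_on with
        | zero => simp
        | add a c ha hc => simp only [map_add, ha, hc]
        | tmul a c => simp
      have key : φ.baseChange B (uval w σ u) = VecGrp.Wmap π (uval v m (φ u)) := by
        refine tens_ext fun y => ?_
        have h1 : VecGrp.Wmap y.ofConv (VecGrp.Wmap π (uval v m (φ u))) =
            VecGrp.Wmap (pull π y).ofConv (uval v m (φ u)) := Wmap_comp π y.ofConv _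
        rw [h1, ← hnat, ← rho_gpt, ← rho_gpt]
        show φ.baseChange k (σ.ρ k (ptk w y) _) = m.ρ k (ptk v (pull π y)) _
        rw [rho_ptk, rho_ptk, LinearMap.baseChange_tmul, h y u]
      rw [hnat, key, Wmap_comp]

omit hπ in
/-- The values of a character. -/
theorem chi_values [IsAffine H.left] (χ : H ⟶ Red.Gm (Spec (CommRingCat.of k))) [IsMonHom χ] :
    (∀ y : Pt k B, y.ofConv (ev w (Red.gmFn χ⁻¹)) = (y.ofConv (ev w (Red.gmFn χ)))⁻¹) ∧
      (χ = 1 → ∀ y : Pt k B, y.ofConv (ev w (Red.gmFn χ)) = 1) := by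
  refine ⟨fun y => eq_inv_of_mul_eq_one_left ?_, fun h y => ?_⟩
  · rw [← map_mul, ← map_mul, GmPts.gmFn_inv, map_one, map_one]
  · subst h
    rw [GmPts.gmFn_one, map_one, map_one]

/-- The character of a semi-invariant. -/
theorem exists_char [IsAffine G.left] [IsAffine H.left] {a : A} {χ : Pt k A → k}
    (ha : SemiInv (ptsSub v i) χ a) (h1 : (1 : Pt k A).ofConv a ≠ 0) :
    ∃ c : H ⟶ Red.Gm (Spec (CommRingCat.of k)), IsMonHom c ∧
      ∀ y : Pt k B, y.ofConv (ev w (Red.gmFn c)) = χ (pull π y) := by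
  let u : B := π a * algebraMap k B ((1 : Pt k A).ofConv a)⁻¹
  have hu : ∀ y : Pt k B, y.ofConv u = χ (pull π y) := fun y => by
    rw [ha.char_eq h1 (pull_mem v w hπ y), div_eq_mul_inv]
    simp [u]
  have hmul : ∀ y y' : Pt k B, pull π (y * y') = pull π y * pull π y' := fun y y' => by
    refine ptk_injective v ?_
    rw [← ptk_comp v w hπ, ptk_mul, MonObj.mul_comp, ptk_mul, ← ptk_comp v w hπ, ← ptk_comp v w hπ]
  have huu : IsUnit u := by
    refine IsUnit.of_mul_eq_one (HopfAlgebra.antipodeAlgHom k B u) (ext_pts (k := k) fun y => ?_)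
    rw [map_mul, map_one]
    show y.ofConv u * (y⁻¹).ofConv u = 1
    rw [hu, hu, ← ha.char_mul h1 (pull_mem v w hπ _) (pull_mem v w hπ _), ← hmul, mul_inv_cancel,
      show pull π (1 : Pt k B) = 1 from ptk_injective v (by rw [← ptk_comp v w hπ, ptk_one, MonObj.one_comp, ptk_one])]
    exact ha.char_one h1
  obtain ⟨f, hf⟩ := (ev_bijective w).2 u
  have hfu : IsUnit f := by
    obtain ⟨u', hu'⟩ := huu.exists_right_inv
    obtain ⟨f', hf'⟩ := (ev_bijective w).2 u'
    exact IsUnit.of_mul_eq_one f' ((ev_bijective w).1 (by rw [map_mul, hf, hf', hu', map_one]))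
  let c : H ⟶ Red.Gm (Spec (CommRingCat.of k)) := GmPts.ptOfUnit hfu.unit
  have hc : Red.gmFn c = f := GmPts.gmFn_ptOfUnit _
  refine ⟨c, ?_, fun y => by rw [hc, hf, hu]⟩
  have hval : ∀ y, y.ofConv (ev w f) = χ (pull π y) := fun y => by rw [hf, hu]
  refine ⟨?_, ?_⟩
  · show η[H] ≫ c = η[Red.Gm (Spec (CommRingCat.of k))]
    conv_rhs => rw [MonObj.one_eq_one]
    apply GmPts.gmFn_injective
    show Red.gmFn _ = Red.gmFn _
    rw [GmPts.gmFn_comp, GmPts.gmFn_one, hc]
    let e : VecGrp.pt k k ⟶ 𝟙_ (Over (Spec (CommRingCat.of k))) := toUnit _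
    haveI : IsIso e := ⟨(Groth.Agent.HopfPoints.exists_unit_hom (k := k)).some,
      (eq_ptMap_ofId (B := k) (_ : VecGrp.pt k k ⟶ VecGrp.pt k k)).trans (eq_ptMap_ofId (B := k) (𝟙 _)).symm,
      toUnit_unique _ _⟩
    haveI : IsIso e.left.appTop := inferInstanceAs (IsIso (e.left.app ⊤))
    refine (ConcreteCategory.bijective_of_isIso e.left.appTop).1 ?_
    refine (Scheme.ΓSpecIso (CommRingCat.of k)).commRingCatIsoToRingEquiv.injective ?_
    show evalPt (e ≫ η[H]) f = evalPt e 1
    rw [map_one, show e ≫ η[H] = ptk w 1 from (Hom.one_def).symm.trans (ptk_one w).symm, evalPt_ptk, hval,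
      show pull π (1 : Pt k B) = 1 from ptk_injective v (by rw [← ptk_comp v w hπ, ptk_one, MonObj.one_comp, ptk_one])]
    exact ha.char_one h1
  · rw [← lift_fst_comp_snd_comp, ← Hom.mul_def]
    apply GmPts.gmFn_injective
    show Red.gmFn _ = Red.gmFn _
    rw [GmPts.gmFn_mul, GmPts.gmFn_comp, GmPts.gmFn_comp, GmPts.gmFn_comp, hc]
    refine eq_of_pairs w w fun x y => ?_
    rw [map_mul, evalPt_appTop, evalPt_appTop, evalPt_appTop, ← Hom.mul_def, lift_fst, lift_snd, ← ptk_mul,
      evalPt_ptk, evalPt_ptk, evalPt_ptk, hval, hval, hval, hmul,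
      ha.char_mul h1 (pull_mem v w hπ _) (pull_mem v w hπ _)]

end Sub

end Groth.Agent.ObsLib

end
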