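import Groth.Agent.ObsLib.Height
import Groth.Agent.ObsLib.Modules

/-!
# The height filtration of a rational representation
-/

set_option autoImplicit false
set_option linter.style.haveILetI false
set_option linter.unusedSectionVars false
set_option backward.isDefEq.respectTransparency false
set_option maxHeartbeats 2000000
set_option synthInstance.maxHeartbeats 400000

noncomputable section

universe u

open WithConv LaurentPolynomial
open scoped TensorProduct

namespace Groth.Agent.ObsLib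

open BorelLib

attribute [local instance] pTop pTopTensor

variable {k : Type u} [Field k] [IsAlgClosed k] {A : Type u} [CommRing A] [HopfAlgebra k A] [Algebra.FiniteType k A]
variable {V : Type u} [AddCommGroup V] [Module k V]

/-- Evaluation of a tensor at a point. -/
def evV (x : Pt k A) : A ⊗[k] V →ₗ[k] V :=
  (TensorProduct.lid k V).toLinearMap ∘ₗ x.ofConv.toLinearMap.rTensor V

@[simp] lemma evV_tmul (x : Pt k A) (a : A) (w : V) : evV x (a ⊗ₜ w) = x.ofConv a • w := by
  simp [evV]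

lemma evV_ext [_root_.IsReduced A] {z z' : A ⊗[k] V} (h : ∀ x : Pt k A, evV x z = evV x z') : z = z' :=
  tens_ext fun y => (TensorProduct.lid k V).injective (h y)

/-- Every orbit lies in a stable subspace of finite dimension. -/
def LocFin (r : RegRep (⊤ : Subgroup (Pt k A)) V) : Prop :=
  ∀ a : V, ∃ W : Submodule k V, FiniteDimensional k W ∧ a ∈ W ∧ r.Stable ⊤ W

section Weights

variable (r : RegRep (⊤ : Subgroup (Pt k A)) V) (lam : A →ₐc[k] k[T;T⁻¹])

/-- A weight vector of a one-parameter subgroup. -/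
def IsWtV (n : ℤ) (w : V) : Prop :=
  ∀ z : kˣ, r.ρ (DynLib.lamAt lam z) w = ((z ^ n : kˣ) : k) • w

/-- A vector as a combination of weights. -/
def IsDec (a : V) (c : ℤ →₀ V) : Prop :=
  ∀ z : kˣ, r.ρ (DynLib.lamAt lam z) a = c.sum fun n w => ((z ^ n : kˣ) : k) • w

lemma eq_zero_of_laurent {c : ℤ →₀ k} (h : ∀ z : kˣ, (c.sum fun n x => ((z ^ n : kˣ) : k) * x) = 0) : c = 0 := by
  classical
  let p : k[T;T⁻¹] := ∑ n ∈ c.support, LaurentPolynomial.C (c n) * LaurentPolynomial.T n
  have hp : p = 0 := eq_zero_of_forall (k := k) fun x => by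
    obtain ⟨z, rfl⟩ := exists_gp x
    rw [map_sum, ← h z, Finsupp.sum]
    refine Finset.sum_congr rfl fun n _ => ?_
    rw [map_mul]
    show DynLib.ev (Algebra.ofId k k) z (LaurentPolynomial.C (c n)) * DynLib.ev (Algebra.ofId k k) z (LaurentPolynomial.T n) = _
    rw [DynLib.ev_T, show (LaurentPolynomial.C (c n) : k[T;T⁻¹]) = algebraMap k _ (c n) from rfl, AlgHom.commutes]
    exact mul_comm _ _
  ext m
  by_cases hm : m ∈ c.support
  · have h1 : p.coeff m = 0 := by rw [hp]; rfl
    simp only [p, ← single_eq_C_mul_T, AddMonoidAlgebra.coeff_sum, Finsupp.finset_sum_apply,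
      AddMonoidAlgebra.coeff_single, Finsupp.single_apply, Finset.sum_ite_eq', hm, if_true] at h1
    exact h1
  · exact Finsupp.notMem_support_iff.1 hm

lemma IsDec.unique {a : V} {c d : ℤ →₀ V} (hc : IsDec r lam a c) (hd : IsDec r lam a d) : c = d := by
  classical
  ext n
  by_contra hne
  obtain ⟨φ, hφ⟩ : ∃ φ : V →ₗ[k] k, φ (c n - d n) ≠ 0 := by
    by_contra! h
    exact hne (sub_eq_zero.1 ((Module.forall_dual_apply_eq_zero_iff k _).1 h))
  refine hφ ?_
  have := eq_zero_of_laurent (k := k) (c := (c - d).mapRange φ (map_zero φ)) fun z => by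
    rw [Finsupp.sum_mapRange_index (fun _ => mul_zero _)]
    have h := congrArg φ ((hc z).symm.trans (hd z))
    rw [map_finsuppSum, map_finsuppSum] at h
    simp only [map_smul, smul_eq_mul] at h
    rw [Finsupp.sum_sub_index (fun i a b => by rw [map_sub, mul_sub]), h, sub_self]
  simpa using DFunLike.congr_fun this n

variable {r lam}

lemma isDec_of_isWtV {n : ℤ} {w : V} (h : IsWtV r lam n w) : IsDec r lam w (Finsupp.single n w) := fun z => by
  rw [Finsupp.sum_single_index (by rw [smul_zero]), h z]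

lemma IsDec.add {a b : V} {c d : ℤ →₀ V} (hc : IsDec r lam a c) (hd : IsDec r lam b d) : IsDec r lam (a + b) (c + d) :=
  fun z => by rw [map_add, hc z, hd z, Finsupp.sum_add_index' (fun _ => smul_zero _) (fun _ _ _ => smul_add _ _ _)]

lemma IsDec.smul {a : V} {c : ℤ →₀ V} (hc : IsDec r lam a c) (t : k) : IsDec r lam (t • a) (t • c) := fun z => by
  rw [map_smul, hc z, Finsupp.sum_smul_index' (fun _ => smul_zero _), Finsupp.smul_sum]
  exact Finsupp.sum_congr fun n _ => smul_comm _ _ _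

lemma IsDec.isWtV {a : V} {c : ℤ →₀ V} (hc : IsDec r lam a c) (n : ℤ) : IsWtV r lam n (c n) := by
  classical
  intro w
  have h1 : IsDec r lam (r.ρ (DynLib.lamAt lam w) a) (c.mapRange (r.ρ (DynLib.lamAt lam w)) (map_zero _)) := fun z => by
    rw [Finsupp.sum_mapRange_index (fun _ => smul_zero _), ← r.mul_apply trivial trivial, ← DynLib.lamAt_mul, mul_comm,
      DynLib.lamAt_mul, r.mul_apply trivial trivial, hc z, map_finsuppSum]
    simp only [map_smul]
  have h2 : IsDec r lam (r.ρ (DynLib.lamAt lam w) a)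
      (c.sum fun m v => Finsupp.single m (((w ^ m : kˣ) : k) • v)) := fun z => by
    rw [← r.mul_apply trivial trivial, ← DynLib.lamAt_mul, hc (z * w), Finsupp.sum_sum_index (fun _ => smul_zero _)
      (fun _ _ _ => smul_add _ _ _)]
    refine Finsupp.sum_congr fun m _ => ?_
    rw [Finsupp.sum_single_index (by rw [smul_zero]), smul_smul, mul_zpow, Units.val_mul]
  have h3 := DFunLike.congr_fun (IsDec.unique r lam h1 h2) n
  rw [Finsupp.mapRange_apply] at h3
  rw [h3, Finsupp.sum_apply]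
  simp only [Finsupp.single_apply]
  rw [Finsupp.sum_ite_eq']
  split_ifs with hn
  · rfl
  · rw [Finsupp.notMem_support_iff.1 hn, smul_zero]

end Weights

variable {B : Subgroup (Pt k A)} (D : HeightData B) (r : RegRep (⊤ : Subgroup (Pt k A)) V) (hlf : LocFin r)

/-- Weight bases of stable subspaces. -/
theorem exists_weights {W : Submodule k V} [FiniteDimensional k W] (hW : r.Stable ⊤ W) :
    ∃ (ι : Type u) (_ : Fintype ι) (b : Module.Basis ι k W) (N : ι → ℤ),
      ∀ i, IsWtV r D.lam (N i) ((b i : W) : V) := by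
  obtain ⟨r', hr'⟩ := r.exists_sub hW
  obtain ⟨ι, _, b, χ, hχ, hb⟩ := D.tor.exists_weight_basis r'
  have h1 : ∀ i, χ i 1 = 1 := fun i => by
    have := hb i 1 D.S.one_mem
    rw [r'.map_one, Module.End.one_apply] at this
    exact smul_left_injective k (b.ne_zero i) (by simpa using this.symm)
  have hm : ∀ i, ∀ t ∈ D.S, ∀ t' ∈ D.S, χ i (t * t') = χ i t * χ i t' := fun i t ht t' ht' => by
    have := hb i _ (D.S.mul_mem ht ht')
    rw [r'.mul_apply trivial trivial, hb i t' ht', map_smul, hb i t ht, smul_smul] at this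
    exact (smul_left_injective k (b.ne_zero i) this).symm.trans (mul_comm _ _)
  choose N hN using fun i => exists_exponent (hχ i) (h1 i) (hm i) D.mem
  refine ⟨ι, inferInstance, b, N, fun i z => ?_⟩
  have h := congrArg Subtype.val (hb i _ (D.mem z))
  rw [hr' _ trivial, hN, Submodule.coe_smul] at h
  exact h

include hlf in
lemma exists_dec (a : V) : ∃ c, IsDec r D.lam a c := by
  classical
  obtain ⟨W, hWf, haW, hW⟩ := hlf a
  obtain ⟨ι, _, b, N, hb⟩ := exists_weights D r hW
  refine ⟨∑ i, b.repr ⟨a, haW⟩ i • Finsupp.single (N i) ((b i : W) : V), ?_⟩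
  have hsum : ∀ s : Finset ι, IsDec r D.lam (∑ i ∈ s, b.repr ⟨a, haW⟩ i • ((b i : W) : V))
      (∑ i ∈ s, b.repr ⟨a, haW⟩ i • Finsupp.single (N i) ((b i : W) : V)) := fun s => by
    induction s using Finset.induction_on with
    | empty => intro z; simp
    | insert i s hi ih =>
      rw [Finset.sum_insert hi, Finset.sum_insert hi]
      exact ((isDec_of_isWtV (hb i)).smul _).add ih
  have e : (∑ i, b.repr ⟨a, haW⟩ i • ((b i : W) : V)) = a := by
    have := congrArg Subtype.val (b.sum_repr ⟨a, haW⟩)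
    simp only [Submodule.coe_sum, Submodule.coe_smul] at this
    exact this
  have h := hsum Finset.univ
  rwa [e] at h

/-- The component of a given weight. -/
def pr (n : ℤ) : V →ₗ[k] V where
  toFun a := (exists_dec D r hlf a).choose n
  map_add' a b := by
    rw [IsDec.unique r D.lam (exists_dec D r hlf (a + b)).choose_spec
      ((exists_dec D r hlf a).choose_spec.add (exists_dec D r hlf b).choose_spec), Finsupp.add_apply]
  map_smul' t a := by
    rw [IsDec.unique r D.lam (exists_dec D r hlf (t • a)).choose_spec ((exists_dec D r hlf a).choose_spec.smul t),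
      Finsupp.smul_apply, RingHom.id_apply]

lemma IsDec.pr_eq {a : V} {c : ℤ →₀ V} (h : IsDec r D.lam a c) (n : ℤ) : pr D r hlf n a = c n :=
  DFunLike.congr_fun (IsDec.unique r D.lam (exists_dec D r hlf a).choose_spec h) n

lemma isWtV_pr (n : ℤ) (a : V) : IsWtV r D.lam n (pr D r hlf n a) := (exists_dec D r hlf a).choose_spec.isWtV n

lemma pr_of_isWtV {m : ℤ} {w : V} (h : IsWtV r D.lam m w) (n : ℤ) :
    pr D r hlf n w = if m = n then w else 0 := by
  rw [(isDec_of_isWtV h).pr_eq D r hlf, Finsupp.single_apply]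

lemma sum_pr (a : V) : ∃ s : Finset ℤ, a = ∑ n ∈ s, pr D r hlf n a ∧ ∀ n ∉ s, pr D r hlf n a = 0 := by
  refine ⟨(exists_dec D r hlf a).choose.support, ?_, fun n hn => Finsupp.notMem_support_iff.1 hn⟩
  have h := (exists_dec D r hlf a).choose_spec 1
  rw [DynLib.lamAt_one, r.map_one, Module.End.one_apply] at h
  refine h.trans (Finset.sum_congr rfl fun n _ => ?_)
  simp only [one_zpow, Units.val_one, one_smul]
  rfl

lemma pr_commute {g : Pt k A} (hg : ∀ z : kˣ, g * DynLib.lamAt D.lam z = DynLib.lamAt D.lam z * g) (n : ℤ) (a : V) :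
    pr D r hlf n (r.ρ g a) = r.ρ g (pr D r hlf n a) := by
  have h : IsDec r D.lam (r.ρ g a) ((exists_dec D r hlf a).choose.mapRange (r.ρ g) (map_zero _)) := fun z => by
    rw [Finsupp.sum_mapRange_index (fun _ => smul_zero _), ← r.mul_apply trivial trivial, ← hg,
      r.mul_apply trivial trivial, (exists_dec D r hlf a).choose_spec z, map_finsuppSum]
    simp only [map_smul]
  rw [h.pr_eq D r hlf, Finsupp.mapRange_apply]
  rfl

lemma pr_mem {W : Submodule k V} [FiniteDimensional k W] (hW : r.Stable ⊤ W) {a : V} (ha : a ∈ W) (n : ℤ) :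
    pr D r hlf n a ∈ W := by
  obtain ⟨ι, _, b, N, hb⟩ := exists_weights D r hW
  have e : a = ∑ i, b.repr ⟨a, ha⟩ i • ((b i : W) : V) := by
    have := congrArg Subtype.val (b.sum_repr ⟨a, ha⟩)
    simp only [Submodule.coe_sum, Submodule.coe_smul] at this
    exact this.symm
  rw [e, map_sum]
  refine W.sum_mem fun i _ => ?_
  rw [map_smul, pr_of_isWtV D r hlf (hb i)]
  split_ifs
  · exact W.smul_mem _ (b i).2
  · rw [smul_zero]; exact W.zero_mem

lemma exists_bound {W : Submodule k V} [FiniteDimensional k W] (hW : r.Stable ⊤ W) :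
    ∃ N : ℕ, ∀ a ∈ W, ∀ n : ℤ, (N : ℤ) < n → pr D r hlf n a = 0 := by
  obtain ⟨ι, _, b, M, hb⟩ := exists_weights D r hW
  refine ⟨∑ i, (M i).natAbs, fun a ha n hn => ?_⟩
  have e : a = ∑ i, b.repr ⟨a, ha⟩ i • ((b i : W) : V) := by
    have := congrArg Subtype.val (b.sum_repr ⟨a, ha⟩)
    simp only [Submodule.coe_sum, Submodule.coe_smul] at this
    exact this.symm
  rw [e, map_sum]
  refine Finset.sum_eq_zero fun i _ => ?_
  have h1 : (M i).natAbs ≤ ∑ j, (M j).natAbs :=
    Finset.single_le_sum (f := fun j => (M j).natAbs) (fun _ _ => Nat.zero_le _) (Finset.mem_univ i)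
  have hne : M i ≠ n := by omega
  rw [map_smul, pr_of_isWtV D r hlf (hb i), if_neg hne, smul_zero]

/-- Weights move in one direction under contracted points. -/
theorem pr_fam {l : A →ₐc[k] k[T;T⁻¹]} (ε : ℤ) (hl : ∀ z : kˣ, DynLib.lamAt l z = DynLib.lamAt D.lam (z ^ ε))
    {u : Pt k A} (hu : Fam l u 1) {m : ℤ} {w : V} (hw : IsWtV r D.lam m w) {j : ℤ} (hj : ε * (j - m) ≤ 0) (hε : ε ≠ 0) :
    pr D r hlf j (r.ρ u w) = if j = m then w else 0 := by
  classical
  obtain ⟨φ, hφ, h0⟩ := hu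
  refine sub_eq_zero.1 ((Module.forall_dual_apply_eq_zero_iff k _).1 fun ψ => ?_)
  obtain ⟨a, ha⟩ := r.reg ψ w
  obtain ⟨s, hs, hs0⟩ := sum_pr D r hlf (r.ρ u w)
  let c : ℤ → k := fun n => ψ (pr D r hlf n (r.ρ u w))
  have h1 : Polynomial.toLaurent (φ a) = ∑ n ∈ s, LaurentPolynomial.C (c n) * LaurentPolynomial.T (ε * (n - m)) := by
    refine sub_eq_zero.1 (eq_zero_of_forall (k := k) fun x => ?_)
    obtain ⟨z, rfl⟩ := exists_gp x
    rw [map_sub, sub_eq_zero, map_sum]
    have e1 : (gp z).ofConv (Polynomial.toLaurent (φ a)) = ψ (r.ρ (pull φ (linePt (z : k))) w) := by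
      refine Eq.trans ?_ (ha _).symm
      rw [pull_toL]
      rfl
    rw [e1, hφ, DynLib.lamAt_inv, ← DynLib.lamAt_inv, hl, hl, r.mul_apply trivial trivial, r.mul_apply trivial trivial,
      hw, map_smul, map_smul]
    conv_lhs => rw [hs, map_sum, Finset.smul_sum, map_sum]
    refine Finset.sum_congr rfl fun n _ => ?_
    rw [isWtV_pr D r hlf n, smul_smul, map_smul, smul_eq_mul, map_mul]
    show _ = DynLib.ev (Algebra.ofId k k) z (LaurentPolynomial.C (c n)) * DynLib.ev (Algebra.ofId k k) z (LaurentPolynomial.T _)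
    rw [DynLib.ev_T, show (LaurentPolynomial.C (c n) : k[T;T⁻¹]) = algebraMap k _ (c n) from rfl, AlgHom.commutes,
      ← Units.val_mul, inv_zpow', ← zpow_mul, ← zpow_mul, ← zpow_add,
      show -ε * m + ε * n = ε * (n - m) by ring]
    exact mul_comm _ _
  have hcoeff : ∀ t : ℤ, (Polynomial.toLaurent (φ a)).coeff (ε * (t - m)) = c t := fun t => by
    rw [h1]
    simp only [← single_eq_C_mul_T, AddMonoidAlgebra.coeff_sum, Finsupp.finset_sum_apply,
      AddMonoidAlgebra.coeff_single, Finsupp.single_apply]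
    have hinj : ∀ n, ε * (n - m) = ε * (t - m) ↔ n = t := fun n =>
      ⟨fun h => by have := mul_left_cancel₀ hε h; linarith, fun h => by rw [h]⟩
    simp only [hinj]
    rw [Finset.sum_ite_eq']
    split_ifs with ht
    · rfl
    · show 0 = ψ _
      rw [hs0 t ht, map_zero]
  rw [map_sub, sub_eq_zero]
  show c j = _
  rw [← hcoeff]
  rcases hj.lt_or_eq with hlt | heq
  · rw [if_neg (fun h => by rw [h, sub_self, mul_zero] at hlt; exact lt_irrefl _ hlt), map_zero]
    exact DynLib.toLaurent_coeff_neg _ hlt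
  · have hjm : j = m := by
      rcases mul_eq_zero.1 heq with h | h
      · exact absurd h hε
      · linarith
    rw [heq, if_pos hjm, DynLib.toLaurent_coeff_zero]
    have h2 : (pull φ (linePt 0)).ofConv a = ψ w := by
      rw [h0, ← ha]
      dsimp only
      rw [r.map_one]
      rfl
    rw [← h2]
    show _ = Polynomial.aeval (0 : k) (φ a)
    rw [← Polynomial.coeff_zero_eq_aeval_zero]

/-- Vectors fixed by the contracted part. -/
def fixU : Submodule k V where
  carrier := {w | ∀ u ∈ B, Fam D.lam u 1 → r.ρ u w = w}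
  add_mem' {p q} hp hq u hu hf := by rw [map_add, hp u hu hf, hq u hu hf]
  zero_mem' u _ _ := map_zero _
  smul_mem' c {p} hp u hu hf := by rw [map_smul, hp u hu hf]

/-- The height filtration. -/
def filt (n : ℤ) : Submodule k V where
  carrier := {a | ∀ (g : Pt k A) (j : ℤ), n < j → pr D r hlf j (r.ρ g a) = 0}
  add_mem' {p q} hp hq g j hj := by rw [map_add, map_add, hp g j hj, hq g j hj, add_zero]
  zero_mem' g j _ := by rw [map_zero, map_zero]
  smul_mem' c {p} hp g j hj := by rw [map_smul, map_smul, hp g j hj, smul_zero]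

variable {D r hlf}

lemma mem_filt {n : ℤ} {a : V} :
    a ∈ filt D r hlf n ↔ ∀ (g : Pt k A) (j : ℤ), n < j → pr D r hlf j (r.ρ g a) = 0 := Iff.rfl

lemma rho_mem_filt {n : ℤ} {a : V} (ha : a ∈ filt D r hlf n) (h : Pt k A) : r.ρ h a ∈ filt D r hlf n := fun g j hj => by
  rw [← r.mul_apply trivial trivial]; exact ha _ j hj

lemma pr_mem_filt {n : ℤ} {a : V} (ha : a ∈ filt D r hlf n) (i : ℤ) : pr D r hlf i a ∈ filt D r hlf n := by
  obtain ⟨W, hWf, haW, hW⟩ := hlf a
  haveI := hWf
  haveI : FiniteDimensional k ↥(W ⊓ filt D r hlf n) := Submodule.finiteDimensional_of_le inf_le_left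
  exact (pr_mem D r hlf (W := W ⊓ filt D r hlf n) (fun g _ x hx => ⟨hW g trivial _ hx.1, rho_mem_filt hx.2 g⟩)
    ⟨haW, ha⟩ i).2

lemma exists_mem_filt (a : V) : ∃ N : ℕ, a ∈ filt D r hlf N := by
  obtain ⟨W, hWf, haW, hW⟩ := hlf a
  haveI := hWf
  obtain ⟨N, hN⟩ := exists_bound D r hlf hW
  exact ⟨N, fun g j hj => hN _ (hW g trivial _ haW) j hj⟩

lemma filt_mono {m n : ℤ} (h : m ≤ n) : filt D r hlf m ≤ filt D r hlf n :=
  fun _ ha g j hj => ha g j (lt_of_le_of_lt h hj)

lemma filt_neg {n : ℤ} (hn : n < 0) {a : V} (ha : a ∈ filt D r hlf n) : a = 0 := by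
  classical
  by_contra h0
  obtain ⟨W, hWf, haW, hW⟩ := hlf a
  haveI := hWf
  let W' := W ⊓ filt D r hlf n
  haveI : FiniteDimensional k W' := Submodule.finiteDimensional_of_le inf_le_left
  have hW' : r.Stable ⊤ W' := fun g _ x hx => ⟨hW g trivial _ hx.1, rho_mem_filt hx.2 g⟩
  obtain ⟨ι, _, b, N, hb⟩ := exists_weights D r hW'
  obtain ⟨r', hr'⟩ := r.exists_sub hW'
  haveI : Nonempty ι := by
    by_contra hι
    rw [not_nonempty_iff] at hι
    have := congrArg Subtype.val (b.sum_repr (⟨a, haW, ha⟩ : W'))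
    simp at this
    exact h0 this.symm
  have hle : ∀ i, N i ≤ n := fun i => by
    by_contra hlt
    push Not at hlt
    have h := (b i).2.2 1 (N i) hlt
    rw [r.map_one, Module.End.one_apply, pr_of_isWtV D r hlf (hb i), if_pos rfl] at h
    exact b.ne_zero i (Subtype.ext h)
  have hsum : ∑ i, N i = 0 := eq_of_zpow_eq (k := k) fun z => Units.ext (by
    rw [zpow_zero, Units.val_one, ← D.det W' r' z]
    have hmat : LinearMap.toMatrix b b (r'.ρ (DynLib.lamAt D.lam z)) =
        Matrix.diagonal fun i => ((z ^ N i : kˣ) : k) := by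
      ext i j
      have e : r'.ρ (DynLib.lamAt D.lam z) (b j) = ((z ^ N j : kˣ) : k) • b j := Subtype.ext (by
        rw [hr' _ trivial, Submodule.coe_smul]; exact hb j z)
      rw [LinearMap.toMatrix_apply, e, map_smul, b.repr_self, Matrix.diagonal_apply, Finsupp.smul_apply,
        Finsupp.single_apply, smul_eq_mul]
      rcases eq_or_ne i j with rfl | hij
      · simp
      · simp [hij, Ne.symm hij]
    rw [← LinearMap.det_toMatrix b, hmat, Matrix.det_diagonal]
    have key : ∀ s : Finset ι, ((z ^ (∑ i ∈ s, N i) : kˣ) : k) = ∏ i ∈ s, ((z ^ N i : kˣ) : k) := fun s => by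
      induction s using Finset.induction_on with
      | empty => simp
      | insert i s hi ih => rw [Finset.sum_insert hi, Finset.prod_insert hi, zpow_add, Units.val_mul, ih]
    exact key _)
  have : ∑ i, N i < ∑ _i : ι, (0 : ℤ) :=
    Finset.sum_lt_sum_of_nonempty Finset.univ_nonempty fun i _ => lt_of_le_of_lt (hle i) hn
  rw [hsum, Finset.sum_const_zero] at this
  exact lt_irrefl _ this

/-- Top components are fixed by the contracted part. -/
theorem pr_mem_fixU {n : ℤ} {a : V} (ha : a ∈ filt D r hlf n) (g : Pt k A) :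
    pr D r hlf n (r.ρ g a) ∈ fixU D r := by
  intro u hu hf
  set w := pr D r hlf n (r.ρ g a)
  have hw : w ∈ filt D r hlf n := pr_mem_filt (rho_mem_filt ha g) n
  obtain ⟨s, hs, hs0⟩ := sum_pr D r hlf (r.ρ u w)
  have hv : ∀ j, pr D r hlf j (r.ρ u w) = if j = n then w else 0 := fun j => by
    rcases lt_or_ge n j with h | h
    · rw [if_neg (ne_of_gt h)]; exact hw u j h
    · exact pr_fam D r hlf 1 (fun z => by rw [zpow_one]) hf (isWtV_pr D r hlf n _) (by omega) one_ne_zero
  rw [hs]
  simp only [hv]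
  rw [Finset.sum_ite_eq']
  split_ifs with h
  · rfl
  · have := hv n
    rw [if_pos rfl, hs0 n h] at this
    exact this

/-- The negative Borel subgroup acts on top components through its limits. -/
theorem pr_rho_neg {n : ℤ} {a : V} (ha : ∀ j, n < j → pr D r hlf j a = 0) {b p : Pt k A} (hp : p ∈ D.S)
    (hb : Fam D.lamNeg b p) :
    pr D r hlf n (r.ρ b a) = r.ρ p (pr D r hlf n a) ∧ ∀ j, n < j → pr D r hlf j (r.ρ b a) = 0 := by
  classical
  have hcomm : ∀ z : kˣ, p * DynLib.lamAt D.lam z = DynLib.lamAt D.lam z * p :=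
    fun z => D.tor.comm p hp _ (D.mem z)
  have hu : Fam D.lamNeg (p⁻¹ * b) 1 := by
    obtain ⟨φ, hφ, h0⟩ := hb
    obtain ⟨ψ, hψ⟩ := (IsMor.const (R' := Polynomial k) p⁻¹).mul (IsMor.pull φ)
    refine ⟨ψ, fun z => ?_, by rw [← hψ]; dsimp only; rw [h0, inv_mul_cancel]⟩
    rw [← hψ]
    dsimp only
    rw [hφ, D.neg z, D.neg z⁻¹]
    have hc := D.tor.comm _ (inv_mem hp) _ (D.mem z⁻¹)
    rw [← mul_assoc, ← mul_assoc, hc]
    group
  have key : ∀ j, n ≤ j → pr D r hlf j (r.ρ (p⁻¹ * b) a) = if j = n then pr D r hlf n a else 0 := by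
    intro j hj
    obtain ⟨s, hs, hs0⟩ := sum_pr D r hlf a
    conv_lhs => rw [hs, map_sum, map_sum]
    have hterm : ∀ m ∈ s, pr D r hlf j (r.ρ (p⁻¹ * b) (pr D r hlf m a)) =
        if j = m then pr D r hlf m a else 0 := fun m _ => by
      rcases lt_or_ge n m with h | h
      · rw [ha m h, map_zero, map_zero, ite_self]
      · exact pr_fam D r hlf (-1) (fun z => by rw [zpow_neg_one, D.neg]) hu (isWtV_pr D r hlf m a) (by omega)
          (by norm_num)
    rw [Finset.sum_congr rfl hterm, Finset.sum_ite_eq]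
    split_ifs with h1 h2 h2
    · rw [h2]
    · exact ha j (lt_of_le_of_ne hj (Ne.symm h2))
    · rw [← h2, hs0 j h1]
    · rfl
  have e : ∀ j, pr D r hlf j (r.ρ b a) = r.ρ p (pr D r hlf j (r.ρ (p⁻¹ * b) a)) := fun j => by
    rw [← pr_commute D r hlf hcomm, ← r.mul_apply trivial trivial, mul_inv_cancel_left]
  exact ⟨by rw [e, key n le_rfl, if_pos rfl], fun j hj => by rw [e, key j hj.le, if_neg (ne_of_gt hj), map_zero]⟩

/-- Fixed weight vectors generate in their height. -/
theorem fixU_top [IsDomain A] {n : ℤ} {w : V} (hw : w ∈ fixU D r) (hn : IsWtV r D.lam n w) {χ : Pt k A → k}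
    (hχ : ∀ s ∈ D.S, r.ρ s w = χ s • w) :
    w ∈ filt D r hlf n ∧ ∀ g : Pt k A, pr D r hlf n (r.ρ g w) ∈ k ∙ w := by
  classical
  obtain ⟨O, hO, hOne, hsub⟩ := D.cell
  obtain ⟨W, hWf, hwW, hW⟩ := hlf w
  haveI := hWf
  have hon : ∀ g ∈ O, pr D r hlf n (r.ρ g w) ∈ k ∙ w ∧ ∀ j, n < j → pr D r hlf j (r.ρ g w) = 0 := by
    intro g hg
    obtain ⟨b, hb, c, hc, rfl⟩ := hsub g hg
    obtain ⟨p, hpS, hp, -⟩ := D.limit c hc
    obtain ⟨q, hqS, hq⟩ := D.limitNeg b hb
    have hu : Fam D.lam (p⁻¹ * c) 1 := by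
      obtain ⟨φ, hφ, h0⟩ := hp
      obtain ⟨ψ, hψ⟩ := (IsMor.const (R' := Polynomial k) p⁻¹).mul (IsMor.pull φ)
      refine ⟨ψ, fun z => ?_, by rw [← hψ]; dsimp only; rw [h0, inv_mul_cancel]⟩
      rw [← hψ]
      dsimp only
      rw [hφ, ← mul_assoc, ← mul_assoc, D.tor.comm _ (inv_mem hpS) _ (D.mem z)]
      group
    have hcw : r.ρ c w = χ p • w := by
      conv_lhs => rw [show c = p * (p⁻¹ * c) by group]
      rw [r.mul_apply trivial trivial, hw _ (B.mul_mem (B.inv_mem (D.le hpS)) hc) hu, hχ p hpS]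
    have htop : ∀ j, n < j → pr D r hlf j (χ p • w) = 0 := fun j hj => by
      rw [map_smul, pr_of_isWtV D r hlf hn, if_neg (ne_of_lt hj), smul_zero]
    obtain ⟨h1, h2⟩ := pr_rho_neg htop hqS hq
    rw [r.mul_apply trivial trivial, hcw]
    refine ⟨?_, h2⟩
    rw [h1, map_smul, pr_of_isWtV D r hlf hn, if_pos rfl, map_smul, hχ q hqS, smul_smul]
    exact Submodule.smul_mem _ _ (Submodule.mem_span_singleton_self w)
  obtain ⟨pW, hpW⟩ := W.subtype.exists_leftInverse_of_injective W.ker_subtype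
  have hext : ∀ {f : V →ₗ[k] k}, (∀ g ∈ O, f (r.ρ g w) = 0) → ∀ g, f (r.ρ g w) = 0 := fun {f} h g => by
    have hirr := isIrreducible_univ (k := k) (R := A)
    by_contra hne
    obtain ⟨y, -, hy1, hy2⟩ := hirr.2 O {x | f (r.ρ x w) ≠ 0} hO ((r.reg f w).isOpen_ne (IsReg.const 0))
      (by simpa using hOne) ⟨g, trivial, hne⟩
    exact hy2 (h y hy1)
  refine ⟨fun g j hj => (Module.forall_dual_apply_eq_zero_iff k _).1 fun ψ => ?_, fun g => ?_⟩
  · exact hext (f := ψ ∘ₗ pr D r hlf j) (fun y hy => by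
      rw [LinearMap.comp_apply, (hon y hy).2 j hj, map_zero]) g
  rw [← Subspace.dualAnnihilator_dualCoannihilator_eq (W := k ∙ w), Submodule.mem_dualCoannihilator]
  intro ψ hψ
  exact hext (f := ψ ∘ₗ pr D r hlf n) (fun y hy => (Submodule.mem_dualAnnihilator ψ).1 hψ _ (hon y hy).1) g

/-- Existence of symbols. -/
theorem exists_sym (n : ℤ) (a : V) : ∃ z : A ⊗[k] V, ∀ x : Pt k A, evV x z = pr D r hlf n (r.ρ x⁻¹ a) := by
  classical
  obtain ⟨W, hWf, haW, hW⟩ := hlf a
  haveI := hWf
  obtain ⟨r', hr'⟩ := r.exists_sub hW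
  let b := Module.finBasis k W
  choose c hc using fun i => (r'.reg (b.coord i) ⟨a, haW⟩).comp IsMor.id.inv
  refine ⟨∑ i, c i ⊗ₜ[k] pr D r hlf n ((b i : W) : V), fun x => ?_⟩
  rw [map_sum]
  simp only [evV_tmul, ← hc]
  rw [← hr' _ trivial ⟨a, haW⟩]
  conv_rhs => rw [← b.sum_repr (r'.ρ x⁻¹ ⟨a, haW⟩), Submodule.coe_sum, map_sum]
  refine Finset.sum_congr rfl fun i _ => ?_
  rw [Submodule.coe_smul, map_smul, Module.Basis.coord_apply]

variable (D r hlf) [_root_.IsReduced A]

/-- The symbol in a given height. -/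
def sym (n : ℤ) : V →ₗ[k] A ⊗[k] V where
  toFun a := (exists_sym (D := D) (r := r) (hlf := hlf) n a).choose
  map_add' a b := evV_ext fun x => by
    rw [map_add, (exists_sym n (a + b)).choose_spec, (exists_sym n a).choose_spec, (exists_sym n b).choose_spec,
      map_add, map_add]
  map_smul' t a := evV_ext fun x => by
    rw [RingHom.id_apply, map_smul, (exists_sym n (t • a)).choose_spec, (exists_sym n a).choose_spec, map_smul, map_smul]

variable {D r hlf}

lemma evV_sym (n : ℤ) (a : V) (x : Pt k A) : evV x (sym D r hlf n a) = pr D r hlf n (r.ρ x⁻¹ a) :=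
  (exists_sym n a).choose_spec x

lemma mem_filt_of_sym {n : ℤ} {a : V} (ha : a ∈ filt D r hlf n) (h : sym D r hlf n a = 0) :
    a ∈ filt D r hlf (n - 1) := fun g j hj => by
  rcases (show n ≤ j by omega).lt_or_eq with h1 | h1
  · exact ha g j h1
  · subst h1
    have := evV_sym (D := D) (r := r) (hlf := hlf) n a g⁻¹
    rw [h, map_zero, inv_inv] at this
    exact this.symm

end Groth.Agent.ObsLib

end
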