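import Groth.Agent.ObsLib.Core
import Groth.Agent.BorelLib.Complete
import Groth.Agent.NormFin.Field
import Groth.Agent.FieldsMiscLib.Basic

/-!
# Semi-invariants of cocomplete subgroups form finite-dimensional spaces
-/

set_option autoImplicit false
set_option linter.style.haveILetI false
set_option linter.unusedSectionVars false
set_option backward.isDefEq.respectTransparency false
set_option maxHeartbeats 2000000
set_option synthInstance.maxHeartbeats 400000

noncomputable section

universe u

open WithConv Polynomial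
open scoped TensorProduct

namespace Groth.Agent.ObsLib

open BorelLib

attribute [local instance] pTop pTopTensor

/-- Elements integral over a finitely generated subalgebra of a finitely generated domain form a finite module. -/
theorem finite_integralClosure_sub (k P : Type u) [Field k] [CommRing P] [IsDomain P] [Algebra k P]
    [Algebra.FiniteType k P] (R : Subalgebra k P) (hR : R.FG) : Module.Finite R (integralClosure R P) := by
  haveI : Algebra.FiniteType k R := ⟨(Subalgebra.fg_top _).2 hR⟩
  haveI : IsNoetherianRing R := Algebra.FiniteType.isNoetherianRing k R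
  let K := FractionRing R
  let Ω := FractionRing P
  have hinj : Function.Injective (algebraMap R Ω) := by
    rw [IsScalarTower.algebraMap_eq R P Ω, RingHom.coe_comp]
    exact (IsFractionRing.injective P Ω).comp Subtype.val_injective
  haveI : FaithfulSMul R Ω := (faithfulSMul_iff_algebraMap_injective R Ω).2 hinj
  letI : Algebra K Ω := FractionRing.liftAlgebra R Ω
  haveI : IsScalarTower R K Ω := FractionRing.isScalarTower_liftAlgebra R Ω
  haveI : IsScalarTower k K Ω := IsScalarTower.of_algebraMap_eq fun c => by
    rw [IsScalarTower.algebraMap_apply k R Ω, IsScalarTower.algebraMap_apply R K Ω,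
      ← IsScalarTower.algebraMap_apply k R K]
  haveI : Algebra.EssFiniteType k Ω := by
    haveI : Algebra.EssFiniteType P Ω := Algebra.EssFiniteType.of_isLocalization Ω (nonZeroDivisors P)
    exact Algebra.EssFiniteType.comp k P Ω
  haveI : Algebra.EssFiniteType K Ω := Algebra.EssFiniteType.of_comp k K Ω
  let L := algebraicClosure K Ω
  haveI : FiniteDimensional K L := FieldsMiscLib.algebraicClosure_finite_of_fg (IntermediateField.fg_top K Ω)
  haveI : Module.Finite R (integralClosure R L) := NormFinLib.finite_integralClosure_of_finiteType_field k R K L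
  haveI : IsNoetherian R (integralClosure R L) := isNoetherian_of_isNoetherianRing_of_finite R _
  let e : P →ₐ[R] Ω := IsScalarTower.toAlgHom R P Ω
  have hmem : ∀ x : integralClosure R P, e x ∈ L := fun x =>
    mem_algebraicClosure_iff.2 ((x.2.map e).tower_top (A := K)).isAlgebraic
  let ι : L →ₐ[R] Ω := L.val.restrictScalars R
  let φ : integralClosure R P →ₗ[R] integralClosure R L :=
    { toFun := fun x => ⟨⟨e x, hmem x⟩, (isIntegral_algHom_iff ι Subtype.val_injective).1 (x.2.map e)⟩
      map_add' := fun x y => Subtype.ext (Subtype.ext (map_add e (x : P) (y : P)))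
      map_smul' := fun r x => Subtype.ext (Subtype.ext (map_smul e r (x : P))) }
  refine Module.Finite.of_injective φ fun x y h => Subtype.ext (IsFractionRing.injective P Ω ?_)
  exact congrArg (fun z : integralClosure R L => ((z : L) : Ω)) h

variable {k : Type u} [Field k] [IsAlgClosed k] {A : Type u} [CommRing A] [HopfAlgebra k A] [Algebra.FiniteType k A]
  [IsDomain A] {H : Subgroup (Pt k A)}

/-- An element inverse to a generator of a ring containing it is integral. -/
theorem isIntegral_of_inv_mem_adjoin {R L : Type u} [CommRing R] [CommRing L] [Algebra R L] {x y : L}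
    (hxy : x * y = 1) (hy : y ∈ Algebra.adjoin R {x}) : IsIntegral R y := by
  nontriviality R
  rw [Algebra.adjoin_singleton_eq_range_aeval] at hy
  obtain ⟨p, hp⟩ := hy
  replace hp : Polynomial.eval₂ (algebraMap R L) x p = y := hp
  letI : Invertible x := ⟨y, by rw [mul_comm]; exact hxy, hxy⟩
  refine ⟨X ^ (p.natDegree + 1) - reflect p.natDegree p, Polynomial.monic_X_pow_sub ?_, ?_⟩
  · refine lt_of_le_of_lt Polynomial.degree_le_natDegree (WithBot.coe_lt_coe.2 ?_)
    exact Nat.lt_succ_of_le ((Polynomial.natDegree_reflect_le).trans (max_le le_rfl le_rfl))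
  · have hinv : ⅟ x = y := invOf_eq_right_inv hxy
    have h := Polynomial.eval₂_reflect_mul_pow (algebraMap R L) x p.natDegree p le_rfl
    rw [hp, hinv] at h
    rw [Polynomial.eval₂_sub, Polynomial.eval₂_X_pow, sub_eq_zero]
    calc y ^ (p.natDegree + 1) = y ^ p.natDegree * y := pow_succ y _
      _ = y ^ p.natDegree * (eval₂ (algebraMap R L) y (reflect p.natDegree p) * x ^ p.natDegree) := by rw [h]
      _ = eval₂ (algebraMap R L) y (reflect p.natDegree p) * (x * y) ^ p.natDegree := by rw [mul_pow]; ring
      _ = _ := by rw [hxy, one_pow, mul_one]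

/-- **Semi-invariants of a subgroup with complete quotient form a finite-dimensional space.** -/
theorem finite_semiInv (hc : Complete (⊤ : Subgroup (Pt k A)) H) (χ : Pt k A → k) :
    ∃ s : Finset A, ∀ a : A, SemiInv H χ a → a ∈ Submodule.span k (↑s : Set A) := by
  classical
  by_cases hz : ∀ a : A, SemiInv H χ a → a = 0
  · exact ⟨∅, fun a ha => by rw [hz a ha]; exact zero_mem _⟩
  push Not at hz
  obtain ⟨a₀, ha₀, h0⟩ := hz
  obtain ⟨x₀, hx₀⟩ : ∃ x₀ : Pt k A, x₀.ofConv a₀ ≠ 0 := by
    by_contra! h
    exact h0 (eq_zero_of_forall (k := k) h)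
  -- finitely many semi-invariants without common zero
  have htop : Ideal.span {b : A | SemiInv H χ b} = ⊤ := by
    by_contra hne
    obtain ⟨M, hM, hle⟩ := Ideal.exists_le_maximal _ hne
    obtain ⟨g, hg⟩ := exists_pt_mem (k := k) (R := A) (Z := PrimeSpectrum.zeroLocus (M : Set A))
      ⟨⟨M, hM.isPrime⟩, fun _ h => h⟩ (PrimeSpectrum.isClosed_zeroLocus _).isLocallyClosed
    have h1 : lT (x₀ * g⁻¹) a₀ ∈ M := hle (Ideal.subset_span (ha₀.lT _))
    have h2 : lT (x₀ * g⁻¹) a₀ ∈ (toP g).asIdeal := hg h1
    rw [toP_asIdeal, RingHom.mem_ker] at h2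
    change g.ofConv (lT (x₀ * g⁻¹) a₀) = 0 at h2
    rw [eval_lT, inv_mul_cancel_right] at h2
    exact hx₀ h2
  obtain ⟨T, hT, h1T⟩ := Submodule.mem_span_finite_of_mem_span ((Ideal.eq_top_iff_one _).1 htop)
  have hnz : ∀ g : Pt k A, ∃ e ∈ T, g.ofConv e ≠ 0 := fun g => by
    by_contra! h
    have hle : Ideal.span (↑T : Set A) ≤ RingHom.ker g.ofConv.toRingHom := Ideal.span_le.2 fun e he => h e he
    exact one_ne_zero ((map_one g.ofConv).symm.trans (hle h1T))
  -- the graded algebra
  let F : A → A[X] := fun e => Polynomial.C e * Polynomial.X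
  let R : Subalgebra k A[X] := Algebra.adjoin k (F '' (↑T : Set A))
  have hR : R.FG := ⟨T.image F, by rw [Finset.coe_image]⟩
  have hR0 : ∀ r ∈ R, r.coeff 0 ∈ Set.range (algebraMap k A) := fun r hr => by
    induction hr using Algebra.adjoin_induction with
    | mem z hz => obtain ⟨e, -, rfl⟩ := hz; exact ⟨0, by simp [F]⟩
    | algebraMap c => exact ⟨c, by simp [Polynomial.algebraMap_apply]⟩
    | add p q _ _ hp hq =>
      obtain ⟨c, hc⟩ := hp
      obtain ⟨d, hd⟩ := hq
      exact ⟨c + d, by rw [map_add, hc, hd, coeff_add]⟩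
    | mul p q _ _ hp hq =>
      obtain ⟨c, hc⟩ := hp
      obtain ⟨d, hd⟩ := hq
      exact ⟨c * d, by rw [map_mul, hc, hd, mul_coeff_zero]⟩
  -- the semi-invariants are integral
  have hint : ∀ f : A, SemiInv H χ f → F f ∈ integralClosure R A[X] := by
    intro f hf
    show IsIntegral R (F f)
    by_cases hf0 : F f = 0
    · rw [hf0]; exact isIntegral_zero
    haveI : Algebra.FiniteType k A[X] := Algebra.FiniteType.trans (R := k) (S := A) (A := A[X]) inferInstance inferInstance
    let Loc := Localization.Away (F f)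
    haveI : Algebra.FinitePresentation A[X] Loc := IsLocalization.Away.finitePresentation (F f)
    haveI : Algebra.FiniteType A[X] Loc := inferInstance
    haveI : Algebra.FiniteType k Loc := Algebra.FiniteType.trans (R := k) (S := A[X]) (A := Loc) inferInstance inferInstance
    haveI : IsDomain Loc := IsLocalization.isDomain_localization (powers_le_nonZeroDivisors_of_noZeroDivisors hf0)
    have hLinj : Function.Injective (algebraMap A[X] Loc) :=
      IsLocalization.injective Loc (powers_le_nonZeroDivisors_of_noZeroDivisors hf0)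
    let u : Loc := IsLocalization.Away.invSelf (F f)
    have hu1 : u * algebraMap A[X] Loc (F f) = 1 := by
      rw [mul_comm]; exact IsLocalization.Away.mul_invSelf (F f)
    let gens : Finset Loc := insert u (T.image fun e => algebraMap A[X] Loc (F e))
    let S' : Subalgebra k Loc := Algebra.adjoin k (↑gens : Set Loc)
    haveI : Algebra.FiniteType k S' := ⟨(Subalgebra.fg_top _).2 ⟨gens, rfl⟩⟩
    let uS : S' := ⟨u, Algebra.subset_adjoin (Finset.mem_coe.2 (Finset.mem_insert_self _ _))⟩
    let eS : T → S' := fun e => ⟨algebraMap A[X] Loc (F e), Algebra.subset_adjoin (Finset.mem_coe.2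
      (Finset.mem_insert_of_mem (Finset.mem_image_of_mem _ e.2)))⟩
    by_cases hunit : IsUnit uS
    · obtain ⟨vS, hv⟩ := hunit.exists_right_inv
      have hv' : u * (vS : Loc) = 1 := congrArg Subtype.val hv
      have hveq : (vS : Loc) = algebraMap A[X] Loc (F f) := by
        calc (vS : Loc) = (u * algebraMap A[X] Loc (F f)) * vS := by rw [hu1, one_mul]
          _ = algebraMap A[X] Loc (F f) * (u * vS) := by ring
          _ = _ := by rw [hv', mul_one]
      have hle : S' ≤ (Algebra.adjoin R {u}).restrictScalars k := Algebra.adjoin_le fun z hz => by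
        rcases Finset.mem_insert.1 (Finset.mem_coe.1 hz) with rfl | hz
        · exact Algebra.self_mem_adjoin_singleton R _
        · obtain ⟨e, he, rfl⟩ := Finset.mem_image.1 hz
          exact (Algebra.adjoin R {u}).algebraMap_mem
            (⟨F e, Algebra.subset_adjoin (Set.mem_image_of_mem F he)⟩ : R)
      have h := isIntegral_of_inv_mem_adjoin hv' (hle vS.2)
      rw [hveq] at h
      exact (isIntegral_algHom_iff (IsScalarTower.toAlgHom R A[X] Loc) hLinj).1 h
    exfalso
    -- the incidence set
    let Y : Set (Pt k (S' ⊗[k] A)) := {y |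
      (∀ e e' : T, (fstP y).ofConv (eS e) * (sndP y).ofConv (e' : A) =
        (fstP y).ofConv (eS e') * (sndP y).ofConv (e : A)) ∧
      ∀ e : T, (sndP y).ofConv f * (fstP y).ofConv uS * (fstP y).ofConv (eS e) = (sndP y).ofConv (e : A)}
    have hY : IsClosed Y := by
      have h₁ : ∀ a : S', IsReg (R := S' ⊗[k] A) fun y => (fstP y).ofConv a := fun a => (IsReg.eval a).comp IsMor.fstP
      have h₂ : ∀ a : A, IsReg (R := S' ⊗[k] A) fun y => (sndP y).ofConv a := fun a => (IsReg.eval a).comp IsMor.sndP
      simp only [Y, Set.setOf_and, Set.setOf_forall]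
      exact IsClosed.inter (isClosed_iInter fun e => isClosed_iInter fun e' =>
          IsReg.isClosed_eq ((h₁ _).mul (h₂ _)) ((h₁ _).mul (h₂ _)))
        (isClosed_iInter fun e => IsReg.isClosed_eq (((h₂ _).mul (h₁ _)).mul (h₁ _)) (h₂ _))
    have hYH : ∀ y ∈ Y, ∀ h ∈ H, pair (fstP y) (sndP y * h) ∈ Y := by
      rintro y ⟨hy1, hy2⟩ h hh
      have hmul : ∀ e : T, (sndP y * h).ofConv (e : A) = χ h * (sndP y).ofConv (e : A) := fun e => hT e.2 _ h hh
      refine ⟨fun e e' => ?_, fun e => ?_⟩
      · simp only [fstP_pair, sndP_pair, hmul]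
        linear_combination χ h * hy1 e e'
      · simp only [fstP_pair, sndP_pair, hmul, hf _ h hh]
        linear_combination χ h * hy2 e
    have hZc := hc S' Y hY (fun _ _ => trivial) hYH
    -- the generic points lie in the image
    have hgen : ∀ z : Pt k Loc, pull S'.val z ∈ fstP '' Y := fun z => by
      let q : A[X] →ₐ[k] k := z.ofConv.comp (IsScalarTower.toAlgHom k A[X] Loc)
      let g : Pt k A := toConv (q.comp (IsScalarTower.toAlgHom k A A[X]))
      have hq : ∀ e : A, z.ofConv (algebraMap A[X] Loc (F e)) = g.ofConv e * q Polynomial.X := fun e => by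
        show q (Polynomial.C e * Polynomial.X) = _
        rw [map_mul]
        rfl
      have hzu : z.ofConv u * (g.ofConv f * q Polynomial.X) = 1 := by rw [← hq, ← map_mul, hu1, map_one]
      refine ⟨pair (pull S'.val z) g, ⟨fun e e' => ?_, fun e => ?_⟩, fstP_pair _ _⟩
      · simp only [fstP_pair, sndP_pair, pull_apply]
        show z.ofConv (algebraMap A[X] Loc (F e)) * _ = z.ofConv (algebraMap A[X] Loc (F e')) * _
        rw [hq, hq]; ring
      · simp only [fstP_pair, sndP_pair, pull_apply]
        show g.ofConv f * z.ofConv u * z.ofConv (algebraMap A[X] Loc (F e)) = _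
        rw [hq]
        linear_combination g.ofConv (e : A) * hzu
    have hall : ∀ s : Pt k S', s ∈ fstP '' Y := fun s => by
      rw [← zeros_vanish_of_isClosed hZc]
      intro b hb
      have hb0 : b = 0 := Subtype.ext (eq_zero_of_forall (k := k) fun z => hb _ (hgen z))
      rw [hb0, map_zero]
    obtain ⟨s, hs⟩ := exists_pt_mem (k := k) (R := S') (Z := PrimeSpectrum.zeroLocus {uS})
      (by
        obtain ⟨M, hM, hmem⟩ := exists_max_ideal_of_mem_nonunits hunit
        exact ⟨⟨M, hM.isPrime⟩, by simpa using hmem⟩)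
      (PrimeSpectrum.isClosed_zeroLocus _).isLocallyClosed
    have hsu : s.ofConv uS = 0 := by
      have h : uS ∈ (toP s).asIdeal := hs (Set.mem_singleton uS)
      rwa [toP_asIdeal, RingHom.mem_ker] at h
    obtain ⟨y, ⟨-, hy2⟩, hys⟩ := hall s
    obtain ⟨e, he, hne⟩ := hnz (sndP y)
    exact hne (by rw [← hy2 ⟨e, he⟩, hys, hsu, mul_zero, zero_mul])
  haveI : Algebra.FiniteType k A[X] := Algebra.FiniteType.trans (R := k) (S := A) (A := A[X]) inferInstance inferInstance
  haveI := finite_integralClosure_sub k A[X] R hR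
  haveI : Algebra.FiniteType k R := ⟨(Subalgebra.fg_top _).2 hR⟩
  haveI : IsNoetherianRing R := Algebra.FiniteType.isNoetherianRing k R
  let M : Submodule R A[X] := Submodule.span R (F '' {f | SemiInv H χ f})
  have hMfg : M.FG := by
    have hle : M ≤ (integralClosure R A[X]).toSubmodule := Submodule.span_le.2 (by
      rintro _ ⟨f, hf, rfl⟩
      exact hint f hf)
    haveI : Module.Finite R (integralClosure R A[X]).toSubmodule := ‹Module.Finite R (integralClosure R A[X])›
    haveI : IsNoetherian R (integralClosure R A[X]).toSubmodule := @isNoetherian_of_isNoetherianRing_of_finite R _ _ _ _ _ this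
    exact Submodule.FG.of_le_of_isNoetherian hle
  obtain ⟨G', hG', hspan⟩ := (Submodule.fg_span_iff_fg_span_finset_subset _).1 hMfg
  refine ⟨G'.image fun p => p.coeff 1, fun f hf => ?_⟩
  have hmem : F f ∈ Submodule.span R (↑G' : Set A[X]) := hspan ▸ Submodule.subset_span ⟨f, hf, rfl⟩
  obtain ⟨c, hc⟩ := Submodule.mem_span_finset.1 hmem
  have h1 := congrArg (fun p : A[X] => p.coeff 1) hc.2
  simp only [finset_sum_coeff, F, coeff_C_mul, coeff_X_one, mul_one] at h1
  rw [← h1]
  refine Submodule.sum_mem _ fun p hp => ?_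
  obtain ⟨e, -, hpe⟩ := hG' hp
  rw [show c p • p = ((c p : R) : A[X]) * p from rfl]
  obtain ⟨d, hd⟩ := hR0 _ (c p).2
  have hcoef : (((c p : R) : A[X]) * p).coeff 1 = d • p.coeff 1 := by
    have key : ∀ r : A[X], (r * F e).coeff 1 = r.coeff 0 * e := fun r => by
      rw [show r * F e = r * C e * X from (mul_assoc _ _ _).symm, coeff_mul_X, coeff_mul_C]
    have key' : (F e).coeff 1 = e := by simp [F]
    rw [← hpe] at hd ⊢
    rw [key, key', ← hd, Algebra.smul_def]
  rw [hcoef]
  exact Submodule.smul_mem _ _ (Submodule.subset_span (Finset.mem_coe.2 (Finset.mem_image_of_mem _ hp)))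

end Groth.Agent.ObsLib

end
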