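import Groth.Agent.ObsLib.FiltFin
import Groth.Agent.ObsLib.WeightFin

/-!
# Finite generation read off the fixed algebra of the contracted part
-/

set_option autoImplicit false
set_option linter.style.haveILetI false
set_option linter.unusedSectionVars false
set_option backward.isDefEq.respectTransparency false
set_option maxHeartbeats 2000000
set_option synthInstance.maxHeartbeats 400000

noncomputable section

universe u

open WithConv
open scoped TensorProduct

namespace Groth.Agent.ObsLib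

open BorelLib

attribute [local instance] pTop pTopTensor

variable {k : Type u} [Field k] [IsAlgClosed k] {A : Type u} [CommRing A] [HopfAlgebra k A] [Algebra.FiniteType k A]

section SemiX

open Polynomial

variable [IsDomain A] {H : Subgroup (Pt k A)}

/-- **A semi-invariant in degree one is integral over a family without common zero of the same weight in degree one.** -/
theorem isIntegral_semiX (hc : Complete (⊤ : Subgroup (Pt k A)) H) {χ : Pt k A → k} {T : Finset A}
    (hT : ∀ e ∈ T, SemiInv H χ e) (hnz : ∀ g : Pt k A, ∃ e ∈ T, g.ofConv e ≠ 0) {f : A} (hf : SemiInv H χ f) :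
    IsIntegral (Algebra.adjoin k ((fun e : A => Polynomial.C e * Polynomial.X) '' (↑T : Set A))) (Polynomial.C f * Polynomial.X) := by
  classical
  let F : A → A[X] := fun e => Polynomial.C e * Polynomial.X
  let R : Subalgebra k A[X] := Algebra.adjoin k (F '' (↑T : Set A))
  show IsIntegral R (F f)
  by_cases hf0 : F f = 0
  · rw [hf0]; exact isIntegral_zero
  haveI : Algebra.FiniteType k A[X] := Algebra.FiniteType.trans (R := k) (S := A) (A := A[X]) inferInstance inferInstance
  let Loc := Localization.Away (F f)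
  haveI : Algebra.FinitePresentation A[X] Loc := IsLocalization.Away.finitePresentation (F f)
  haveI : Algebra.FiniteType A[X] Loc := inferInstance
  haveI : Algebra.FiniteType k Loc := Algebra.FiniteType.trans (R := k) (S := A[X]) (A := Loc) inferInstance inferInstance
  haveI : IsDomain Loc := IsLocalization.isDomain_localization (powers_le_nonZeroDivisors_of_noZeroDivisors hf0)
  have hLinj : Function.Injective (algebraMap A[X] Loc) :=
    IsLocalization.injective Loc (powers_le_nonZeroDivisors_of_noZeroDivisors hf0)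
  let u : Loc := IsLocalization.Away.invSelf (F f)
  have hu1 : u * algebraMap A[X] Loc (F f) = 1 := by
    rw [mul_comm]; exact IsLocalization.Away.mul_invSelf (F f)
  let gens : Finset Loc := insert u (T.image fun e => algebraMap A[X] Loc (F e))
  let S' : Subalgebra k Loc := Algebra.adjoin k (↑gens : Set Loc)
  haveI : Algebra.FiniteType k S' := ⟨(Subalgebra.fg_top _).2 ⟨gens, rfl⟩⟩
  let uS : S' := ⟨u, Algebra.subset_adjoin (Finset.mem_coe.2 (Finset.mem_insert_self _ _))⟩
  let eS : T → S' := fun e => ⟨algebraMap A[X] Loc (F e), Algebra.subset_adjoin (Finset.mem_coe.2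
    (Finset.mem_insert_of_mem (Finset.mem_image_of_mem _ e.2)))⟩
  by_cases hunit : IsUnit uS
  · obtain ⟨vS, hv⟩ := hunit.exists_right_inv
    have hv' : u * (vS : Loc) = 1 := congrArg Subtype.val hv
    have hveq : (vS : Loc) = algebraMap A[X] Loc (F f) := by
      calc (vS : Loc) = (u * algebraMap A[X] Loc (F f)) * vS := by rw [hu1, one_mul]
        _ = algebraMap A[X] Loc (F f) * (u * vS) := by ring
        _ = _ := by rw [hv', mul_one]
    have hle : S' ≤ (Algebra.adjoin R {u}).restrictScalars k := Algebra.adjoin_le fun z hz => by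
      rcases Finset.mem_insert.1 (Finset.mem_coe.1 hz) with rfl | hz
      · exact Algebra.self_mem_adjoin_singleton R _
      · obtain ⟨e, he, rfl⟩ := Finset.mem_image.1 hz
        exact (Algebra.adjoin R {u}).algebraMap_mem
          (⟨F e, Algebra.subset_adjoin (Set.mem_image_of_mem F he)⟩ : R)
    have h := isIntegral_of_inv_mem_adjoin hv' (hle vS.2)
    rw [hveq] at h
    exact (isIntegral_algHom_iff (IsScalarTower.toAlgHom R A[X] Loc) hLinj).1 h
  exfalso
  -- the incidence set
  let Y : Set (Pt k (S' ⊗[k] A)) := {y |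
    (∀ e e' : T, (fstP y).ofConv (eS e) * (sndP y).ofConv (e' : A) =
      (fstP y).ofConv (eS e') * (sndP y).ofConv (e : A)) ∧
    ∀ e : T, (sndP y).ofConv f * (fstP y).ofConv uS * (fstP y).ofConv (eS e) = (sndP y).ofConv (e : A)}
  have hY : IsClosed Y := by
    have h₁ : ∀ a : S', IsReg (R := S' ⊗[k] A) fun y => (fstP y).ofConv a := fun a => (IsReg.eval a).comp IsMor.fstP
    have h₂ : ∀ a : A, IsReg (R := S' ⊗[k] A) fun y => (sndP y).ofConv a := fun a => (IsReg.eval a).comp IsMor.sndP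
    simp only [Y, Set.setOf_and, Set.setOf_forall]
    exact IsClosed.inter (isClosed_iInter fun e => isClosed_iInter fun e' =>
        IsReg.isClosed_eq ((h₁ _).mul (h₂ _)) ((h₁ _).mul (h₂ _)))
      (isClosed_iInter fun e => IsReg.isClosed_eq (((h₂ _).mul (h₁ _)).mul (h₁ _)) (h₂ _))
  have hYH : ∀ y ∈ Y, ∀ h ∈ H, pair (fstP y) (sndP y * h) ∈ Y := by
    rintro y ⟨hy1, hy2⟩ h hh
    have hmul : ∀ e : T, (sndP y * h).ofConv (e : A) = χ h * (sndP y).ofConv (e : A) := fun e => hT e e.2 _ h hh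
    refine ⟨fun e e' => ?_, fun e => ?_⟩
    · simp only [fstP_pair, sndP_pair, hmul]
      linear_combination χ h * hy1 e e'
    · simp only [fstP_pair, sndP_pair, hmul, hf _ h hh]
      linear_combination χ h * hy2 e
  have hZc := hc S' Y hY (fun _ _ => trivial) hYH
  -- the generic points lie in the image
  have hgen : ∀ z : Pt k Loc, pull S'.val z ∈ fstP '' Y := fun z => by
    let q : A[X] →ₐ[k] k := z.ofConv.comp (IsScalarTower.toAlgHom k A[X] Loc)
    let g : Pt k A := toConv (q.comp (IsScalarTower.toAlgHom k A A[X]))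
    have hq : ∀ e : A, z.ofConv (algebraMap A[X] Loc (F e)) = g.ofConv e * q Polynomial.X := fun e => by
      show q (Polynomial.C e * Polynomial.X) = _
      rw [map_mul]
      rfl
    have hzu : z.ofConv u * (g.ofConv f * q Polynomial.X) = 1 := by rw [← hq, ← map_mul, hu1, map_one]
    refine ⟨pair (pull S'.val z) g, ⟨fun e e' => ?_, fun e => ?_⟩, fstP_pair _ _⟩
    · simp only [fstP_pair, sndP_pair, pull_apply]
      show z.ofConv (algebraMap A[X] Loc (F e)) * _ = z.ofConv (algebraMap A[X] Loc (F e')) * _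
      rw [hq, hq]; ring
    · simp only [fstP_pair, sndP_pair, pull_apply]
      show g.ofConv f * z.ofConv u * z.ofConv (algebraMap A[X] Loc (F e)) = _
      rw [hq]
      linear_combination g.ofConv (e : A) * hzu
  have hall : ∀ s : Pt k S', s ∈ fstP '' Y := fun s => by
    rw [← zeros_vanish_of_isClosed hZc]
    intro b hb
    have hb0 : b = 0 := Subtype.ext (eq_zero_of_forall (k := k) fun z => hb _ (hgen z))
    rw [hb0, map_zero]
  obtain ⟨s, hs⟩ := exists_pt_mem (k := k) (R := S') (Z := PrimeSpectrum.zeroLocus {uS})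
    (by
      obtain ⟨M, hM, hmem⟩ := exists_max_ideal_of_mem_nonunits hunit
      exact ⟨⟨M, hM.isPrime⟩, by simpa using hmem⟩)
    (PrimeSpectrum.isClosed_zeroLocus _).isLocallyClosed
  have hsu : s.ofConv uS = 0 := by
    have h : uS ∈ (toP s).asIdeal := hs (Set.mem_singleton uS)
    rwa [toP_asIdeal, RingHom.mem_ker] at h
  obtain ⟨y, ⟨-, hy2⟩, hys⟩ := hall s
  obtain ⟨e, he, hne⟩ := hnz (sndP y)
  exact hne (by rw [← hy2 ⟨e, he⟩, hys, hsu, mul_zero, zero_mul])

end SemiX

/-- Membership in a generated algebra uses finitely many generators. -/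
theorem exists_finset_adjoin {S : Type u} [CommRing S] [Algebra k S] (Sy : Set S) {z : S} (hz : z ∈ Algebra.adjoin k Sy) :
    ∃ s : Finset S, ↑s ⊆ Sy ∧ z ∈ Algebra.adjoin k (↑s : Set S) := by
  classical
  induction hz using Algebra.adjoin_induction with
  | mem x hx => exact ⟨{x}, by simpa using hx, Algebra.subset_adjoin (by simp)⟩
  | algebraMap c => exact ⟨∅, by simp, Subalgebra.algebraMap_mem _ c⟩
  | add p q _ _ h1 h2 =>
    obtain ⟨s, hs, hp⟩ := h1
    obtain ⟨s', hs', hq⟩ := h2
    exact ⟨s ∪ s', by rw [Finset.coe_union]; exact Set.union_subset hs hs', add_mem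
      (Algebra.adjoin_mono (by simp) hp) (Algebra.adjoin_mono (by simp) hq)⟩
  | mul p q _ _ h1 h2 =>
    obtain ⟨s, hs, hp⟩ := h1
    obtain ⟨s', hs', hq⟩ := h2
    exact ⟨s ∪ s', by rw [Finset.coe_union]; exact Set.union_subset hs hs', mul_mem
      (Algebra.adjoin_mono (by simp) hp) (Algebra.adjoin_mono (by simp) hq)⟩

/-- Finitely many elements of a generated algebra use finitely many generators. -/
theorem exists_finset_le {S : Type u} [CommRing S] [Algebra k S] (Sy : Set S) (G : Finset S)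
    (hG : ∀ z ∈ G, z ∈ Algebra.adjoin k Sy) :
    ∃ s : Finset S, ↑s ⊆ Sy ∧ Algebra.adjoin k (↑G : Set S) ≤ Algebra.adjoin k (↑s : Set S) := by
  classical
  induction G using Finset.induction_on with
  | empty => exact ⟨∅, by simp, le_rfl⟩
  | insert z G hz ih =>
    obtain ⟨s, hs, hle⟩ := ih fun y hy => hG y (Finset.mem_insert_of_mem hy)
    obtain ⟨t, ht, hzt⟩ := exists_finset_adjoin Sy (hG z (Finset.mem_insert_self z G))
    refine ⟨s ∪ t, by rw [Finset.coe_union]; exact Set.union_subset hs ht, Algebra.adjoin_le ?_⟩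
    rw [Finset.coe_insert]
    refine Set.insert_subset (Algebra.adjoin_mono (by simp) hzt) ?_
    exact fun y hy => Algebra.adjoin_mono (by simp) (hle (Algebra.subset_adjoin hy))

variable {R : Type u} [CommRing R] [Algebra k R] {B : Subgroup (Pt k A)} (D : HeightData B)
  {r : RegRep (⊤ : Subgroup (Pt k A)) R} {hlf : LocFin r}

lemma evV_mul (x : Pt k A) (z z' : A ⊗[k] R) : evV x (z * z') = evV x z * evV x z' := by
  induction z using TensorProduct.induction_on with
  | zero => simp
  | add p q hp hq => simp only [add_mul, map_add, hp, hq]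
  | tmul a b =>
    induction z' using TensorProduct.induction_on with
    | zero => simp
    | add p q hp hq => simp only [mul_add, map_add, hp, hq]
    | tmul c d =>
      rw [Algebra.TensorProduct.tmul_mul_tmul, evV_tmul, evV_tmul, evV_tmul, map_mul, smul_mul_smul_comm]

/-- Multiplicativity of a representation on an algebra. -/
def IsAlgRep (r : RegRep (⊤ : Subgroup (Pt k A)) R) : Prop :=
  (∀ g, r.ρ g 1 = 1) ∧ ∀ (g : Pt k A) (a b : R), r.ρ g (a * b) = r.ρ g a * r.ρ g b

variable (hr : IsAlgRep r)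
include hr

lemma IsWtV.mul' {m n : ℤ} {a b : R} (ha : IsWtV r D.lam m a) (hb : IsWtV r D.lam n b) :
    IsWtV r D.lam (m + n) (a * b) := fun z => by
  rw [hr.2, ha z, hb z, smul_mul_smul_comm, ← Units.val_mul, zpow_add]

lemma pr_one (n : ℤ) : pr D r hlf n 1 = if 0 = n then 1 else 0 :=
  pr_of_isWtV D r hlf (fun z => by rw [hr.1, zpow_zero, Units.val_one, one_smul]) n

lemma one_mem_filt : (1 : R) ∈ filt D r hlf 0 := fun g j hj => by
  rw [hr.1, pr_one D hr, if_neg (ne_of_lt hj)]

lemma pr_mul {m n : ℤ} {a b : R} (ha : ∀ i, m < i → pr D r hlf i a = 0) (hb : ∀ i, n < i → pr D r hlf i b = 0)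
    {j : ℤ} (hj : m + n ≤ j) :
    pr D r hlf j (a * b) = if j = m + n then pr D r hlf m a * pr D r hlf n b else 0 := by
  classical
  obtain ⟨s, hs, hs0⟩ := sum_pr D r hlf a
  obtain ⟨t, ht, ht0⟩ := sum_pr D r hlf b
  conv_lhs => rw [hs, ht, Finset.sum_mul_sum, map_sum]
  simp only [map_sum]
  have hterm : ∀ p q : ℤ, pr D r hlf j (pr D r hlf p a * pr D r hlf q b) =
      if p = m ∧ q = n ∧ j = m + n then pr D r hlf m a * pr D r hlf n b else 0 := fun p q => by
    rw [pr_of_isWtV D r hlf (IsWtV.mul' D hr (isWtV_pr D r hlf p a) (isWtV_pr D r hlf q b))]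
    by_cases hp : m < p
    · rw [ha p hp, zero_mul, ite_self, if_neg (fun h => absurd h.1 (ne_of_gt hp))]
    by_cases hq : n < q
    · rw [hb q hq, mul_zero, ite_self, if_neg (fun h => absurd h.2.1 (ne_of_gt hq))]
    by_cases hpq : p + q = j
    · obtain ⟨rfl, rfl⟩ : p = m ∧ q = n := ⟨by omega, by omega⟩
      rw [if_pos hpq, if_pos ⟨rfl, rfl, hpq.symm⟩]
    · rw [if_neg hpq, if_neg]
      rintro ⟨rfl, rfl, h⟩
      exact hpq h.symm
  simp only [hterm]
  by_cases hje : j = m + n
  · simp only [hje, and_true, if_true, ite_and]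
    rw [Finset.sum_eq_single m (fun p _ hp => Finset.sum_eq_zero fun q _ => if_neg hp) fun hm => ?_]
    · simp only [if_true]
      rw [Finset.sum_ite_eq']
      split_ifs with hn
      · rfl
      · rw [ht0 n hn, mul_zero]
    · refine Finset.sum_eq_zero fun q _ => ?_
      rw [if_pos rfl, hs0 m hm, zero_mul, ite_self]
  · simp [hje]

lemma mul_mem_filt {m n : ℤ} {a b : R} (ha : a ∈ filt D r hlf m) (hb : b ∈ filt D r hlf n) :
    a * b ∈ filt D r hlf (m + n) := fun g j hj => by
  rw [hr.2, pr_mul D hr (ha g) (hb g) hj.le, if_neg (ne_of_gt hj)]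

variable [_root_.IsReduced A]

lemma sym_one : sym D r hlf 0 1 = 1 := evV_ext fun x => by
  rw [evV_sym, hr.1, pr_one D hr, if_pos rfl, Algebra.TensorProduct.one_def, evV_tmul, map_one, one_smul]

lemma sym_mul {m n : ℤ} {a b : R} (ha : a ∈ filt D r hlf m) (hb : b ∈ filt D r hlf n) :
    sym D r hlf (m + n) (a * b) = sym D r hlf m a * sym D r hlf n b := evV_ext fun x => by
  rw [evV_mul, evV_sym, evV_sym, evV_sym, hr.2, pr_mul D hr (ha x⁻¹) (hb x⁻¹) le_rfl, if_pos rfl]

/-- An algebra whose symbols are generated by finitely many symbols is finitely generated. -/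
theorem fg_of_symbols (S0 : Finset (A ⊗[k] R))
    (hS0 : ∀ z : S0, ∃ n a, a ∈ filt D r hlf n ∧ (z : A ⊗[k] R) = sym D r hlf n a)
    (hsymle : ∀ (n : ℤ) (a : R), a ∈ filt D r hlf n → sym D r hlf n a ∈ Algebra.adjoin k (↑S0 : Set (A ⊗[k] R))) :
    Algebra.FiniteType k R := by
  classical
  choose nz az haz hzeq using hS0
  let R' : Subalgebra k R := Algebra.adjoin k (↑(Finset.univ.image az) : Set R)
  have hclo : ∀ z ∈ Submonoid.closure (↑S0 : Set (A ⊗[k] R)),
      ∃ n b, b ∈ R' ∧ b ∈ filt D r hlf n ∧ z = sym D r hlf n b := by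
    intro z hz
    induction hz using Submonoid.closure_induction with
    | mem x hx => exact ⟨_, az ⟨x, hx⟩, Algebra.subset_adjoin (Finset.mem_coe.2
        (Finset.mem_image_of_mem az (Finset.mem_univ _))), haz _, hzeq ⟨x, hx⟩⟩
    | one => exact ⟨0, 1, one_mem _, one_mem_filt D hr, (sym_one D hr).symm⟩
    | mul p q _ _ h1 h2 =>
      obtain ⟨m, b, hb, hbf, rfl⟩ := h1
      obtain ⟨n, c, hc, hcf, rfl⟩ := h2
      exact ⟨m + n, b * c, mul_mem hb hc, mul_mem_filt D hr hbf hcf, (sym_mul D hr hbf hcf).symm⟩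
  have hproj : ∀ (m n : ℤ) (b : R), (pr D r hlf n).lTensor A (sym D r hlf m b) =
      if m = n then sym D r hlf m b else 0 := fun m n b => by
    have hev : ∀ (x : Pt k A) (z : A ⊗[k] R), evV x ((pr D r hlf n).lTensor A z) = pr D r hlf n (evV x z) := fun x z => by
      induction z using TensorProduct.induction_on with
      | zero => simp
      | add p q hp hq => simp only [map_add, hp, hq]
      | tmul a c => simp
    refine evV_ext fun x => ?_
    rw [hev, evV_sym, pr_of_isWtV D r hlf (isWtV_pr D r hlf m _)]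
    split_ifs
    · rw [evV_sym]
    · rw [map_zero]
  have hlift : ∀ z ∈ Algebra.adjoin k (↑S0 : Set (A ⊗[k] R)), ∀ n : ℤ,
      ∃ b, b ∈ R' ∧ b ∈ filt D r hlf n ∧ (pr D r hlf n).lTensor A z = sym D r hlf n b := by
    intro z hz n
    rw [← Subalgebra.mem_toSubmodule, Algebra.adjoin_eq_span] at hz
    induction hz using Submodule.span_induction with
    | mem x hx =>
      obtain ⟨m, b, hb, hbf, rfl⟩ := hclo x hx
      rw [hproj]
      split_ifs with he
      · subst he; exact ⟨b, hb, hbf, rfl⟩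
      · exact ⟨0, zero_mem _, zero_mem _, by rw [map_zero]⟩
    | zero => exact ⟨0, zero_mem _, zero_mem _, by rw [map_zero, map_zero]⟩
    | add p q _ _ h1 h2 =>
      obtain ⟨b, hb, hbf, e1⟩ := h1
      obtain ⟨c, hc, hcf, e2⟩ := h2
      exact ⟨b + c, add_mem hb hc, add_mem hbf hcf, by rw [map_add, map_add, e1, e2]⟩
    | smul c p _ h1 =>
      obtain ⟨b, hb, hbf, e1⟩ := h1
      exact ⟨c • b, R'.smul_mem hb c, Submodule.smul_mem _ c hbf, by rw [map_smul, map_smul, e1]⟩
  have hall : ∀ (n : ℕ) (a : R), a ∈ filt D r hlf ((n : ℤ) - 1) → a ∈ R' := by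
    intro n
    induction n with
    | zero => intro a ha; rw [filt_neg (by norm_num) ha]; exact zero_mem _
    | succ n ih =>
      intro a ha
      rw [show ((n + 1 : ℕ) : ℤ) - 1 = n by push_cast; ring] at ha
      have hz : sym D r hlf n a ∈ Algebra.adjoin k (↑S0 : Set (A ⊗[k] R)) := hsymle n a ha
      obtain ⟨b, hb, hbf, hbe⟩ := hlift _ hz n
      rw [hproj, if_pos rfl] at hbe
      have hab : a - b ∈ filt D r hlf ((n : ℤ) - 1) :=
        mem_filt_of_sym (sub_mem ha hbf) (by rw [map_sub, hbe, sub_self])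
      have h := ih _ hab
      have := add_mem h hb
      rwa [sub_add_cancel] at this
  refine ⟨⟨Finset.univ.image az, eq_top_iff.2 fun a _ => ?_⟩⟩
  obtain ⟨n, hn⟩ := exists_mem_filt (D := D) (r := r) (hlf := hlf) a
  exact hall (n + 1) a (by push_cast; simpa using hn)

omit hr in
/-- Weight vectors generating the fixed algebra. -/
theorem exists_weight_gens [IsDomain A] (hlf : LocFin r) (hfg : ∃ t : Finset R, (↑t : Set R) ⊆ fixU D r ∧
    ∀ a ∈ fixU D r, a ∈ Algebra.adjoin k (↑t : Set R)) :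
    ∃ ws : Finset R, (∀ x ∈ ws, x ≠ 0 ∧ x ∈ fixU D r ∧ r.IsWeight D.S x) ∧
      ∀ a ∈ fixU D r, a ∈ Algebra.adjoin k (↑ws : Set R) := by
  classical
  obtain ⟨t, ht, hgen⟩ := hfg
  let E : Set R := {x : R | x ∈ fixU D r ∧ r.IsWeight D.S x}
  have htE : ∀ a : t, (a : R) ∈ Submodule.span k E := fun a => by
    obtain ⟨W, hWf, haW, hW⟩ := hlf (a : R)
    haveI := hWf
    exact mem_span_fixU D hW haW (ht a.2)
  choose tw htw hatw using fun a => Submodule.mem_span_finite_of_mem_span (htE a)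
  refine ⟨(Finset.univ.biUnion tw).erase 0, fun x hx => ?_, fun a ha => ?_⟩
  · obtain ⟨b, -, hb⟩ := Finset.mem_biUnion.1 (Finset.mem_of_mem_erase hx)
    exact ⟨Finset.ne_of_mem_erase hx, htw b hb⟩
  refine Algebra.adjoin_le (fun y hy => ?_) (hgen a ha)
  refine (Submodule.span_le (p := Subalgebra.toSubmodule (Algebra.adjoin k
    (↑((Finset.univ.biUnion tw).erase 0) : Set R)))).2 (fun x hx => ?_) (hatw ⟨y, hy⟩)
  by_cases hx0 : x = 0
  · rw [hx0]; exact zero_mem _
  · exact Algebra.subset_adjoin (Finset.mem_erase.2 ⟨hx0, Finset.mem_biUnion.2 ⟨_, Finset.mem_univ _, hx⟩⟩)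

/-- Translates without common zero of the coefficient function of a fixed weight vector. -/
theorem exists_translates [IsDomain A] {v : R} (hv0 : v ≠ 0) (hv : v ∈ fixU D r) {n : ℤ} (hn : IsWtV r D.lam n v)
    {χ : Pt k A → k} (hχ : ∀ s ∈ D.S, r.ρ s v = χ s • v) :
    ∃ ts : Finset A, (∀ y ∈ ts, SemiInv D.Bm (chN D χ) y ∧
      ∃ a ∈ filt D r hlf n, sym D r hlf n a = y ⊗ₜ[k] v) ∧ ∀ x : Pt k A, ∃ y ∈ ts, x.ofConv y ≠ 0 := by
  classical
  obtain ⟨hwf, hsp⟩ := fixU_top (hlf := hlf) hv hn hχ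
  obtain ⟨f, hf, e⟩ := sym_semiInv D (n := n) hwf (w := fun _ : PUnit.{u + 1} => v)
    (LinearIndependent.of_subsingleton PUnit.unit hv0) (χ := fun _ => χ) (fun _ => hχ)
    (fun g => by rw [Set.range_const]; exact hsp g)
  simp only [Finset.univ_unique, Finset.sum_singleton] at e
  set e0 := f default with he0
  have hx : ∀ x : Pt k A, pr D r hlf n (r.ρ x⁻¹ v) = x.ofConv e0 • v := fun x => by
    rw [← evV_sym, e, evV_tmul]
  have h1 : (1 : Pt k A).ofConv e0 ≠ 0 := fun h0 => hv0 (by
    have h := hx 1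
    rw [inv_one, r.map_one, Module.End.one_apply, pr_of_isWtV D r hlf hn, if_pos rfl, h0, zero_smul] at h
    exact h)
  have htop : Ideal.span (Set.range fun g : Pt k A => ObsLib.lT g⁻¹ e0) = ⊤ := by
    by_contra hne
    obtain ⟨M, hM, hle⟩ := Ideal.exists_le_maximal _ hne
    obtain ⟨g, hg⟩ := exists_pt_mem (k := k) (R := A) (Z := PrimeSpectrum.zeroLocus (M : Set A))
      ⟨⟨M, hM.isPrime⟩, fun _ h => h⟩ (PrimeSpectrum.isClosed_zeroLocus _).isLocallyClosed
    have h2 : ObsLib.lT g⁻¹ e0 ∈ (toP g).asIdeal := hg (hle (Ideal.subset_span ⟨g, rfl⟩))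
    rw [toP_asIdeal, RingHom.mem_ker] at h2
    change g.ofConv (ObsLib.lT g⁻¹ e0) = 0 at h2
    rw [eval_lT, inv_mul_cancel] at h2
    exact h1 h2
  obtain ⟨T, hT, h1T⟩ := Submodule.mem_span_finite_of_mem_span ((Ideal.eq_top_iff_one _).1 htop)
  refine ⟨T, fun y hy => ?_, fun x => ?_⟩
  · obtain ⟨g, rfl⟩ := hT hy
    refine ⟨(hf default).lT _, r.ρ g v, rho_mem_filt hwf g, evV_ext fun x => ?_⟩
    rw [evV_sym, evV_tmul, eval_lT, ← r.mul_apply trivial trivial, ← hx, mul_inv_rev, inv_inv]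
  · by_contra! h
    have hle : Ideal.span (↑T : Set A) ≤ RingHom.ker x.ofConv.toRingHom := Ideal.span_le.2 fun y hy => h y hy
    exact one_ne_zero ((map_one x.ofConv).symm.trans (hle h1T))

section Model

open MvPolynomial

variable {ι : Type u} [Fintype ι] (w : ι → R)

/-- Monomials in weight vectors. -/
def mon (m : ι → ℕ) : R := ∏ i, w i ^ m i

variable (N : ι → ℤ) (χ : ι → Pt k A → k)

/-- The exponent of a monomial. -/
def degM (m : ι → ℕ) : ℤ := ∑ i, (m i : ℤ) * N i

/-- The character of a monomial. -/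
def chiM (m : ι → ℕ) (s : Pt k A) : k := ∏ i, χ i s ^ m i

omit hr [Fintype ι] in
lemma prod_zpow_pow (z : kˣ) (m : ι → ℕ) (s : Finset ι) :
    ((z ^ (∑ i ∈ s, (m i : ℤ) * N i) : kˣ) : k) = ∏ i ∈ s, ((z ^ N i : kˣ) : k) ^ m i := by
  classical
  induction s using Finset.induction_on with
  | empty => simp
  | insert i s hi ih =>
    rw [Finset.sum_insert hi, Finset.prod_insert hi, zpow_add, Units.val_mul, ih, mul_comm (m i : ℤ),
      zpow_mul, zpow_natCast, Units.val_pow_eq_pow_val]

lemma rho_mon (g : Pt k A) (m : ι → ℕ) : r.ρ g (mon w m) = ∏ i, (r.ρ g (w i)) ^ m i := by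
  let rh : R →* R := { toFun := r.ρ g, map_one' := hr.1 g, map_mul' := hr.2 g }
  show rh (∏ i, w i ^ m i) = _
  rw [map_prod]
  simp only [map_pow]
  rfl

variable {w N χ}

lemma mon_weight (hχ : ∀ i, ∀ s ∈ D.S, r.ρ s (w i) = χ i s • w i) (m : ι → ℕ) {s : Pt k A} (hs : s ∈ D.S) :
    r.ρ s (mon w m) = chiM χ m s • mon w m := by
  rw [rho_mon hr]
  simp only [hχ _ _ hs, smul_pow, Finset.prod_smul]
  rfl

lemma mon_wt (hN : ∀ i, IsWtV r D.lam (N i) (w i)) (m : ι → ℕ) : IsWtV r D.lam (degM N m) (mon w m) := fun z => by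
  rw [rho_mon hr, degM, prod_zpow_pow]
  simp only [hN _ z, smul_pow, Finset.prod_smul]
  rfl

lemma mem_span_mon (hN : ∀ i, IsWtV r D.lam (N i) (w i))
    (hgen : ∀ a ∈ fixU D r, a ∈ Algebra.adjoin k (Set.range w)) {n : ℤ} {v : R} (hv : v ∈ fixU D r)
    (hvn : IsWtV r D.lam n v) (hlf : LocFin r) : v ∈ Submodule.span k (mon w '' {m | degM N m = n}) := by
  classical
  have h1 : ∀ p ∈ Submodule.span k (Set.range (mon w)),
      pr D r hlf n p ∈ Submodule.span k (mon w '' {m | degM N m = n}) := by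
    intro p hp
    induction hp using Submodule.span_induction with
    | mem x hx =>
      obtain ⟨m, rfl⟩ := hx
      rw [pr_of_isWtV D r hlf (mon_wt D hr hN m)]
      split_ifs with he
      · exact Submodule.subset_span ⟨m, he, rfl⟩
      · exact zero_mem _
    | zero => rw [map_zero]; exact zero_mem _
    | add p q _ _ h1 h2 => rw [map_add]; exact add_mem h1 h2
    | smul c p _ h1 => rw [map_smul]; exact Submodule.smul_mem _ c h1
  have h3 := hgen v hv
  rw [← Subalgebra.mem_toSubmodule, Algebra.adjoin_eq_span] at h3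
  have h2 := h1 v (Submodule.span_mono (fun x hx => by
    obtain ⟨m, rfl⟩ := Submonoid.mem_closure_range_iff_of_fintype.1 hx
    exact ⟨m, rfl⟩) h3)
  rwa [pr_of_isWtV D r hlf hvn, if_pos rfl] at h2

variable (w)

/-- The evaluation of the polynomial model. -/
def modelMap : MvPolynomial ι A →ₐ[k] A ⊗[k] R :=
  MvPolynomial.aevalTower Algebra.TensorProduct.includeLeft fun i => (1 : A) ⊗ₜ[k] w i

omit hr [Fintype ι] in
lemma modelMap_C_mul_X (f : A) (i : ι) : modelMap w (C f * X i) = f ⊗ₜ[k] w i := by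
  rw [map_mul, modelMap, aevalTower_C, aevalTower_X, Algebra.TensorProduct.includeLeft_apply,
    Algebra.TensorProduct.tmul_mul_tmul, mul_one, one_mul]

omit hr in
lemma modelMap_mon (f : A) (m : ι → ℕ) : modelMap w (C f * ∏ i, X i ^ m i) = f ⊗ₜ[k] mon w m := by
  classical
  simp only [modelMap, map_mul, map_prod, map_pow, aevalTower_C, aevalTower_X,
    Algebra.TensorProduct.includeLeft_apply]
  have key : ∀ s : Finset ι, (∏ i ∈ s, ((1 : A) ⊗ₜ[k] w i) ^ m i) = (1 : A) ⊗ₜ[k] ∏ i ∈ s, w i ^ m i := fun s => by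
    induction s using Finset.induction_on with
    | empty => simp [Algebra.TensorProduct.one_def]
    | insert i s hi ih =>
      rw [Finset.prod_insert hi, Finset.prod_insert hi, ih, Algebra.TensorProduct.tmul_pow,
        Algebra.TensorProduct.tmul_mul_tmul, one_pow, one_mul]
  rw [key, Algebra.TensorProduct.tmul_mul_tmul, mul_one, one_mul]
  rfl

variable {w}

omit hr in
lemma isIntegral_mon [IsDomain A] (ts : ι → Finset A) (hts : ∀ i, ∀ y ∈ ts i, SemiInv D.Bm (chN D (χ i)) y)
    (hnz : ∀ i, ∀ x : Pt k A, ∃ y ∈ ts i, x.ofConv y ≠ 0) (R0 : Subalgebra k (MvPolynomial ι A))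
    (hR0 : ∀ i, ∀ y ∈ ts i, C y * X i ∈ R0) (m : ι → ℕ) {f : A} (hf : SemiInv D.Bm (chN D (chiM χ m)) f) :
    IsIntegral R0 (C f * ∏ i, X i ^ m i) := by
  classical
  have hTp : IsPreconnected ((⊤ : Subgroup (Pt k A)) : Set (Pt k A)) := by
    rw [Subgroup.coe_top]; exact (isIrreducible_univ (k := k) (R := A)).isConnected.isPreconnected
  have hTc : IsClosed ((⊤ : Subgroup (Pt k A)) : Set (Pt k A)) := by rw [Subgroup.coe_top]; exact isClosed_univ
  let T : Finset A := (Fintype.piFinset ts).image fun c => ∏ i, c i ^ m i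
  have hT : ∀ y ∈ T, SemiInv D.Bm (chN D (chiM χ m)) y := fun y hy x b hb => by
    obtain ⟨c, hc, rfl⟩ := Finset.mem_image.1 hy
    rw [map_prod, map_prod, show chN D (chiM χ m) b = ∏ i, chN D (χ i) b ^ m i from rfl, ← Finset.prod_mul_distrib]
    refine Finset.prod_congr rfl fun i _ => ?_
    rw [map_pow, map_pow, hts i _ (Fintype.mem_piFinset.1 hc i) x b hb, mul_pow]
  have hTnz : ∀ x : Pt k A, ∃ y ∈ T, x.ofConv y ≠ 0 := fun x => by
    choose c hc hcx using fun i => hnz i x
    refine ⟨∏ i, c i ^ m i, Finset.mem_image.2 ⟨c, Fintype.mem_piFinset.2 hc, rfl⟩, ?_⟩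
    rw [map_prod]
    refine Finset.prod_ne_zero_iff.2 fun i _ => ?_
    rw [map_pow]
    exact pow_ne_zero _ (hcx i)
  have h := isIntegral_semiX (D.bor.complete hTc hTp) hT hTnz hf
  let φ : Polynomial A →ₐ[k] MvPolynomial ι A :=
    (Polynomial.aeval (∏ i, X i ^ m i : MvPolynomial ι A)).restrictScalars k
  have hφ : ∀ y : A, φ (Polynomial.C y * Polynomial.X) = C y * ∏ i, X i ^ m i := fun y => by
    simp [φ, MvPolynomial.algebraMap_eq]
  have hle : Algebra.adjoin k ((fun y : A => Polynomial.C y * Polynomial.X) '' (↑T : Set A)) ≤ R0.comap φ := by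
    refine Algebra.adjoin_le ?_
    rintro _ ⟨y, hy, rfl⟩
    obtain ⟨c, hc, rfl⟩ := Finset.mem_image.1 hy
    show φ _ ∈ R0
    rw [hφ, map_prod, ← Finset.prod_mul_distrib]
    refine R0.prod_mem fun i _ => ?_
    rw [map_pow, ← mul_pow]
    exact R0.pow_mem (hR0 i _ (Fintype.mem_piFinset.1 hc i)) _
  rw [← hφ]
  exact h.map_of_comp_eq ((φ.comp (Algebra.adjoin k _).val).codRestrict R0 fun q => hle q.2).toRingHom
    φ.toRingHom (RingHom.ext fun q => rfl)

lemma exists_integral_preimage [IsDomain A] (hN : ∀ i, IsWtV r D.lam (N i) (w i))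
    (hχ : ∀ i, ∀ s ∈ D.S, r.ρ s (w i) = χ i s • w i)
    (hgen : ∀ a ∈ fixU D r, a ∈ Algebra.adjoin k (Set.range w)) (ts : ι → Finset A)
    (hts : ∀ i, ∀ y ∈ ts i, SemiInv D.Bm (chN D (χ i)) y) (hnz : ∀ i, ∀ x : Pt k A, ∃ y ∈ ts i, x.ofConv y ≠ 0)
    (R0 : Subalgebra k (MvPolynomial ι A)) (hR0 : ∀ i, ∀ y ∈ ts i, C y * X i ∈ R0) (hlf : LocFin r) {n : ℤ} {a : R}
    (ha : a ∈ filt D r hlf n) : ∃ p, IsIntegral R0 p ∧ modelMap w p = sym D r hlf n a := by
  classical
  obtain ⟨W, hWf, haW, hW⟩ := hlf a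
  haveI := hWf
  haveI : FiniteDimensional k ↥(W ⊓ Submodule.span k (mon w '' {m | degM N m = n})) :=
    Submodule.finiteDimensional_of_le inf_le_left
  let bW := Module.finBasis k ↥(W ⊓ Submodule.span k (mon w '' {m | degM N m = n}))
  choose tj htj hbj using fun j => Submodule.mem_span_finite_of_mem_span (Submodule.mem_inf.1 (bW j).2).2
  let T : Finset R := Finset.univ.biUnion tj
  have hT : ∀ x : T, ∃ m, degM N m = n ∧ mon w m = (x : R) := fun x => by
    obtain ⟨j, -, hj⟩ := Finset.mem_biUnion.1 x.2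
    exact htj j hj
  choose mm hmm hmon using hT
  obtain ⟨κ, c, hc, hcspan, hcli⟩ := exists_linearIndependent' (K := k) (v := (Subtype.val : T → R))
  haveI : Finite κ := Finite.of_injective c hc
  haveI : Fintype κ := Fintype.ofFinite κ
  obtain ⟨f, hf, hfe⟩ := sym_semiInv D (n := n) ha hcli (χ := fun j => chiM χ (mm (c j)))
    (fun j s hs => by
      show r.ρ s ((c j : T) : R) = _ • ((c j : T) : R)
      rw [← hmon]; exact mon_weight D hr hχ _ hs)
    (fun g => by
      rw [hcspan, Subtype.range_coe]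
      have h1 : pr D r hlf n (r.ρ g a) ∈ W ⊓ Submodule.span k (mon w '' {m | degM N m = n}) :=
        ⟨pr_mem D r hlf hW (hW g trivial _ haW) n,
          mem_span_mon D hr hN hgen (pr_mem_fixU ha g) (isWtV_pr D r hlf n _) hlf⟩
      have h2 := congrArg Subtype.val (bW.sum_repr ⟨_, h1⟩)
      simp only [Submodule.coe_sum, Submodule.coe_smul] at h2
      rw [← h2]
      exact Submodule.sum_mem _ fun j _ => Submodule.smul_mem _ _ (Submodule.span_mono
        (Finset.coe_subset.2 (Finset.subset_biUnion_of_mem tj (Finset.mem_univ j))) (hbj j)))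
  refine ⟨∑ j, C (f j) * ∏ i, X i ^ mm (c j) i,
    IsIntegral.sum _ fun j _ => isIntegral_mon D ts hts hnz R0 hR0 _ (hf j), ?_⟩
  rw [hfe, map_sum]
  refine Finset.sum_congr rfl fun j _ => ?_
  rw [modelMap_mon, hmon]
  rfl

omit hr in
/-- Sets with integral preimages over a finitely generated algebra generate finitely generated algebras. -/
theorem exists_finset_of_integral [IsDomain A] (ψ : MvPolynomial ι A →ₐ[k] A ⊗[k] R)
    (R0 : Subalgebra k (MvPolynomial ι A)) (gens : Finset (MvPolynomial ι A)) (hR0 : R0 = Algebra.adjoin k ↑gens)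
    (Sy : Set (A ⊗[k] R)) (hgens : ∀ p ∈ gens, ψ p ∈ Sy) (hint : ∀ z ∈ Sy, ∃ p, IsIntegral R0 p ∧ ψ p = z) :
    ∃ S0 : Finset (A ⊗[k] R), ↑S0 ⊆ Sy ∧ Sy ⊆ Algebra.adjoin k (↑S0 : Set (A ⊗[k] R)) := by
  classical
  haveI : Algebra.FiniteType k (MvPolynomial ι A) :=
    Algebra.FiniteType.trans (R := k) (S := A) (A := MvPolynomial ι A) inferInstance inferInstance
  have hR0fg : R0.FG := ⟨gens, hR0.symm⟩
  haveI := finite_integralClosure_sub k _ R0 hR0fg
  haveI : Algebra.FiniteType k R0 := ⟨(Subalgebra.fg_top _).2 hR0fg⟩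
  haveI : IsNoetherianRing R0 := Algebra.FiniteType.isNoetherianRing k R0
  have hR0Sy : ∀ p ∈ R0, ψ p ∈ Algebra.adjoin k Sy := fun p hp =>
    (Algebra.adjoin_le (S := (Algebra.adjoin k Sy).comap ψ) fun q hq => Algebra.subset_adjoin (hgens q hq)) (hR0 ▸ hp)
  let M : Submodule R0 (MvPolynomial ι A) :=
    { carrier := {p | IsIntegral R0 p ∧ ψ p ∈ Algebra.adjoin k Sy}
      add_mem' := fun {p q} hp hq => ⟨hp.1.add hq.1, by rw [map_add]; exact add_mem hp.2 hq.2⟩
      zero_mem' := ⟨isIntegral_zero, by rw [map_zero]; exact zero_mem _⟩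
      smul_mem' := fun c {p} hp => ⟨hp.1.smul c, by
        rw [show c • p = (c : MvPolynomial ι A) * p from rfl, map_mul]
        exact mul_mem (hR0Sy _ c.2) hp.2⟩ }
  have hMfg : M.FG := by
    haveI : Module.Finite R0 (integralClosure R0 (MvPolynomial ι A)).toSubmodule :=
      ‹Module.Finite R0 (integralClosure R0 (MvPolynomial ι A))›
    haveI : IsNoetherian R0 (integralClosure R0 (MvPolynomial ι A)).toSubmodule :=
      @isNoetherian_of_isNoetherianRing_of_finite R0 _ _ _ _ _ this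
    have hle : M ≤ (integralClosure R0 (MvPolynomial ι A)).toSubmodule := fun p hp => hp.1
    exact Submodule.FG.of_le_of_isNoetherian hle
  obtain ⟨G', hG'⟩ := hMfg
  let Gall : Finset (A ⊗[k] R) := (gens ∪ G').image ψ
  have hGall : ∀ z ∈ Gall, z ∈ Algebra.adjoin k Sy := fun z hz => by
    obtain ⟨p, hp, rfl⟩ := Finset.mem_image.1 hz
    rcases Finset.mem_union.1 hp with h | h
    · exact Algebra.subset_adjoin (hgens p h)
    · exact (hG' ▸ Submodule.subset_span (Finset.mem_coe.2 h) : p ∈ M).2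
  obtain ⟨S0, hS0, hgle⟩ := exists_finset_le (S := A ⊗[k] R) Sy Gall hGall
  refine ⟨S0, hS0, fun z hz => hgle ?_⟩
  obtain ⟨p, hp, rfl⟩ := hint z hz
  have h : p ∈ Submodule.span R0 (↑G' : Set (MvPolynomial ι A)) := hG'.symm ▸ (⟨hp, Algebra.subset_adjoin hz⟩ : p ∈ M)
  obtain ⟨c, -, rfl⟩ := Submodule.mem_span_finset.1 h
  rw [map_sum]
  refine Subalgebra.sum_mem _ fun q hq => ?_
  rw [show c q • q = (c q : MvPolynomial ι A) * q from rfl, map_mul]
  refine mul_mem ?_ (Algebra.subset_adjoin (Finset.mem_coe.2 (Finset.mem_image_of_mem _ (Finset.mem_union_right _ hq))))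
  exact (Algebra.adjoin_le (S := (Algebra.adjoin k (↑Gall : Set (A ⊗[k] R))).comap ψ) fun q hq =>
    Algebra.subset_adjoin (Finset.mem_coe.2 (Finset.mem_image_of_mem _ (Finset.mem_union_left _ hq))))
    (hR0.le (c q).2)

end Model

/-- **An algebra with finitely generated fixed algebra of the contracted part is finitely generated.** -/
theorem fg_of_fixU [IsDomain A] (hfg : ∃ t : Finset R, (↑t : Set R) ⊆ fixU D r ∧
    ∀ a ∈ fixU D r, a ∈ Algebra.adjoin k (↑t : Set R)) (hlf : LocFin r) : Algebra.FiniteType k R := by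
  classical
  obtain ⟨ws, hws, hgen⟩ := exists_weight_gens D hlf hfg
  let w : ws → R := Subtype.val
  choose N χ hN hχ using fun i : ws => exists_weight_exponent D (hws _ i.2).1 (hws _ i.2).2.2
  choose ts hts hnz using fun i : ws =>
    exists_translates D hr (hlf := hlf) (hws _ i.2).1 (hws _ i.2).2.1 (hN i) (hχ i)
  let gens : Finset (MvPolynomial ws A) :=
    Finset.univ.biUnion fun i => (ts i).image fun y => MvPolynomial.C y * MvPolynomial.X i
  have hgw : ∀ a ∈ fixU D r, a ∈ Algebra.adjoin k (Set.range w) := fun a ha => by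
    have h := hgen a ha
    rwa [show Set.range w = (↑ws : Set R) from Subtype.range_coe]
  have hR0 : ∀ i, ∀ y ∈ ts i, MvPolynomial.C y * MvPolynomial.X i ∈ Algebra.adjoin k (↑gens : Set (MvPolynomial ws A)) :=
    fun i y hy => Algebra.subset_adjoin (Finset.mem_coe.2 (Finset.mem_biUnion.2
      ⟨i, Finset.mem_univ _, Finset.mem_image_of_mem _ hy⟩))
  obtain ⟨S0, hS0, hSy⟩ := exists_finset_of_integral (modelMap w) _ gens rfl
    {z : A ⊗[k] R | ∃ n a, a ∈ filt D r hlf n ∧ z = sym D r hlf n a}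
    (fun p hp => by
      obtain ⟨i, -, hp⟩ := Finset.mem_biUnion.1 hp
      obtain ⟨y, hy, rfl⟩ := Finset.mem_image.1 hp
      obtain ⟨-, a, ha, e⟩ := hts i y hy
      exact ⟨N i, a, ha, (modelMap_C_mul_X w y i).trans e.symm⟩)
    (fun z hz => by
      obtain ⟨n, a, ha, rfl⟩ := hz
      exact exists_integral_preimage D hr hN hχ hgw ts (fun i y hy => (hts i y hy).1) hnz _ hR0 hlf ha)
  exact fg_of_symbols D hr S0 (fun z => hS0 z.2) fun n a ha => hSy ⟨n, a, ha, rfl⟩

end Groth.Agent.ObsLib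

end
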