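import Groth.Agent.ObsLib.EigenFun

/-!
# Finite generation of the functions invariant under a maximal unipotent subgroup
-/

set_option autoImplicit false
set_option linter.style.haveILetI false
set_option linter.unusedSectionVars false
set_option backward.isDefEq.respectTransparency false
set_option maxHeartbeats 2000000
set_option synthInstance.maxHeartbeats 400000

noncomputable section

universe u

open WithConv
open scoped TensorProduct

namespace Groth.Agent.ObsLib

open BorelLib

attribute [local instance] pTop pTopTensor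

variable {k : Type u} [Field k] [IsAlgClosed k] {A : Type u} [CommRing A] [HopfAlgebra k A] [Algebra.FiniteType k A]
  {S U B : Subgroup (Pt k A)}

/-- A regular representation of a torus is spanned by weight vectors. -/
theorem span_weight (hS : IsTor S) {V : Type u} [AddCommGroup V] [Module k V] [FiniteDimensional k V]
    (r : RegRep S V) : Submodule.span k {w : V | r.IsWeight S w} = ⊤ := by
  classical
  let f : {x : Pt k A // x ∈ S ∧ IsPT x} → Module.End k V := fun d => r.ρ d.1
  have hcomm : Pairwise fun i j => Commute (f i) (f j) := fun i j _ => by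
    show r.ρ i.1 * r.ρ j.1 = r.ρ j.1 * r.ρ i.1
    rw [← r.map_mul _ i.2.1 _ j.2.1, ← r.map_mul _ j.2.1 _ i.2.1, hS.comm _ i.2.1 _ j.2.1]
  have hss : ∀ d, (f d).IsSemisimple := by
    intro d
    obtain ⟨m, hm, hdm⟩ := d.2.2
    refine Module.End.isSemisimple_of_squarefree_aeval_eq_zero (p := Polynomial.X ^ m - 1)
      (Polynomial.X_pow_sub_one_separable_iff.2 hm).squarefree ?_
    have hpow : ∀ n : ℕ, r.ρ d.1 ^ n = r.ρ (d.1 ^ n) := by
      intro n
      induction n with
      | zero => rw [pow_zero, pow_zero, r.map_one]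
      | succ n ih => rw [pow_succ, pow_succ, ih, r.map_mul _ (S.pow_mem d.2.1 n) _ d.2.1]
    simp [f, hpow, hdm, r.map_one]
  have htop := Module.End.iSup_iInf_maxGenEigenspace_eq_top_of_iSup_maxGenEigenspace_eq_top_of_commute f hcomm
    (fun d => Module.End.iSup_maxGenEigenspace_eq_top (f d))
  refine eq_top_iff.2 (htop ▸ iSup_le fun χ => ?_)
  intro w hw
  rw [Submodule.mem_iInf] at hw
  refine Submodule.subset_span fun s hs => ?_
  have hcl : IsClosed {g : Pt k A | ∀ φ ∈ (k ∙ w).dualAnnihilator, φ (r.ρ g w) = 0} := by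
    rw [show {g : Pt k A | ∀ φ ∈ (k ∙ w).dualAnnihilator, φ (r.ρ g w) = 0} =
      ⋂ φ ∈ (k ∙ w).dualAnnihilator, {g | φ (r.ρ g w) = 0} from Set.ext fun g => by simp]
    exact isClosed_biInter fun φ _ => (r.reg φ w).isClosed_eq (IsReg.const 0)
  have hmem : r.ρ s w ∈ k ∙ w := by
    rw [← Subspace.dualAnnihilator_dualCoannihilator_eq (W := k ∙ w), Submodule.mem_dualCoannihilator]
    refine hcl.closure_subset_iff.2 (fun d hd φ hφ => ?_) (hS.dense hs)
    have h := hw ⟨d, hd⟩
    rw [(Module.End.isFinitelySemisimple_iff_isSemisimple.2 (hss ⟨d, hd⟩)).maxGenEigenspace_eq_eigenspace,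
      Module.End.mem_eigenspace_iff] at h
    show φ (r.ρ d w) = 0
    rw [show r.ρ d w = χ ⟨d, hd⟩ • w from h, map_smul,
      (Submodule.mem_dualAnnihilator φ).1 hφ w (Submodule.mem_span_singleton_self w), smul_zero]
  obtain ⟨c, hc⟩ := Submodule.mem_span_singleton.1 hmem
  exact ⟨c, hc.symm⟩

section Reduced

variable [_root_.IsReduced A]

/-- Invariant functions are sums of invariant weight vectors of a normalising torus. -/
theorem mem_span_semiInv (hS : IsTor S) (hnorm : ∀ s ∈ S, ∀ u ∈ U, s * u * s⁻¹ ∈ U) {a : A} (ha : Inv U a) :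
    a ∈ Submodule.span k {b : A | Inv U b ∧ ∃ χ : Pt k A → k, SemiInv S χ b} := by
  classical
  obtain ⟨W, hWf, haW, hWst⟩ := exists_stable (k := k) ({a} : Finset A)
  let W' : Submodule k A := W ⊓ Subalgebra.toSubmodule (invAlg U)
  haveI : FiniteDimensional k W' := Submodule.finiteDimensional_of_le (S₂ := W) inf_le_left
  have hinv : ∀ g ∈ S, ∀ b : A, Inv U b → Inv U (rT g b) := fun g hg b hb x u hu => by
    rw [eval_rT, eval_rT]
    have h := hb (x * g) _ (hnorm _ (inv_mem hg) u hu)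
    rw [show x * g * (g⁻¹ * u * g⁻¹⁻¹) = x * u * g by group] at h
    exact h
  let r₀ := funRep W hWst
  have hst : (r₀.mono (le_top : S ≤ ⊤)).Stable S (W'.comap W.subtype) := fun g hg w hw =>
    ⟨hWst g _ w.2, hinv g hg _ hw.2⟩
  obtain ⟨r, hr⟩ := (r₀.mono (le_top : S ≤ ⊤)).exists_sub hst
  have hspan := span_weight hS r
  have hmem : (⟨⟨a, haW (Finset.mem_singleton_self a)⟩, haW (Finset.mem_singleton_self a), ha⟩ :
      W'.comap W.subtype) ∈ (⊤ : Submodule k (W'.comap W.subtype)) := trivial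
  rw [← hspan] at hmem
  have h2 := Submodule.mem_map_of_mem (f := W.subtype ∘ₗ (W'.comap W.subtype).subtype) hmem
  rw [Submodule.map_span] at h2
  refine Submodule.span_mono ?_ h2
  rintro _ ⟨w, hw, rfl⟩
  refine ⟨w.2.2, fun g => if h : g ∈ S then (hw g h).choose else 0, fun x g hg => ?_⟩
  have h := congrArg (fun z : W'.comap W.subtype => ((z : W) : A)) (hw g hg).choose_spec
  have h' : rT g ((w : W) : A) = (hw g hg).choose • ((w : W) : A) := by
    rw [← coe_funRep W hWst]
    have h3 := congrArg Subtype.val (hr g hg w)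
    first | exact h3.symm.trans h | exact h3.trans h | exact (congrArg _ (hr g hg w)).trans h
  have h4 := congrArg (fun z => x.ofConv z) h'
  simpa [dif_pos hg] using h4

end Reduced

variable [IsDomain A]

lemma inv_of_char (hUB : U ≤ B) {χ : Pt k A → k} {a e : A} (ha : SemiInv B χ a) (hu : Inv U a) (h0 : a ≠ 0)
    (he : SemiInv B χ e) : Inv U e := fun x u hu' => by
  obtain ⟨y, hy⟩ := exists_eval_ne (k := k) h0
  have h1 := ha y u (hUB hu')
  rw [hu y u hu'] at h1
  rw [he x u (hUB hu'), (mul_eq_right₀ hy).1 h1.symm, one_mul]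

lemma biEigen_one : BiEigen U B (1 : A) := by
  refine ⟨one_ne_zero, fun b _ => ⟨1, ?_⟩, fun x u _ => by rw [map_one, map_one],
    fun _ => 1, fun x b _ => by rw [map_one, map_one, mul_one]⟩
  show lTa b 1 = _
  rw [map_one, one_smul]

/-- A group-like element belongs to a group-like basis. -/
lemma exists_glBasis_eq {C : Type u} [CommRing C] [IsDomain C] [Bialgebra k C] {M : Type} [AddCommGroup M]
    (E : DiagRep.GLBasis k M C) {x : C} (hx : IsGroupLikeElem k x) : ∃ m, x = E.e m := by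
  by_contra! hne
  have hsub : LinearIndepOn k id (insert x (Set.range E.e)) := linearIndepOn_isGroupLikeElem.mono (by
    rintro y (rfl | ⟨a', rfl⟩)
    exacts [hx, ⟨E.counit_e a', E.comul_e a'⟩])
  have hnot : x ∉ Set.range E.e := fun ⟨a', ha'⟩ => hne a' ha'.symm
  refine ((linearIndepOn_id_insert hnot).1 hsub).2 ?_
  rw [E.e.span_eq]
  exact Submodule.mem_top

/-- Finitely many unit functions realise all weights of unit functions. -/
theorem exists_unit_basis (hS : IsTor S) (hSB : S ≤ B) :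
    ∃ F : Finset A, (∀ e ∈ F, IsUnit e ∧ BiEigen U B e) ∧
      ∀ R : Subalgebra k A, (∀ e ∈ F, e ∈ R ∧ Ring.inverse e ∈ R) → ∀ w : A, IsUnit w → BiEigen U B w →
        ∃ e ∈ R, IsUnit e ∧ BiEigen U B e ∧ ∀ (χ ψ : Pt k A → k), SemiInv B χ e → SemiInv B ψ w →
          ∀ g ∈ S, χ g = ψ g := by
  classical
  obtain ⟨C, _, _, f, hft, hred, hfm, hind, hinj, hrange, φ, hφs, hfφ⟩ := exists_frame hS.closed
  haveI := hft; haveI := hred
  have hc : ∀ x y : Pt k C, x * y = y * x := fun x y => hinj (by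
    rw [map_mul, map_mul]; exact hS.comm _ (hrange ▸ ⟨x, rfl⟩) _ (hrange ▸ ⟨y, rfl⟩))
  have hconn : IsPreconnected (Set.univ : Set (Pt k C)) := isPreconnected_univ_frame hind (hrange.symm ▸ hS.conn)
  have hD : (Set.univ : Set (Pt k C)) ⊆ closure {x | IsPT x} := fun x _ => by
    rw [hind.closure_eq_preimage_closure_image]
    refine closure_mono ?_ (hS.dense (hrange ▸ ⟨x, rfl⟩ : f x ∈ S))
    rintro y ⟨hy, hyt⟩
    rw [← hrange] at hy
    obtain ⟨z, rfl⟩ := hy
    exact ⟨z, hyt.of_map hinj, rfl⟩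
  obtain ⟨n, ⟨E⟩⟩ := exists_glBasis hc hconn hD
  haveI : IsDomain C := by
    have h := isIrreducible_of_connected (K := (⊤ : Subgroup (Pt k C))) (by simp) (by simpa using hconn)
    have hp : (vanish (k := k) (Set.univ : Set (Pt k C))).IsPrime := isPrime_vanish (by simpa using h)
    have hbot : vanish (k := k) (Set.univ : Set (Pt k C)) = ⊥ :=
      le_bot_iff.1 fun a ha => eq_zero_of_forall (k := k) fun x => ha x trivial
    haveI : (⊥ : Ideal C).IsPrime := by rw [← hbot]; exact hp
    exact IsDomain.of_bot_isPrime _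
  have hmem : ∀ y, f y ∈ S := fun y => hrange ▸ ⟨y, rfl⟩
  let Wt : A → (Fin n → ℤ) → Prop := fun w m =>
    ∀ (x : Pt k A) (y : Pt k C), (x * f y).ofConv w = y.ofConv (E.e m) * x.ofConv w
  have hE0 : ∀ (y : Pt k C) m, y.ofConv (E.e m) * y.ofConv (E.e (-m)) = 1 := fun y m => by
    rw [← map_mul, E.e_mul, add_neg_cancel, E.e_zero, map_one]
  have hex : ∀ w : A, IsUnit w → BiEigen U B w → ∃ m, Wt w m := by
    intro w hw hb
    obtain ⟨χ, hχ⟩ := hb.right
    have h1 : (1 : Pt k A).ofConv w ≠ 0 := (hw.map _).ne_zero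
    have hχS : SemiInv S χ w := fun x g hg => hχ x g (hSB hg)
    have hval : ∀ y : Pt k C, χ (f y) = y.ofConv (φ (((1 : Pt k A).ofConv w)⁻¹ • w)) := fun y => by
      rw [hχS.char_eq h1 (hmem y), map_smul, map_smul, smul_eq_mul, inv_mul_eq_div, hfφ]
      rfl
    have hg : IsGroupLikeElem k (φ (((1 : Pt k A).ofConv w)⁻¹ • w)) := by
      refine isGroupLikeElem_of_mult (by rw [← hval, map_one, hχS.char_one h1]) fun x y => ?_
      rw [← hval, ← hval, ← hval, map_mul, hχS.char_mul h1 (hmem x) (hmem y)]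
    obtain ⟨m, hm⟩ := exists_glBasis_eq E hg
    exact ⟨m, fun x y => by rw [hχS x _ (hmem y), hval, hm]⟩
  let Ms : Set (Fin n → ℤ) := {m | ∃ w, IsUnit w ∧ BiEigen U B w ∧ Wt w m}
  obtain ⟨G, hG, hspan⟩ :=
    (Submodule.fg_span_iff_fg_span_finset_subset Ms).1 (IsNoetherian.noetherian (Submodule.span ℤ Ms))
  choose wf hwf using fun (m : Fin n → ℤ) (hm : m ∈ G) => hG hm
  refine ⟨G.attach.image fun m => wf m.1 m.2, fun e he => ?_, fun R hR w hw hb => ?_⟩
  · obtain ⟨m, -, rfl⟩ := Finset.mem_image.1 he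
    exact ⟨(hwf _ _).1, (hwf _ _).2.1⟩
  have hmul : ∀ {e e' : A}, BiEigen U B e → BiEigen U B e' → BiEigen U B (e * e') := fun {e e'} he he' => by
    refine ⟨mul_ne_zero he.ne he'.ne, fun b hb' => ?_, fun x u hu => by rw [map_mul, map_mul, he.inv x u hu, he'.inv x u hu], ?_⟩
    · obtain ⟨c, hc⟩ := he.left b hb'
      obtain ⟨c', hc'⟩ := he'.left b hb'
      refine ⟨c * c', ?_⟩
      show lTa b (e * e') = _
      rw [map_mul, show lTa b e = c • e from hc, show lTa b e' = c' • e' from hc', smul_mul_smul_comm]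
    · obtain ⟨χ, hχ⟩ := he.right
      obtain ⟨χ', hχ'⟩ := he'.right
      exact ⟨_, hχ.mul hχ'⟩
  let Q : (Fin n → ℤ) → Prop := fun m =>
    ∃ e ∈ R, ∃ e' ∈ R, e * e' = 1 ∧ BiEigen U B e ∧ BiEigen U B e' ∧ Wt e m
  have hQ : ∀ m ∈ Submodule.span ℤ (↑G : Set (Fin n → ℤ)), Q m := by
    intro m hm
    rw [← Submodule.mem_toAddSubgroup, Submodule.span_int_eq_addSubgroupClosure] at hm
    induction hm using AddSubgroup.closure_induction with
    | mem m hm =>
      have hR' := hR _ (Finset.mem_image_of_mem (fun m : G => wf m.1 m.2) (Finset.mem_attach _ ⟨m, hm⟩))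
      obtain ⟨hu, hb, hw⟩ := hwf m hm
      have h1 := Ring.mul_inverse_cancel _ hu
      exact ⟨_, hR'.1, _, hR'.2, h1, hb, BiEigen.quot biEigen_one hb h1.symm, hw⟩
    | zero => exact ⟨1, R.one_mem, 1, R.one_mem, one_mul 1, biEigen_one, biEigen_one, fun x y => by simp [E.e_zero]⟩
    | add p q _ _ hp hq =>
      obtain ⟨e, he, e', he', h1, hb, hb', hw⟩ := hp
      obtain ⟨d, hd, d', hd', h2, hbd, hbd', hwd⟩ := hq
      refine ⟨e * d, R.mul_mem he hd, e' * d', R.mul_mem he' hd', by rw [mul_mul_mul_comm, h1, h2, one_mul],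
        hmul hb hbd, hmul hb' hbd', fun x y => ?_⟩
      rw [map_mul, map_mul, hw, hwd, ← E.e_mul, map_mul]
      ring
    | neg p _ hp =>
      obtain ⟨e, he, e', he', h1, hb, hb', hw⟩ := hp
      refine ⟨e', he', e, he, by rw [mul_comm, h1], hb', hb, fun x y => ?_⟩
      have h3 : ∀ z : Pt k A, z.ofConv e * z.ofConv e' = 1 := fun z => by rw [← map_mul, h1, map_one]
      have h4 := h3 (x * f y)
      rw [hw] at h4
      linear_combination (-(y.ofConv (E.e (-p))) * x.ofConv e * (x * f y).ofConv e') * 0 +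
        (y.ofConv (E.e (-p)) * x.ofConv e') * h4 - ((x * f y).ofConv e') * (x.ofConv e * x.ofConv e') * hE0 y p -
        ((x * f y).ofConv e') * h3 x
  obtain ⟨m, hm⟩ := hex w hw hb
  obtain ⟨e, he, e', -, h1, hbe, -, hwe⟩ := hQ m (hspan ▸ Submodule.subset_span ⟨w, hw, hb, hm⟩)
  refine ⟨e, he, IsUnit.of_mul_eq_one e' h1, hbe, fun χ ψ hχ hψ g hg => ?_⟩
  obtain ⟨y, rfl⟩ := (hrange.symm ▸ hg : g ∈ f.range)
  have h1e : (1 : Pt k A).ofConv e ≠ 0 := ((IsUnit.of_mul_eq_one e' h1).map _).ne_zero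
  have h1w : (1 : Pt k A).ofConv w ≠ 0 := (hw.map _).ne_zero
  have a1 := hwe 1 y
  rw [hχ 1 _ (hSB (hmem y))] at a1
  have a2 := hm 1 y
  rw [hψ 1 _ (hSB (hmem y))] at a2
  rw [mul_right_cancel₀ h1e a1, mul_right_cancel₀ h1w a2]

/-- **The invariants of a maximal unipotent subgroup are finitely generated.** -/
theorem fg_invAlg_uni [IsIntegrallyClosed A] (hB : IsBor ⊤ B) (hUB : U ≤ B) (hS : IsTor S) (hSB : S ≤ B)
    (hnorm : ∀ s ∈ S, ∀ u ∈ U, s * u * s⁻¹ ∈ U)
    (hgen : ∀ M : Subgroup (Pt k A), IsClosed (M : Set (Pt k A)) → S ≤ M → U ≤ M → B ≤ M) : (invAlg U).FG := by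
  classical
  haveI : IsNoetherianRing A := Algebra.FiniteType.isNoetherianRing k A
  obtain ⟨d, O, hO, ⟨x₀, hx₀⟩, hsub⟩ := exists_open_double_coset hB
  obtain ⟨h, hh, hhO⟩ := exists_basic hO hx₀
  have hh0 : h ≠ 0 := fun e => hh (by rw [e, map_zero])
  have hcell : ∀ x : Pt k A, x.ofConv h ≠ 0 → ∃ b ∈ B, ∃ b' ∈ B, x = b * d * b' := fun x hx => hsub x (hhO x hx)
  obtain ⟨s, hs, hsdvd⟩ := exists_dvd_basis hh0 {f : A | BiEigen U B f ∧ ¬ IsUnit f}
    fun f hf => hf.1.dvd_pow hcell hh0
  obtain ⟨F, hF, hFR⟩ := exists_unit_basis (U := U) hS hSB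
  choose χ hχ using fun g (hg : g ∈ s) => (hs hg).1.right
  choose T hTR hT hTnz using fun g (hg : g ∈ s) => (cov_of_semiInv (hχ g hg) (hs hg).1.ne).exists_finset
  let gens : Finset A := (s.attach.biUnion fun g => T g.1 g.2) ∪ (F ∪ F.image Ring.inverse)
  let R : Subalgebra k A := Algebra.adjoin k (↑gens : Set A)
  have hgens : ∀ e ∈ gens, Inv U e := by
    intro e he
    rcases Finset.mem_union.1 he with he | he
    · obtain ⟨g, -, hg⟩ := Finset.mem_biUnion.1 he
      exact inv_of_char hUB (hχ g.1 g.2) (hs g.2).1.inv (hs g.2).1.ne (hT g.1 g.2 e hg)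
    rcases Finset.mem_union.1 he with he | he
    · exact (hF e he).2.inv
    · obtain ⟨w, hw, rfl⟩ := Finset.mem_image.1 he
      exact (BiEigen.quot biEigen_one (hF w hw).2 (Ring.mul_inverse_cancel _ (hF w hw).1).symm).inv
  have hR : R ≤ invAlg U := Algebra.adjoin_le fun e he => hgens e he
  have hsubR : ↑gens ⊆ (R : Set A) := Algebra.subset_adjoin
  have hcov : ∀ f : A, BiEigen U B f → ∀ ψ : Pt k A → k, SemiInv B ψ f → Cov (R : Set A) B ψ := by
    intro f
    induction f using (wellFounded_dvdNotUnit (α := A)).induction with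
    | _ f ih =>
      intro hf ψ hψ
      by_cases hu : IsUnit f
      · obtain ⟨e, he, heu, heb, heq⟩ := hFR R (fun e he => ⟨hsubR (Finset.mem_coe.2 (Finset.mem_union_right _
          (Finset.mem_union_left _ he))), hsubR (Finset.mem_coe.2 (Finset.mem_union_right _
          (Finset.mem_union_right _ (Finset.mem_image_of_mem _ he))))⟩) f hu hf
        obtain ⟨θ, hθ⟩ := heb.right
        refine fun x => ⟨e, he, hθ.congr ?_, (heu.map _).ne_zero⟩
        exact char_eq_of_eq hgen hSB hUB hB.closed hθ hψ heb.inv hf.inv heb.ne hf.ne (heq θ ψ hθ hψ)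
      obtain ⟨g, hg, q, hq⟩ := hsdvd f ⟨hf, hu⟩
      have hqb : BiEigen U B q := hf.quot (hs hg).1 hq
      obtain ⟨θ, hθ⟩ := hqb.right
      have h1 : Cov (R : Set A) B θ :=
        ih q ⟨hqb.ne, g, (hs hg).2, by rw [hq, mul_comm]⟩ hqb θ hθ
      have h2 : Cov (R : Set A) B (χ g hg) := fun x => by
        obtain ⟨e, he, hne⟩ := hTnz g hg x
        exact ⟨e, hsubR (Finset.mem_coe.2 (Finset.mem_union_left _
          (Finset.mem_biUnion.2 ⟨⟨g, hg⟩, Finset.mem_attach _ _, he⟩))), hT g hg e he, hne⟩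
      refine (h2.mul h1).congr fun b hb => char_unique (χ := fun b => χ g hg b * θ b) ?_ hψ hf.ne hb
      rw [hq]
      exact (hχ g hg).mul hθ
  have hTc : IsClosed ((⊤ : Subgroup (Pt k A)) : Set (Pt k A)) := by rw [Subgroup.coe_top]; exact isClosed_univ
  have hTp : IsPreconnected ((⊤ : Subgroup (Pt k A)) : Set (Pt k A)) := by
    rw [Subgroup.coe_top]; exact (isIrreducible_univ (k := k) (R := A)).isConnected.isPreconnected
  have hint : ∀ a ∈ invAlg U, IsIntegral R a := by
    intro a ha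
    have hle : Submodule.span k {b : A | Inv U b ∧ ∃ χ : Pt k A → k, SemiInv S χ b} ≤
        (Subalgebra.toSubmodule ((integralClosure R A).restrictScalars k)) := Submodule.span_le.2 (by
      rintro b ⟨hbu, θ, hθ⟩
      show IsIntegral R b
      by_cases hb0 : b = 0
      · rw [hb0]; exact isIntegral_zero
      obtain ⟨θ', hθ'⟩ := semiInv_of_gen hgen hθ hbu hb0
      obtain ⟨f, hf, hff⟩ := exists_biEigen hB hUB hθ' hbu hb0
      obtain ⟨T', hT'R, hT', hnz⟩ := (hcov f hf θ' hff).exists_finset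
      exact isIntegral_of_semiInv (hB.complete hTc hTp) R hT'R hT' hnz hθ')
    exact hle (mem_span_semiInv hS hnorm ha)
  -- finiteness
  have hRfg : R.FG := ⟨gens, rfl⟩
  haveI := finite_integralClosure_sub k A R hRfg
  haveI : Algebra.FiniteType k R := ⟨(Subalgebra.fg_top _).2 hRfg⟩
  haveI : IsNoetherianRing R := Algebra.FiniteType.isNoetherianRing k R
  let M : Submodule R A :=
    { carrier := invAlg U
      add_mem' := fun hp hq => (invAlg U).add_mem hp hq
      zero_mem' := (invAlg U).zero_mem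
      smul_mem' := fun c {p} hp => (invAlg U).mul_mem (hR c.2) hp }
  have hMfg : M.FG := by
    have hle : M ≤ (integralClosure R A).toSubmodule := fun a ha => hint a ha
    haveI : Module.Finite R (integralClosure R A).toSubmodule := ‹Module.Finite R (integralClosure R A)›
    haveI : IsNoetherian R (integralClosure R A).toSubmodule := @isNoetherian_of_isNoetherianRing_of_finite R _ _ _ _ _ this
    exact Submodule.FG.of_le_of_isNoetherian hle
  obtain ⟨G', hG'⟩ := hMfg
  refine ⟨gens ∪ G', le_antisymm (Algebra.adjoin_le fun e he => ?_) fun a ha => ?_⟩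
  · rcases Finset.mem_union.1 (Finset.mem_coe.1 he) with he | he
    · exact hgens e he
    · exact (hG' ▸ Submodule.subset_span he : e ∈ M)
  · have hm : a ∈ Submodule.span R (↑G' : Set A) := hG'.symm ▸ (ha : a ∈ M)
    induction hm using Submodule.span_induction with
    | mem y hy => exact Algebra.subset_adjoin (Finset.mem_coe.2 (Finset.mem_union_right _ hy))
    | zero => exact zero_mem _
    | add y z hy hz h1 h2 =>
      exact add_mem (h1 (show y ∈ M from hG' ▸ hy)) (h2 (show z ∈ M from hG' ▸ hz))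
    | smul c y hy h1 =>
      exact mul_mem (Algebra.adjoin_mono (Finset.coe_subset.2 Finset.subset_union_left) c.2)
        (h1 (show y ∈ M from hG' ▸ hy))

end Groth.Agent.ObsLib

end
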