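import Groth.Agent.ObsLib.Filt
import Groth.Agent.ObsLib.WeightFin
import Groth.Agent.ObsLib.UFixFG

/-!
# Finiteness read off the fixed vectors of the contracted part
-/

set_option autoImplicit false
set_option linter.style.haveILetI false
set_option linter.unusedSectionVars false
set_option backward.isDefEq.respectTransparency false
set_option maxHeartbeats 2000000
set_option synthInstance.maxHeartbeats 400000

noncomputable section

universe u

open WithConv LaurentPolynomial
open scoped TensorProduct

namespace Groth.Agent.ObsLib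

open BorelLib

attribute [local instance] pTop pTopTensor

variable {k : Type u} [Field k] [IsAlgClosed k] {A : Type u} [CommRing A] [HopfAlgebra k A] [Algebra.FiniteType k A]
variable {V : Type u} [AddCommGroup V] [Module k V]
variable {B : Subgroup (Pt k A)} (D : HeightData B) {r : RegRep (⊤ : Subgroup (Pt k A)) V} {hlf : LocFin r}

open scoped Classical in
/-- The limit of a point of the opposite Borel subgroup. -/
def negLim (b : Pt k A) : Pt k A := if h : b ∈ D.Bm then (D.limitNeg b h).choose else 1

lemma negLim_spec {b : Pt k A} (hb : b ∈ D.Bm) : negLim D b ∈ D.S ∧ Fam D.lamNeg b (negLim D b) := by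
  rw [negLim, dif_pos hb]
  exact (D.limitNeg b hb).choose_spec

/-- The character on the opposite Borel subgroup attached to a weight. -/
def chN (χ : Pt k A → k) : Pt k A → k := fun b => χ (negLim D b⁻¹)

/-- Fixed vectors are stable under the torus. -/
lemma rho_mem_fixU {t : Pt k A} (ht : t ∈ D.S) {w : V} (hw : w ∈ fixU D r) : r.ρ t w ∈ fixU D r := by
  intro u hu hf
  have hu' : t⁻¹ * u * t ∈ B := B.mul_mem (B.mul_mem (B.inv_mem (D.le ht)) hu) (D.le ht)
  have hf' : Fam D.lam (t⁻¹ * u * t⁻¹⁻¹) (t⁻¹ * 1 * t⁻¹⁻¹) :=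
    hf.conj t⁻¹ fun z => D.tor.comm _ (inv_mem ht) _ (D.mem z)
  rw [inv_inv, mul_one, inv_mul_cancel] at hf'
  conv_rhs => rw [← hw _ hu' hf', ← r.mul_apply trivial trivial]
  rw [← r.mul_apply trivial trivial]
  congr 1
  group

/-- The exponent of a weight vector. -/
lemma exists_weight_exponent {w : V} (h0 : w ≠ 0) (hw : r.IsWeight D.S w) :
    ∃ (N : ℤ) (χ : Pt k A → k), IsWtV r D.lam N w ∧ ∀ s ∈ D.S, r.ρ s w = χ s • w := by
  obtain ⟨χ, hχ, hχw⟩ := r.exists_reg_weight h0 hw
  have h1 : χ 1 = 1 := by
    have := hχw 1 D.S.one_mem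
    rw [r.map_one, Module.End.one_apply] at this
    exact smul_left_injective k h0 (by simpa using this.symm)
  have hm : ∀ t ∈ D.S, ∀ t' ∈ D.S, χ (t * t') = χ t * χ t' := fun t ht t' ht' => by
    have := hχw _ (D.S.mul_mem ht ht')
    rw [r.mul_apply trivial trivial, hχw t' ht', map_smul, hχw t ht, smul_smul] at this
    exact (smul_left_injective k h0 this).symm.trans (mul_comm _ _)
  obtain ⟨N, hN⟩ := exists_exponent hχ h1 hm D.mem
  exact ⟨N, χ, fun z => by rw [hχw _ (D.mem z), hN], hχw⟩

/-- Fixed vectors in a stable subspace are combinations of weight vectors. -/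
lemma mem_span_fixU {W : Submodule k V} [FiniteDimensional k W] (hW : r.Stable ⊤ W) {w : V} (hwW : w ∈ W)
    (hw : w ∈ fixU D r) : w ∈ Submodule.span k {x : V | x ∈ fixU D r ∧ r.IsWeight D.S x} := by
  let W' := W ⊓ fixU D r
  haveI : FiniteDimensional k W' := Submodule.finiteDimensional_of_le inf_le_left
  have hst : (r.mono (le_top : D.S ≤ ⊤)).Stable D.S W' := fun g hg x hx => ⟨hW g trivial _ hx.1, rho_mem_fixU D hg hx.2⟩
  obtain ⟨r', hr'⟩ := (r.mono (le_top : D.S ≤ ⊤)).exists_sub hst
  have hspan := span_weight D.tor r'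
  have hmem : (⟨w, hwW, hw⟩ : W') ∈ (⊤ : Submodule k W') := trivial
  rw [← hspan] at hmem
  have h2 := Submodule.mem_map_of_mem (f := W'.subtype) hmem
  rw [Submodule.map_span] at h2
  refine Submodule.span_mono ?_ h2
  rintro _ ⟨x, hx, rfl⟩
  refine ⟨x.2.2, fun g hg => ?_⟩
  obtain ⟨c, hc⟩ := hx g hg
  refine ⟨c, ?_⟩
  have h3 := congrArg Subtype.val hc
  rw [Submodule.coe_smul] at h3
  exact (hr' g hg x).symm.trans h3

variable [_root_.IsReduced A]

/-- **Symbols with values in independent weight vectors have semi-invariant coefficients.** -/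
theorem sym_semiInv {n : ℤ} {a : V} (ha : a ∈ filt D r hlf n) {ι : Type u} [Fintype ι] {w : ι → V}
    (hli : LinearIndependent k w) {χ : ι → Pt k A → k} (hχ : ∀ i, ∀ s ∈ D.S, r.ρ s (w i) = χ i s • w i)
    (hval : ∀ g : Pt k A, pr D r hlf n (r.ρ g a) ∈ Submodule.span k (Set.range w)) :
    ∃ f : ι → A, (∀ i, SemiInv D.Bm (chN D (χ i)) (f i)) ∧ sym D r hlf n a = ∑ i, f i ⊗ₜ[k] w i := by
  classical
  obtain ⟨P, hP⟩ := (Fintype.linearCombination k w).exists_leftInverse_of_injective
    (LinearMap.ker_eq_bot.2 hli.fintypeLinearCombination_injective)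
  let f : ι → A := fun i => TensorProduct.rid k A (((LinearMap.proj i) ∘ₗ P).lTensor A (sym D r hlf n a))
  have hf : ∀ (i : ι) (x : Pt k A), x.ofConv (f i) = P (evV x (sym D r hlf n a)) i := fun i x => by
    simp only [f]
    generalize sym D r hlf n a = z
    induction z using TensorProduct.induction_on with
    | zero => simp
    | add p q hp hq => simp only [map_add, hp, hq, Pi.add_apply]
    | tmul p q => simp [mul_comm]
  have hsum : ∀ x : Pt k A, evV x (sym D r hlf n a) = ∑ i, x.ofConv (f i) • w i := fun x => by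
    have h := hval x⁻¹
    rw [← Fintype.range_linearCombination] at h
    obtain ⟨c, hc⟩ := h
    rw [evV_sym] at *
    simp only [hf, evV_sym, ← hc]
    rw [show P (Fintype.linearCombination k w c) = c from LinearMap.congr_fun hP c, Fintype.linearCombination_apply]
  refine ⟨f, fun i x b hb => ?_, evV_ext fun x => by rw [hsum, map_sum]; simp only [evV_tmul]⟩
  obtain ⟨hpS, hp⟩ := negLim_spec D (inv_mem hb)
  have h1 := hsum (x * b)
  rw [evV_sym, mul_inv_rev, r.mul_apply trivial trivial,
    (pr_rho_neg (fun j hj => ha x⁻¹ j hj) hpS hp).1, ← evV_sym, hsum x, map_sum] at h1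
  simp only [map_smul, hχ _ _ hpS, smul_smul] at h1
  have h2 := hli.fintypeLinearCombination_injective
    (a₁ := fun i => (x * b).ofConv (f i)) (a₂ := fun i => x.ofConv (f i) * χ i (negLim D b⁻¹))
    (by rw [Fintype.linearCombination_apply, Fintype.linearCombination_apply]; exact h1.symm)
  rw [congrFun h2 i, mul_comm]
  rfl

/-- **A representation with finitely many fixed vectors of the contracted part is finite-dimensional.** -/
theorem finite_of_fixU [IsDomain A] (hB : IsBor ⊤ B) (hlf : LocFin r) (hfin : FiniteDimensional k (fixU D r)) :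
    Module.Finite k V := by
  classical
  have hTp : IsPreconnected ((⊤ : Subgroup (Pt k A)) : Set (Pt k A)) := by
    rw [Subgroup.coe_top]; exact (isIrreducible_univ (k := k) (R := A)).isConnected.isPreconnected
  have hTc : IsClosed ((⊤ : Subgroup (Pt k A)) : Set (Pt k A)) := by rw [Subgroup.coe_top]; exact isClosed_univ
  -- weight vectors spanning the fixed vectors
  let E : Set V := {x : V | x ∈ fixU D r ∧ r.IsWeight D.S x}
  have hspan : fixU D r ≤ Submodule.span k E := fun w hw => by
    obtain ⟨W, hWf, hwW, hW⟩ := hlf w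
    haveI := hWf
    exact mem_span_fixU D hW hwW hw
  obtain ⟨b, hbE, hbspan, hbli⟩ := exists_linearIndependent k E
  have hbfix : ∀ x ∈ b, x ∈ fixU D r := fun x hx => (hbE hx).1
  haveI : FiniteDimensional k (Submodule.span k b) :=
    Submodule.finiteDimensional_of_le (S₂ := fixU D r) (Submodule.span_le.2 hbfix)
  haveI : FiniteDimensional k (Submodule.span k (Set.range fun x : b => (x : V))) := by
    rw [Subtype.range_coe]; infer_instance
  haveI : Finite b := Module.Finite.finite_basis (Module.Basis.span (v := fun x : b => (x : V)) hbli)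
  haveI : Fintype b := Fintype.ofFinite _
  choose N χ hN hχ using fun x : b => exists_weight_exponent D (hbli.ne_zero x) (hbE x.2).2
  choose s hs using fun x : b => finite_semiInv (D.bor.complete hTc hTp) (chN D (χ x))
  let Z : Submodule k (A ⊗[k] V) := Submodule.span k
    ↑(Finset.univ.biUnion fun x : b => (s x).image fun f => f ⊗ₜ[k] (x : V))
  have hpr : ∀ (n : ℤ) (w : V), w ∈ fixU D r →
      pr D r hlf n w ∈ Submodule.span k (Set.range fun x : {x : b // N x = n} => ((x : b) : V)) := by
    intro n w hw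
    have h : w ∈ Submodule.span k b := hbspan ▸ hspan hw
    induction h using Submodule.span_induction with
    | mem x hx =>
      rw [pr_of_isWtV D r hlf (hN ⟨x, hx⟩)]
      split_ifs with he
      · exact Submodule.subset_span ⟨⟨⟨x, hx⟩, he⟩, rfl⟩
      · exact zero_mem _
    | zero => rw [map_zero]; exact zero_mem _
    | add p q hp hq h1 h2 =>
      rw [map_add]
      exact add_mem (h1 (Submodule.span_le.2 hbfix hp)) (h2 (Submodule.span_le.2 hbfix hq))
    | smul c p hp h1 => rw [map_smul]; exact Submodule.smul_mem _ c (h1 (Submodule.span_le.2 hbfix hp))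
  have hval : ∀ (n : ℤ) (a : V), a ∈ filt D r hlf n → ∀ g : Pt k A,
      pr D r hlf n (r.ρ g a) ∈ Submodule.span k (Set.range fun x : {x : b // N x = n} => ((x : b) : V)) := by
    intro n a ha g
    have h := hpr n _ (pr_mem_fixU ha g)
    rwa [pr_of_isWtV D r hlf (isWtV_pr D r hlf n _), if_pos rfl] at h
  have hsym : ∀ (n : ℤ), (filt D r hlf n).map (sym D r hlf n) ≤ Z := by
    rintro n _ ⟨a, ha, rfl⟩
    obtain ⟨f, hf, e⟩ := sym_semiInv D (n := n) ha (w := fun x : {x : b // N x = n} => ((x : b) : V))
      (hbli.comp _ Subtype.val_injective) (χ := fun x => χ x.1) (fun x => hχ x.1) (hval n a ha)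
    rw [e]
    refine Z.sum_mem fun x _ => ?_
    have h := Submodule.mem_map_of_mem (f := (TensorProduct.mk k A V).flip ((x : b) : V)) (hs x.1 _ (hf x))
    rw [Submodule.map_span] at h
    refine Submodule.span_mono ?_ h
    rintro _ ⟨y, hy, rfl⟩
    exact Finset.mem_coe.2 (Finset.mem_biUnion.2 ⟨x.1, Finset.mem_univ _, Finset.mem_image_of_mem _ hy⟩)
  haveI hZ : FiniteDimensional k Z := FiniteDimensional.span_of_finite k (Finset.finite_toSet _)
  have hfg : ∀ n : ℕ, (filt D r hlf ((n : ℤ) - 1)).FG := by
    intro n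
    induction n with
    | zero =>
      rw [show filt D r hlf ((0 : ℕ) - 1 : ℤ) = ⊥ from (Submodule.eq_bot_iff _).2 fun a ha => filt_neg (by norm_num) ha]
      exact Submodule.fg_bot
    | succ n ih =>
      rw [show ((n + 1 : ℕ) : ℤ) - 1 = n by push_cast; ring]
      refine Submodule.fg_of_fg_map_of_fg_inf_ker (sym D r hlf n) ?_ ?_
      · exact Module.Finite.iff_fg.1 (Submodule.finiteDimensional_of_le (hsym n))
      · haveI : FiniteDimensional k (filt D r hlf ((n : ℤ) - 1)) := Module.Finite.iff_fg.2 ih
        refine Module.Finite.iff_fg.1 (Submodule.finiteDimensional_of_le (S₂ := filt D r hlf ((n : ℤ) - 1)) ?_)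
        exact fun a ha => mem_filt_of_sym ha.1 ha.2
  let M : ℕ := ∑ x : b, (N x).natAbs
  have hsmall : ∀ (n : ℕ) (a : V), a ∈ filt D r hlf n → a ∈ filt D r hlf M := by
    intro n
    induction n with
    | zero => exact fun a ha => filt_mono (by omega) ha
    | succ n ih =>
      intro a ha
      by_cases hle : n + 1 ≤ M
      · exact filt_mono (by exact_mod_cast hle) ha
      refine ih a ?_
      have hz : sym D r hlf ((n + 1 : ℕ) : ℤ) a = 0 := evV_ext fun x => by
        rw [evV_sym, map_zero]
        haveI : IsEmpty {x : b // N x = ((n + 1 : ℕ) : ℤ)} := ⟨fun y => by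
          have h1 : (N y.1).natAbs ≤ M :=
            Finset.single_le_sum (f := fun j => (N j).natAbs) (fun _ _ => Nat.zero_le _) (Finset.mem_univ y.1)
          have h2 := y.2
          omega⟩
        have h := hval _ a ha x⁻¹
        rw [Set.range_eq_empty, Submodule.span_empty] at h
        exact (Submodule.mem_bot k).1 h
      have h := mem_filt_of_sym ha hz
      rwa [show ((n + 1 : ℕ) : ℤ) - 1 = n by push_cast; ring] at h
  have htop : filt D r hlf M = ⊤ := eq_top_iff.2 fun a _ => by
    obtain ⟨n, hn⟩ := exists_mem_filt (D := D) (r := r) (hlf := hlf) a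
    exact hsmall n a hn
  refine ⟨?_⟩
  rw [← htop, show (M : ℤ) = ((M + 1 : ℕ) : ℤ) - 1 by push_cast; ring]
  exact hfg (M + 1)

end Groth.Agent.ObsLib

end
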