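import Groth.Agent.ObsLib.Main
import Groth.Agent.BorelLib.Dim

/-!
# Identity components, radicals and reductive subgroups
-/

set_option autoImplicit false
set_option linter.style.haveILetI false
set_option linter.unusedSectionVars false
set_option backward.isDefEq.respectTransparency false
set_option backward.isDefEq.respectTransparency.types false
set_option maxHeartbeats 1000000
set_option synthInstance.maxHeartbeats 400000

noncomputable section

universe u

open CategoryTheory MonoidalCategory CartesianMonoidalCategory AlgebraicGeometry WithConv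
open scoped MonObj TensorProduct
open CoactBr (sp pt)

namespace Groth.Agent.ObsLib

open BorelLib BlowRegLib

attribute [-instance] CategoryTheory.Hom.commGroup
attribute [local instance] pTop pTopTensor algTop

variable {k : Type u} [Field k] [IsAlgClosed k] {A : Type u} [CommRing A] [HopfAlgebra k A] [Algebra.FiniteType k A]
  [_root_.IsReduced A]

/-- The radical of a closed group of points. -/
theorem exists_radical {S : Subgroup (Pt k A)} (hS : IsClosed (S : Set (Pt k A))) :
    ∃ R : Subgroup (Pt k A), IsClosed (R : Set (Pt k A)) ∧ _root_.IsPreconnected (R : Set (Pt k A)) ∧ IsSol R ∧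
      R ≤ neut S ∧ (∀ g ∈ S, conjSub g R ≤ R) ∧
      ∀ J : Subgroup (Pt k A), J ≤ neut S → IsClosed (J : Set (Pt k A)) → _root_.IsPreconnected (J : Set (Pt k A)) →
        (∀ g ∈ neut S, conjSub g J ≤ J) → IsSol J → J ≤ R := by
  have hN := isClosed_neut hS
  obtain ⟨B, _, _, f, hB, hB', hfm, hind, hinj, hrange, -, -, -⟩ := exists_frame hN
  haveI := hB; haveI := hB'
  have hconn := isPreconnected_univ_frame hind (hrange.symm ▸ isPreconnected_neut S)
  obtain ⟨hc, hp, hs, hn, -⟩ := radSub_facts (k := k) (A := B) hconn
  have hfN : ∀ x, f x ∈ neut S := fun x => hrange ▸ ⟨x, rfl⟩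
  have hmax : ∀ J : Subgroup (Pt k A), J ≤ neut S → IsClosed (J : Set (Pt k A)) →
      _root_.IsPreconnected (J : Set (Pt k A)) → (∀ g ∈ neut S, conjSub g J ≤ J) → IsSol J →
      J ≤ (radSub k B).map f := by
    intro J hJ hJc hJp hJn hJs
    have himg : f '' (J.comap f : Set (Pt k B)) = J := by
      rw [Subgroup.coe_comap, Set.image_preimage_eq_iff]
      intro x hx
      have : x ∈ f.range := hrange.symm ▸ hJ hx
      exact this
    have hle : J.comap f ≤ radSub k B := by
      refine le_radSub hconn (hind.isPreconnected_image.1 (himg.symm ▸ hJp)) (fun g => ?_) ?_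
      · rintro _ ⟨x, hx, rfl⟩
        exact hJn (f g) (hfN g) ⟨f x, hx, by simp⟩
      · obtain ⟨n, hn'⟩ := hJs
        refine ⟨n, Subgroup.map_injective hinj (le_bot_iff.1 ?_ |>.trans (Subgroup.map_bot f).symm)⟩
        rw [← der_map]
        exact (der_mono (Subgroup.map_comap_le f J) n).trans hn'.le
    intro x hx
    obtain ⟨y, rfl⟩ : x ∈ f.range := hrange.symm ▸ hJ hx
    exact ⟨y, hle hx, rfl⟩
  have hRle : (radSub k B).map f ≤ neut S := by rintro _ ⟨x, -, rfl⟩; exact hfN x
  have hRc : IsClosed ((radSub k B).map f : Set (Pt k A)) := by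
    rw [Subgroup.coe_map]
    obtain ⟨C, hC, hCe⟩ := hind.isClosed_iff.1 hc
    rw [← hCe, Set.image_preimage_eq_inter_range, ← MonoidHom.coe_range, hrange]
    exact hC.inter hN
  have hRp : _root_.IsPreconnected ((radSub k B).map f : Set (Pt k A)) := by
    rw [Subgroup.coe_map]; exact hp.image _ hind.continuous.continuousOn
  have hRn : ∀ g ∈ neut S, conjSub g ((radSub k B).map f) ≤ (radSub k B).map f := by
    intro g hg
    obtain ⟨g, rfl⟩ : g ∈ f.range := hrange.symm ▸ hg
    rintro _ ⟨_, ⟨x, hx, rfl⟩, rfl⟩
    exact ⟨g * x * g⁻¹, hn g ⟨x, hx, rfl⟩, by simp⟩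
  refine ⟨_, hRc, hRp, hs.map f, hRle, fun g hg => ?_, hmax⟩
  have hgn : conjSub g (neut S) ≤ neut S :=
    le_neut (isPreconnected_conjSub (isPreconnected_neut S)) ((conjSub_le hg (neut_le S)))
  refine hmax _ ((conjSub_mono hRle).trans hgn) (isClosed_conjSub hRc) (isPreconnected_conjSub hRp) (fun m hm => ?_)
    ((hs.map f).conjSub g)
  have hm' : g⁻¹ * m * g ∈ neut S := by
    have h2 : conjSub g⁻¹ (neut S) ≤ neut S :=
      le_neut (isPreconnected_conjSub (isPreconnected_neut S)) (conjSub_le (inv_mem hg) (neut_le S))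
    exact h2 ⟨m, hm, by simp⟩
  rw [conjSub_conjSub, show m * g = g * (g⁻¹ * m * g) by group, ← conjSub_conjSub]
  exact conjSub_mono (hRn _ hm')

variable {G : Over (Spec (CommRingCat.of k))} [GrpObj G] [IsAffine G.left] (v : sp k A ≅ G) [IsMonHom v.hom]
  [Smooth G.hom]

section Sub

variable {B : Type u} [CommRing B] [HopfAlgebra k B] [Algebra.FiniteType k B] [_root_.IsReduced B]
  {H : Over (Spec (CommRingCat.of k))} [GrpObj H] (w : sp k B ≅ H) [IsMonHom w.hom]
  {i : H ⟶ G} [IsMonHom i] {π : A →ₐ[k] B} (hπ : w.hom ≫ i = gpt v π)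
include hπ

omit [Smooth G.hom] in
lemma isInducing_subHom (hsur : Function.Surjective π) : Topology.IsInducing (subHom v w hπ) :=
  isInducing_pull_of_frac π fun b => (hsur b).elim fun a ha => ⟨a, 1, isUnit_one, by rw [ha, mul_one]⟩

/-- Normalised subgroups come from normal subgroup schemes of the subgroup. -/
theorem exists_normal_scheme [Smooth H.hom] [IsAffine H.left] (hsur : Function.Surjective π)
    {R : Subgroup (Pt k A)} (hR : IsClosed (R : Set (Pt k A))) (hRp : _root_.IsPreconnected (R : Set (Pt k A)))
    (hRs : IsSol R) (hle : R ≤ ptsSub v i) (hn : ∀ g ∈ ptsSub v i, conjSub g R ≤ R) :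
    ∃ (R' : Over (Spec (CommRingCat.of k))) (_ : GrpObj R') (r' : R' ⟶ H) (_ : IsMonHom r'),
      IsClosedImmersion r'.left ∧ Smooth R'.hom ∧ ConnectedSpace R'.left ∧ AlgGrp.IsNormalHom r' ∧
        Red.IsSolvableGrp R' ∧ ptsSub v (r' ≫ i) = R := by
  have hinj : Function.Injective (subHom v w hπ) := pull_injective_of_surjective hsur
  have hind := isInducing_subHom v w hπ hsur
  have himg : (subHom v w hπ) '' (R.comap (subHom v w hπ) : Set (Pt k B)) = R := by
    rw [Subgroup.coe_comap, Set.image_preimage_eq_iff]
    intro x hx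
    have : x ∈ (subHom v w hπ).range := (range_subHom v w hπ).symm ▸ hle hx
    exact this
  haveI : QuasiCompact H.hom := inferInstance
  obtain ⟨R', _, r', hr', hrc, hrs, hpts, hconn, hsol⟩ := exists_scheme_sub w
    (S := R.comap (subHom v w hπ)) (hR.preimage hind.continuous)
  haveI := hr'; haveI := hrc; haveI := hrs
  refine ⟨R', inferInstance, r', hr', hrc, hrs, hconn (hind.isPreconnected_image.1 (himg.symm ▸ hRp)),
    isNormalHom_of_pts w ?_, hsol ?_, ?_⟩
  · rw [hpts]
    rintro g _ ⟨x, hx, rfl⟩
    exact hn _ (pull_mem v w hπ g) ⟨subHom v w hπ x, hx, by simp [-subHom_apply]; rfl⟩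
  · obtain ⟨n, hn'⟩ := hRs
    refine ⟨n, Subgroup.map_injective hinj (le_bot_iff.1 ?_ |>.trans (Subgroup.map_bot _).symm)⟩
    rw [← der_map]
    exact (der_mono (Subgroup.map_comap_le _ R) n).trans hn'.le
  · apply le_antisymm
    · intro x hx
      obtain ⟨y, rfl⟩ : x ∈ (subHom v w hπ).range := (range_subHom v w hπ).symm ▸ ptsSub_le v hx
      have : y ∈ ptsSub w r' := by rw [← comap_ptsSub v w hπ hsur]; exact hx
      rwa [hpts] at this
    · intro x hx
      obtain ⟨y, rfl⟩ : x ∈ (subHom v w hπ).range := (range_subHom v w hπ).symm ▸ hle hx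
      have : y ∈ ptsSub w r' := by rw [hpts]; exact hx
      rwa [← comap_ptsSub v w hπ hsur] at this

omit [Smooth G.hom] in
/-- The points of the identity component of a subgroup. -/
theorem ptsSub_comp_open [Smooth H.hom] [IsAffine H.left] (hsur : Function.Surjective π)
    {H₀ : Over (Spec (CommRingCat.of k))} [GrpObj H₀] [ConnectedSpace H₀.left] (jH : H₀ ⟶ H) [IsMonHom jH]
    [IsOpenImmersion jH.left] : ptsSub v (jH ≫ i) = neut (ptsSub v i) := by
  have hind := isInducing_subHom v w hπ hsur
  have hcomap := comap_ptsSub v w hπ hsur (l := jH)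
  have hopen := ptsSub_open w jH
  have hle : ptsSub v (jH ≫ i) ≤ (subHom v w hπ).range := (range_subHom v w hπ).symm ▸ ptsSub_le v
  apply le_antisymm
  · refine le_neut ?_ (ptsSub_le v)
    have e : (subHom v w hπ) '' ((neut ⊤ : Subgroup (Pt k B)) : Set (Pt k B)) =
        (ptsSub v (jH ≫ i) : Set (Pt k A)) := by
      rw [← hopen, ← hcomap, Subgroup.coe_comap, Set.image_preimage_eq_iff]
      exact fun x hx => hle hx
    rw [← e]
    exact (isPreconnected_neut _).image _ hind.continuous.continuousOn
  · intro x hx
    obtain ⟨y, rfl⟩ : x ∈ (subHom v w hπ).range := (range_subHom v w hπ).symm ▸ neut_le _ hx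
    have hpre : _root_.IsPreconnected ((neut (ptsSub v i)).comap (subHom v w hπ) : Set (Pt k B)) := by
      refine hind.isPreconnected_image.1 ?_
      have himg : (subHom v w hπ) '' ((neut (ptsSub v i)).comap (subHom v w hπ) : Set (Pt k B)) =
          (neut (ptsSub v i) : Set (Pt k A)) := by
        rw [Subgroup.coe_comap, Set.image_preimage_eq_iff]
        intro z hz
        have : z ∈ (subHom v w hπ).range := (range_subHom v w hπ).symm ▸ neut_le _ hz
        exact this
      rw [himg]
      exact isPreconnected_neut _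
    have := le_neut hpre le_top hx
    rwa [← hopen, ← hcomap] at this

omit [Smooth G.hom] in
/-- Right translation by a subgroup on the coordinate ring. -/
theorem exists_transMod :
    ∃ (m : VecGrp.GMod H A) (hm : m.IsMult),
      (∀ (Y : Set (Pt k A)), (∀ x ∈ Y, ∀ s ∈ ptsSub v i, x * s ∈ Y) →
        m.IsStable (𝟙 H) ((vanish Y).restrictScalars k)) ∧
      ∀ a ∈ m.fixedSubalgebra hm (𝟙 H), Inv (ptsSub v i) a := by
  classical
  let δ : A →ₗ[k] A ⊗[k] B := π.toLinearMap.lTensor A ∘ₗ CoalgebraStruct.comul (R := k)
  have hδ : ∀ (x : Pt k A) (y : Pt k B) (a : A), (pair x y).ofConv (δ a) = (x * pull π y).ofConv a := fun x y a => by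
    rw [mul_ofConv]
    simp only [δ, LinearMap.coe_comp, Function.comp_apply]
    generalize CoalgebraStruct.comul (R := k) a = t
    induction t using TensorProduct.induction_on with
    | zero => simp
    | add a c ha hc => simp only [map_add, ha, hc]
    | tmul a c => simp
  have hπ1 : pull π (1 : Pt k B) = 1 := (subHom v w hπ).map_one
  haveI := finiteType_tensor (k := k) (R := B) (R' := B)
  haveI : _root_.IsReduced (B ⊗[k] B) := isReduced_tensor (k := k)
  have hco : Groth.Agent.S6094.IsCoaction δ := by
    refine ⟨LinearMap.ext fun a => ?_, LinearMap.ext fun a => ?_⟩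
    · rw [← sub_eq_zero]
      refine eq_zero_of_forall_pair fun x z => ?_
      obtain ⟨y, y', rfl⟩ : ∃ y y' : Pt k B, z = pair y y' := ⟨fstP z, sndP z, (pair_fstP_sndP z).symm⟩
      rw [map_sub, sub_eq_zero]
      simp only [LinearMap.coe_comp, Function.comp_apply, LinearEquiv.coe_coe]
      have e1 : ∀ t : A ⊗[k] B, (pair x (pair y y')).ofConv (TensorProduct.assoc k A B B (δ.rTensor B t)) =
          (pair (x * pull π y) y').ofConv t := fun t => by
        induction t using TensorProduct.induction_on with
        | zero => simp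
        | add a c ha hc => simp only [map_add, ha, hc]
        | tmul a c =>
          rw [LinearMap.rTensor_tmul, pair_tmul, ← hδ]
          generalize δ a = t
          induction t using TensorProduct.induction_on with
          | zero => simp
          | add p q hp hq => simp only [map_add, TensorProduct.add_tmul, hp, hq, add_mul]
          | tmul p q => simp [mul_assoc]
      have e2 : ∀ t : A ⊗[k] B, (pair x (pair y y')).ofConv (LinearMap.lTensor A (CoalgebraStruct.comul (R := k)) t) =
          (pair x (y * y')).ofConv t := fun t => by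
        induction t using TensorProduct.induction_on with
        | zero => simp
        | add a c ha hc => simp only [map_add, ha, hc]
        | tmul a c => rw [LinearMap.lTensor_tmul, pair_tmul, pair_tmul, mul_ofConv]
      rw [e1, e2, hδ, hδ, mul_assoc, ← pull_mul v w hπ]
    · simp only [LinearMap.coe_comp, Function.comp_apply, LinearMap.flip_apply, TensorProduct.mk_apply]
      refine (TensorProduct.rid k A).injective ?_
      rw [TensorProduct.rid_tmul, one_smul]
      refine ext_pts (k := k) fun x => ?_
      have e : ∀ t : A ⊗[k] B, x.ofConv (TensorProduct.rid k A (LinearMap.lTensor A (CoalgebraStruct.counit (R := k)) t)) =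
          (pair x (1 : Pt k B)).ofConv t := fun t => by
        induction t using TensorProduct.induction_on with
        | zero => simp
        | add a c ha hc => simp only [map_add, ha, hc]
        | tmul a c =>
          simp only [LinearMap.lTensor_tmul, TensorProduct.rid_tmul, map_smul, smul_eq_mul, pair_tmul,
            AlgHom.convOne_apply, Algebra.algebraMap_self, RingHom.id_apply]
          exact mul_comm _ _
      rw [e, hδ, hπ1, mul_one]
  let m₀ := Groth.Agent.S6094.toGMod hco
  let m : VecGrp.GMod H A :=
    { ρ := fun C _ _ => (m₀.ρ C).comp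
        (MonoidHom.mk' (fun g : VecGrp.pt k C ⟶ H => g ≫ w.inv) fun g g' => MonObj.mul_comp g g' w.inv)
      naturality := fun φ g x => by
        show VecGrp.Wmap φ (m₀.ρ _ (g ≫ w.inv) x) = m₀.ρ _ ((VecGrp.ptMap φ ≫ g) ≫ w.inv) _
        rw [Category.assoc]
        exact m₀.naturality φ _ x }
  have hρ : ∀ (C : Type u) [CommRing C] [Algebra k C] (ψ : B →ₐ[k] C) (z : C ⊗[k] A),
      m.ρ C (gpt w ψ) z = Groth.Agent.S6094.act δ ψ z := by
    intro C _ _ ψ z
    show Groth.Agent.S6094.act δ (Groth.Agent.S6094.algOf (gpt w ψ ≫ w.inv)).ofConv z = _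
    rw [show gpt w ψ ≫ w.inv = Groth.Agent.S6094.ptOf (toConv ψ) by
      show (pt ψ ≫ w.hom) ≫ w.inv = _
      rw [Category.assoc, w.hom_inv_id, Category.comp_id]
      rfl, Groth.Agent.S6094.algOf_ptOf]
  have hm : m.IsMult := by
    intro C _ _ g
    obtain ⟨ψ, rfl⟩ := exists_gpt w g
    let L : A →ₐ[k] C ⊗[k] A := (Algebra.TensorProduct.comm k A C).toAlgHom.comp
      ((Algebra.TensorProduct.map (AlgHom.id k A) (ψ.comp π)).comp (Bialgebra.comulAlgHom k A))
    let M : C ⊗[k] A →ₐ[k] C ⊗[k] A :=
      Algebra.TensorProduct.lift Algebra.TensorProduct.includeLeft L fun _ _ => Commute.all _ _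
    have hM : ∀ z, m.ρ C (gpt w ψ) z = M z := fun z => by
      rw [hρ]
      induction z using TensorProduct.induction_on with
      | zero => simp
      | add a c ha hc => simp only [map_add, ha, hc]
      | tmul c a =>
        rw [Groth.Agent.S6094.act_tmul]
        have e : Groth.Agent.S6094.evalAt ψ (δ a) = L a := by
          simp only [δ, L, LinearMap.coe_comp, Function.comp_apply, AlgHom.coe_comp, Bialgebra.comulAlgHom_apply]
          generalize CoalgebraStruct.comul (R := k) a = t
          induction t using TensorProduct.induction_on with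
          | zero => simp
          | add p q hp hq => simp only [map_add, hp, hq]
          | tmul p q => simp
        rw [e, show M (c ⊗ₜ[k] a) = (c ⊗ₜ[k] (1 : A)) * L a from Algebra.TensorProduct.lift_tmul _ _ _ _ _]
        generalize L a = t
        induction t using TensorProduct.induction_on with
        | zero => simp
        | add p q hp hq => simp only [smul_add, mul_add, hp, hq]
        | tmul p q => simp [TensorProduct.smul_tmul']
    exact ⟨fun x y => by rw [hM, hM, hM, map_mul], by rw [hM, map_one]⟩
  refine ⟨m, hm, fun Y hY C _ _ h a ha => ?_, fun a ha x s hs => ?_⟩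
  · obtain ⟨ψ, rfl⟩ := exists_gpt w h
    rw [Category.comp_id, hρ, Groth.Agent.S6094.act_tmul, one_smul]
    let I : Ideal A := vanish Y
    haveI hft : Algebra.FiniteType k (A ⧸ I) :=
      Algebra.FiniteType.of_surjective (Ideal.Quotient.mkₐ k I) Ideal.Quotient.mk_surjective
    haveI hred : _root_.IsReduced (A ⧸ I) := by
      refine ⟨fun q hq => ?_⟩
      obtain ⟨p, rfl⟩ := Ideal.Quotient.mk_surjective q
      obtain ⟨n, hn⟩ := hq
      rw [← map_pow, Ideal.Quotient.eq_zero_iff_mem] at hn
      refine Ideal.Quotient.eq_zero_iff_mem.2 fun y hy => ?_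
      have := hn y hy
      rw [map_pow] at this
      exact (pow_eq_zero_iff'.1 this).1
    have hzero : (Ideal.Quotient.mkₐ k I).toLinearMap.rTensor B (δ a) = 0 := by
      refine eq_zero_of_forall_pair fun x y => ?_
      have e : ∀ t : A ⊗[k] B, (pair x y).ofConv ((Ideal.Quotient.mkₐ k I).toLinearMap.rTensor B t) =
          (pair (pull (Ideal.Quotient.mkₐ k I) x) y).ofConv t := fun t => by
        induction t using TensorProduct.induction_on with
        | zero => simp
        | add a c ha hc => simp only [map_add, ha, hc]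
        | tmul a c => simp
      rw [e, hδ]
      have hxY : ∀ c ∈ I, (pull (Ideal.Quotient.mkₐ k I) x).ofConv c = 0 := fun c hc => by
        rw [pull_apply, Ideal.Quotient.mkₐ_eq_mk, Ideal.Quotient.eq_zero_iff_mem.2 hc, map_zero]
      have h2 := hxY (rT (pull π y) a) fun z hz => by
        rw [eval_rT]
        exact ha _ (hY z hz _ (pull_mem v w hπ y))
      rwa [eval_rT] at h2
    have hex : Function.Exact (LinearMap.rTensor B (I.restrictScalars k).subtype)
        (LinearMap.rTensor B (Ideal.Quotient.mkₐ k I).toLinearMap) := by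
      refine rTensor_exact B ?_ Ideal.Quotient.mk_surjective
      intro c
      exact ⟨fun hc => ⟨⟨c, Ideal.Quotient.eq_zero_iff_mem.1 hc⟩, rfl⟩,
        fun ⟨c', hc'⟩ => hc' ▸ Ideal.Quotient.eq_zero_iff_mem.2 c'.2⟩
    obtain ⟨z, hz⟩ := (hex (δ a)).1 hzero
    rw [← hz]
    clear hz
    induction z using TensorProduct.induction_on with
    | zero => simp
    | add p q hp hq => rw [map_add, map_add]; exact add_mem hp hq
    | tmul p q =>
      rw [LinearMap.rTensor_tmul, Groth.Agent.S6094.evalAt_tmul]
      exact Submodule.tmul_mem_baseChange_of_mem _ p.2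
  · obtain ⟨y, rfl⟩ := (mem_sub_iff v w hπ).1 hs
    have h := ha k (ptk w y)
    rw [Category.comp_id, ptk, hρ, Groth.Agent.S6094.act_tmul, one_smul] at h
    have e : ∀ t : A ⊗[k] B, x.ofConv (TensorProduct.lid k A (Groth.Agent.S6094.evalAt y.ofConv t)) =
        (pair x y).ofConv t := fun t => by
      induction t using TensorProduct.induction_on with
      | zero => simp
      | add a c ha hc => simp only [map_add, ha, hc]
      | tmul a c => simp [mul_comm]
    rw [← hδ, ← e, h, TensorProduct.lid_tmul, one_smul]

end Sub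

end Groth.Agent.ObsLib

end
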