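import Groth.Agent.ObsLib.Attract

/-!
# A height one-parameter subgroup for a Borel subgroup and an opposite one
-/

set_option autoImplicit false
set_option linter.style.haveILetI false
set_option linter.unusedSectionVars false
set_option backward.isDefEq.respectTransparency false
set_option maxHeartbeats 2000000
set_option synthInstance.maxHeartbeats 400000

noncomputable section

universe u

open WithConv LaurentPolynomial
open scoped TensorProduct

namespace Groth.Agent.ObsLib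

open BorelLib

attribute [local instance] pTop pTopTensor

variable {k : Type u} [Field k] [IsAlgClosed k] {A : Type u} [CommRing A] [HopfAlgebra k A] [Algebra.FiniteType k A]

/-- A Borel subgroup, an opposite one, and a height one-parameter subgroup killed by all characters. -/
structure HeightData (B : Subgroup (Pt k A)) where
  S : Subgroup (Pt k A)
  Bm : Subgroup (Pt k A)
  lam : A →ₐc[k] k[T;T⁻¹]
  lamNeg : A →ₐc[k] k[T;T⁻¹]
  tor : IsTor S
  le : S ≤ B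
  leNeg : S ≤ Bm
  bor : IsBor ⊤ Bm
  mem : ∀ z : kˣ, DynLib.lamAt lam z ∈ S
  neg : ∀ z : kˣ, DynLib.lamAt lamNeg z = DynLib.lamAt lam z⁻¹
  limit : ∀ b ∈ B, ∃ p ∈ S, Fam lam b p ∧ (IsUni b → p = 1)
  limitNeg : ∀ b ∈ Bm, ∃ p ∈ S, Fam lamNeg b p
  cell : ∃ O : Set (Pt k A), IsOpen O ∧ O.Nonempty ∧ ∀ x ∈ O, ∃ b ∈ Bm, ∃ c ∈ B, x = b * c
  det : ∀ (W : Type u) [AddCommGroup W] [Module k W] [FiniteDimensional k W]
    (r : RegRep (⊤ : Subgroup (Pt k A)) W) (z : kˣ), LinearMap.det (r.ρ (DynLib.lamAt lam z)) = 1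

lemma negParam_of_inv {lam lamNeg : A →ₐc[k] k[T;T⁻¹]}
    (h : ∀ z : kˣ, DynLib.lamAt lamNeg z = DynLib.lamAt lam z⁻¹) :
    (lamNeg : A →ₐ[k] k[T;T⁻¹]) = Dyn.negParam k A lam := by
  refine AlgHom.ext fun a => sub_eq_zero.1 (eq_zero_of_forall (k := k) fun x => ?_)
  obtain ⟨z, rfl⟩ := exists_gp x
  rw [map_sub, sub_eq_zero]
  have hc : (DynLib.ev (Algebra.ofId k k) z).comp (LaurentPolynomial.invert (R := k)).toAlgHom =
      DynLib.ev (Algebra.ofId k k) z⁻¹ := DynLib.hom_ext fun n r => by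
    show DynLib.ev (Algebra.ofId k k) z (invert (AddMonoidAlgebra.single n r)) = _
    rw [show (invert (AddMonoidAlgebra.single n r) : k[T;T⁻¹]) = AddMonoidAlgebra.single (-n) r by
        rw [single_eq_C_mul_T, map_mul, invert_C, invert_T, single_eq_C_mul_T],
      DynLib.ev_single, DynLib.ev_single, inv_zpow']
  refine (congrArg (fun q : Pt k A => q.ofConv a) (h z)).trans ?_
  exact (DFunLike.congr_fun hc (lam a)).symm

/-- Limits move along conjugation. -/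
lemma Fam.transport {l l' : A →ₐc[k] k[T;T⁻¹]} {b p : Pt k A} (h : Fam l b p) (g : Pt k A)
    (hl : ∀ z : kˣ, DynLib.lamAt l' z = g * DynLib.lamAt l z * g⁻¹) : Fam l' (g * b * g⁻¹) (g * p * g⁻¹) := by
  obtain ⟨φ, hφ, rfl⟩ := h
  obtain ⟨ψ, hψ⟩ := ((IsMor.const g).mul (IsMor.pull φ)).mul (IsMor.const g⁻¹)
  refine ⟨ψ, fun z => ?_, (hψ _).symm⟩
  rw [← hψ]
  dsimp only
  rw [hφ, hl, hl]
  group

/-- Limits along two commuting one-parameter subgroups combine. -/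
lemma Fam.add [_root_.IsReduced A] {S : Subgroup (Pt k A)} (hS : IsTor S) {l₁ l₂ nu : A →ₐc[k] k[T;T⁻¹]}
    (h1 : ∀ z : kˣ, DynLib.lamAt l₁ z ∈ S) (h2 : ∀ z : kˣ, DynLib.lamAt l₂ z ∈ S)
    (hnu : ∀ z : kˣ, DynLib.lamAt nu z = DynLib.lamAt l₁ z * DynLib.lamAt l₂ z) {b p q : Pt k A}
    (hp : Fam l₁ b p) (hpS : p ∈ S) (hq : Fam l₂ b q) : Fam nu b p := by
  obtain ⟨σ, _, e, α, he, hαreg, hα1, hαmul, hconjT⟩ := exists_entries hS
  have hcur : ∀ (l : A →ₐc[k] k[T;T⁻¹]), (∀ z : kˣ, DynLib.lamAt l z ∈ S) → ∀ (z : kˣ) (g : Pt k A) (s : σ),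
      (DynLib.lamAt l z * g * DynLib.lamAt l z⁻¹).ofConv (e s) = α s (DynLib.lamAt l z) * g.ofConv (e s) :=
    fun l hl z g s => by rw [DynLib.lamAt_inv]; exact hconjT s _ (hl z) g
  choose a ha using fun s => exists_exponent (hαreg s) (hα1 s) (hαmul s) h1
  choose c hc using fun s => exists_exponent (hαreg s) (hα1 s) (hαmul s) h2
  have hnuS : ∀ z : kˣ, DynLib.lamAt nu z ∈ S := fun z => hnu z ▸ S.mul_mem (h1 z) (h2 z)
  have hd : ∀ s (z : kˣ), α s (DynLib.lamAt nu z) = ((z ^ (a s + c s) : kˣ) : k) := fun s z => by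
    rw [hnu, hαmul s _ (h1 z) _ (h2 z), ha, hc, zpow_add, Units.val_mul]
  have hab : ∀ s, b.ofConv (e s) ≠ 0 → 0 ≤ a s ∧ 0 ≤ c s ∧ p.ofConv (e s) = if a s = 0 then b.ofConv (e s) else 0 :=
    fun s hs => by
      obtain ⟨h3, h4⟩ := hp.exponent (a := e s) (fun z => by rw [hcur _ h1, ha]) hs
      obtain ⟨h5, -⟩ := hq.exponent (a := e s) (fun z => by rw [hcur _ h2, hc]) hs
      exact ⟨h3, h5, h4⟩
  obtain ⟨p', hp', hpe⟩ := exists_fam (lam := nu) (g := b) (d := fun s => a s + c s) he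
    (fun s z => by rw [hcur _ hnuS, hd]) fun s hs => add_nonneg (hab s hs).1 (hab s hs).2.1
  suffices e' : p' = p from e' ▸ hp'
  refine WithConv.ext (AlgHom.ext_of_adjoin_eq_top he ?_)
  rintro _ ⟨s, rfl⟩
  rw [hpe]
  by_cases hb : b.ofConv (e s) = 0
  · rw [hb, ite_self]
    exact (hp.mem (Y := {g | g.ofConv (e s) = 0}) ((IsReg.eval _).isClosed_eq (IsReg.const 0))
      fun z => by rw [Set.mem_setOf_eq, hcur _ h1, hb, mul_zero]).symm
  obtain ⟨h3, h4, h5⟩ := hab s hb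
  by_cases hz : a s + c s = 0
  · rw [if_pos hz, h5, if_pos (by omega)]
  rw [if_neg hz]
  by_cases hp0 : p.ofConv (e s) = 0
  · exact hp0.symm
  exfalso
  have ha0 : a s = 0 := by
    by_contra h
    rw [h5, if_neg h] at hp0
    exact hp0 rfl
  refine hz ?_
  rw [ha0, zero_add]
  refine eq_of_zpow_eq (k := k) fun z => Units.ext ?_
  have h6 := hcur _ h2 z p s
  rw [DynLib.lamAt_inv, hS.comm _ (h2 z) _ hpS, mul_inv_cancel_right, hc] at h6
  rw [zpow_zero, Units.val_one]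
  exact (mul_eq_right₀ hp0).1 h6.symm

/-- **Existence of a height.** -/
theorem exists_heightData [IsDomain A] (hred : IsRedPts k A) {B : Subgroup (Pt k A)} (hB : IsBor ⊤ B) :
    Nonempty (HeightData B) := by
  classical
  haveI : _root_.IsReduced A := inferInstance
  have hirr := isIrreducible_univ (k := k) (R := A)
  have hconn : IsPreconnected (Set.univ : Set (Pt k A)) := hirr.isConnected.isPreconnected
  have hKc : IsClosed ((⊤ : Subgroup (Pt k A)) : Set (Pt k A)) := by rw [Subgroup.coe_top]; exact isClosed_univ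
  have hK : IsPreconnected ((⊤ : Subgroup (Pt k A)) : Set (Pt k A)) := by rwa [Subgroup.coe_top]
  obtain ⟨T₀, hT₀, -⟩ := exists_isMaxTor hKc hK
  obtain ⟨l₀, l₀n, hn₀, hl₀T, hreg₀⟩ := exists_cochar hT₀.tor
  obtain ⟨B₀, hB₀, -, hlim₀, -⟩ := exists_bor_of_cochar hred hT₀ hn₀ hl₀T hreg₀
  obtain ⟨g, -, hgB⟩ := hB₀.exists_conj hKc hK hB
  set S := conjSub g T₀
  have hST : IsMaxTor ⊤ S := ⟨le_top, hT₀.tor.conjSub g, fun T' _ h hle => by
    have h1 := hT₀.maximal (conjSub g⁻¹ T') le_top (h.conjSub g⁻¹) (by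
      have := conjSub_mono (a := g⁻¹) hle
      rwa [conjSub_conjSub, inv_mul_cancel, conjSub_one] at this)
    show T' = conjSub g T₀
    rw [← h1, conjSub_conjSub, mul_inv_cancel, conjSub_one]⟩
  obtain ⟨lam, hlam⟩ := exists_cochar_of_mor (A := A) (F := fun x => g * pull (l₀ : A →ₐ[k] k[T;T⁻¹]) x * g⁻¹)
    (((IsMor.const g).mul (IsMor.pull _)).mul (IsMor.const g⁻¹)) (by rw [pull_bialg_one, mul_one, mul_inv_cancel])
    fun x x' => by rw [pull_bialg_mul]; group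
  have hlam' : ∀ z : kˣ, DynLib.lamAt lam z = g * DynLib.lamAt l₀ z * g⁻¹ := hlam
  have hlS : ∀ z : kˣ, DynLib.lamAt lam z ∈ S := fun z =>
    hlam' z ▸ mem_conjSub.2 (by simpa [mul_assoc] using hl₀T z)
  obtain ⟨lamNeg, hlamNeg, hnS⟩ := exists_comb hST.tor.comm hlS hlS (-1) 0
  have hneg : ∀ z : kˣ, DynLib.lamAt lamNeg z = DynLib.lamAt lam z⁻¹ := fun z => by
    rw [hlamNeg, zpow_zero, mul_one, zpow_neg_one, DynLib.lamAt_inv]
  have hneg' : ∀ z : kˣ, DynLib.lamAt lam z = DynLib.lamAt lamNeg z⁻¹ := fun z => by rw [hneg, inv_inv]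
  have hreg : ∀ x : Pt k A, (∀ z : kˣ, x * DynLib.lamAt lam z = DynLib.lamAt lam z * x) → ∀ s ∈ S, x * s = s * x := by
    intro x hx s hs
    have h1 : ∀ z : kˣ, (g⁻¹ * x * g) * DynLib.lamAt l₀ z = DynLib.lamAt l₀ z * (g⁻¹ * x * g) := fun z => by
      have := congrArg (fun y => g⁻¹ * y * g) (hx z)
      simp only [hlam'] at this
      simpa [mul_assoc] using this
    have h2 := congrArg (fun y => g * y * g⁻¹) (hreg₀ _ h1 _ (mem_conjSub.1 hs))
    simpa [mul_assoc] using h2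
  have hregN : ∀ x : Pt k A, (∀ z : kˣ, x * DynLib.lamAt lamNeg z = DynLib.lamAt lamNeg z * x) → ∀ s ∈ S, x * s = s * x :=
    fun x hx => hreg x fun z => by rw [hneg']; exact hx z⁻¹
  obtain ⟨B₁, hB₁, -, hlim, hmem⟩ := exists_bor_of_cochar hred hST (negParam_of_inv hneg) hlS hreg
  obtain ⟨Bm, hBm, hSBm, hlimm, hmemm⟩ := exists_bor_of_cochar hred hST (negParam_of_inv hneg') hnS hregN
  have hBB : B = B₁ := by
    refine (hB.maximal B₁ le_top hB₁.closed hB₁.conn hB₁.sol fun b hb => ?_).symm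
    rw [← hgB, mem_conjSub] at hb
    obtain ⟨p, -, hp, -⟩ := hlim₀ _ hb
    have := hp.transport g hlam'
    rw [show g * (g⁻¹ * b * g) * g⁻¹ = b by group] at this
    exact hmem _ _ this
  subst hBB
  have hSB : S ≤ B := fun t ht => hmem t t (fam_of_commute t fun z => hST.tor.comm t ht _ (hlS z))
  -- the reflecting element
  obtain ⟨g₁, -, hg₁⟩ := hBm.exists_conj hKc hK hB
  have hmax : IsMaxTor B S := ⟨hSB, hST.tor, fun T' _ h hle => hST.maximal T' le_top h hle⟩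
  obtain ⟨x, hx, hxT⟩ := hmax.exists_conj_le hB.closed hB.conn
    (show conjSub g₁ S ≤ B by rw [← hg₁]; exact conjSub_mono hSBm) (hST.tor.conjSub g₁)
  rw [conjSub_conjSub] at hxT
  obtain ⟨n, hndef⟩ : ∃ n, x * g₁ = n := ⟨_, rfl⟩
  rw [hndef] at hxT
  have hnB : conjSub n Bm = B := by rw [← hndef, ← conjSub_conjSub, hg₁, conjSub_eq_self hx]
  have hnS' : conjSub n S = S := by
    have h3 : S ≤ conjSub n⁻¹ S := by
      have := conjSub_mono (a := n⁻¹) hxT
      rwa [conjSub_conjSub, inv_mul_cancel, conjSub_one] at this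
    have h4 := hST.maximal _ le_top (hST.tor.conjSub n⁻¹) h3
    conv_lhs => rw [← h4, conjSub_conjSub, mul_inv_cancel, conjSub_one]
  obtain ⟨mu, hmu⟩ := exists_cochar_of_mor (A := A) (F := fun x => n * pull (lamNeg : A →ₐ[k] k[T;T⁻¹]) x * n⁻¹)
    (((IsMor.const n).mul (IsMor.pull _)).mul (IsMor.const n⁻¹)) (by rw [pull_bialg_one, mul_one, mul_inv_cancel])
    fun x x' => by rw [pull_bialg_mul]; group
  have hmu' : ∀ z : kˣ, DynLib.lamAt mu z = n * DynLib.lamAt lamNeg z * n⁻¹ := hmu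
  have hmuS : ∀ z : kˣ, DynLib.lamAt mu z ∈ S := fun z => hmu' z ▸ hnS'.le ⟨_, hnS z, by simp⟩
  obtain ⟨muN, hmuN⟩ := exists_cochar_of_mor (A := A) (F := fun x => n * pull (lam : A →ₐ[k] k[T;T⁻¹]) x * n⁻¹)
    (((IsMor.const n).mul (IsMor.pull _)).mul (IsMor.const n⁻¹)) (by rw [pull_bialg_one, mul_one, mul_inv_cancel])
    fun x x' => by rw [pull_bialg_mul]; group
  have hmuN' : ∀ z : kˣ, DynLib.lamAt muN z = n * DynLib.lamAt lam z * n⁻¹ := hmuN
  have hmuNS : ∀ z : kˣ, DynLib.lamAt muN z ∈ S := fun z => hmuN' z ▸ hnS'.le ⟨_, hlS z, by simp⟩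
  -- the conjugate is the opposite Borel subgroup
  obtain ⟨W⟩ := DynLib.exists_weightRep k lam
  have hup : ∀ p : Pt k A, Dyn.LimExists k A lam k p.ofConv → p ∈ B := fun p hp => by
    obtain ⟨q, hq⟩ := (exists_fam_iff_limExists p).2 hp
    exact hmem p q hq
  have hlow : ∀ p : Pt k A, Dyn.LimIsOne k A lamNeg k p.ofConv → p ∈ Bm := fun p hp =>
    hmemm p 1 ((fam_one_iff_limIsOne p).2 hp)
  have hinter : ∀ c ∈ conjSub n B, c ∈ B → c ∈ S := by
    intro c hcn hc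
    rw [mem_conjSub] at hcn
    obtain ⟨p, hpS, hp, -⟩ := hlim _ hcn
    have h1 := hp.transport n hmuN'
    rw [show n * (n⁻¹ * c * n) * n⁻¹ = c by group] at h1
    obtain ⟨q, hqS, hq, -⟩ := hlimm (n⁻¹ * c * n) (by rw [← mem_conjSub, hnB]; exact hc)
    have h2 := hq.transport n hmu'
    rw [show n * (n⁻¹ * c * n) * n⁻¹ = c by group] at h2
    obtain ⟨σ, _, e, α, he, hαreg, hα1, hαmul, hconjT⟩ := exists_entries (T := S) hST.tor
    have hcom : ∀ w : kˣ, DynLib.lamAt mu w * c * DynLib.lamAt mu w⁻¹ = c := fun w => by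
      refine WithConv.ext (AlgHom.ext_of_adjoin_eq_top he ?_)
      rintro _ ⟨s, rfl⟩
      rw [DynLib.lamAt_inv, hconjT s _ (hmuS w)]
      by_cases hc0 : c.ofConv (e s) = 0
      · rw [hc0, mul_zero]
      obtain ⟨a, ha⟩ := exists_exponent (hαreg s) (hα1 s) (hαmul s) hmuS
      obtain ⟨h5, -⟩ := h2.exponent (a := e s) (m := a) (fun z => by
        rw [DynLib.lamAt_inv, hconjT s _ (hmuS z), ha]) hc0
      have hmn : ∀ z : kˣ, DynLib.lamAt muN z = DynLib.lamAt mu z⁻¹ := fun z => by rw [hmu', hmuN', hneg']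
      obtain ⟨h6, -⟩ := h1.exponent (a := e s) (m := -a) (fun z => by
        rw [DynLib.lamAt_inv, hconjT s _ (hmuNS z), hmn, ha, inv_zpow']) hc0
      have ha0 : a = 0 := by omega
      rw [ha, ha0, zpow_zero, Units.val_one, one_mul]
    have h7 : ∀ z : kˣ, (n⁻¹ * c * n) * DynLib.lamAt lam z = DynLib.lamAt lam z * (n⁻¹ * c * n) := fun z => by
      have h8 := hcom z⁻¹
      rw [hmu', DynLib.lamAt_inv mu z⁻¹, hmu', ← hneg'] at h8
      rw [show n * DynLib.lamAt lam z * n⁻¹ * c * (n * DynLib.lamAt lam z * n⁻¹)⁻¹ =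
        (n * DynLib.lamAt lam z * n⁻¹ * c) * (n * DynLib.lamAt lam z * n⁻¹)⁻¹ from rfl, mul_inv_eq_iff_eq_mul] at h8
      calc (n⁻¹ * c * n) * DynLib.lamAt lam z = n⁻¹ * (c * (n * DynLib.lamAt lam z * n⁻¹)) * n := by group
        _ = n⁻¹ * (n * DynLib.lamAt lam z * n⁻¹ * c) * n := by rw [h8]
        _ = _ := by group
    have h9 : n⁻¹ * c * n ∈ S := by
      rw [← hred.centralizer_eq hconn hST]
      exact Subgroup.mem_centralizer_iff.2 fun s hs => (hreg _ h7 s hs).symm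
    exact hnS'.le ⟨_, h9, by simp [mul_assoc]⟩
  have hcell1 : IsUnit ((1 : Pt k A).ofConv W.cell) := by
    have := W.isUnit_cell (negParam_of_inv hneg) (u := (1 : Pt k A)) (p := (1 : Pt k A))
      ((W.limIsOne_neg_iff_low1 (negParam_of_inv hneg) 1).2 (by rw [W.mat_one]; exact fun i j _ => rfl))
      ((W.limExists_iff_up 1).2 (by rw [W.mat_one]; exact DynLib.isWt_one.isUp))
    rwa [one_mul] at this
  have hBmeq : conjSub n B = Bm := by
    have hbn : IsBor ⊤ (conjSub n B) := hB.conjSub trivial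
    refine (hbn.maximal Bm le_top hBm.closed hBm.conn hBm.sol ?_).symm
    by_contra h
    obtain ⟨b, hb, hbu⟩ := SetLike.not_le_iff_exists.1 h
    obtain ⟨y, hyB, hyu, hyc⟩ := (isIrreducible_of_connected hbn.closed hbn.conn).2 (Bm : Set (Pt k A))ᶜ
      {x | x.ofConv W.cell ≠ 0} hBm.closed.isOpen_compl (BorelLib.isOpen_ne _) ⟨b, hb, hbu⟩
      ⟨1, Subgroup.one_mem _, hcell1.ne_zero⟩
    obtain ⟨u', p, hup', hu', hp⟩ := W.exists_factor (negParam_of_inv hneg) y (Ne.isUnit hyc)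
    obtain ⟨-, hpB⟩ := RootSubgrp.factor_mem lam lamNeg (negParam_of_inv hneg) hbn.closed
      (fun z => by rw [← hnS'] at hlS; exact conjSub_mono hSB (hlS z)) hu' hp (hup' ▸ hyB)
    exact hyu (hup' ▸ Bm.mul_mem (hlow _ hu') (hSBm (hinter _ hpB (hup _ hp))))
  -- the height
  obtain ⟨h, hh, hhS⟩ := exists_comb hST.tor.comm hlS hmuS 1 1
  obtain ⟨hN, hhN, hhNS⟩ := exists_comb hST.tor.comm hnS hmuNS 1 1
  refine ⟨{ S := S, Bm := Bm, lam := h, lamNeg := hN, tor := hST.tor, le := hSB, leNeg := hSBm, bor := hBm,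
            mem := hhS, neg := fun z => ?_, limit := fun b hb => ?_, limitNeg := fun b hb => ?_, cell := ?_,
            det := fun V _ _ _ r z => ?_ }⟩
  · rw [hhN, hh, hneg, hmuN', hmu', ← hneg']
  · obtain ⟨p, hpS, hp, huni⟩ := hlim b hb
    obtain ⟨q, -, hq, -⟩ := hlimm (n⁻¹ * b * n) (by rw [← mem_conjSub, hnB]; exact hb)
    have h2 := hq.transport n hmu'
    rw [show n * (n⁻¹ * b * n) * n⁻¹ = b by group] at h2
    exact ⟨p, hpS, hp.add hST.tor hlS hmuS (fun z => by rw [hh, zpow_one, zpow_one]) hpS h2, huni⟩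
  · obtain ⟨p, hpS, hp, -⟩ := hlimm b hb
    obtain ⟨q, -, hq, -⟩ := hlim (n⁻¹ * b * n) (by rw [← mem_conjSub, hBmeq]; exact hb)
    have h2 := hq.transport n hmuN'
    rw [show n * (n⁻¹ * b * n) * n⁻¹ = b by group] at h2
    exact ⟨p, hpS, hp.add hST.tor hnS hmuNS (fun z => by rw [hhN, zpow_one, zpow_one]) hpS h2⟩
  · refine ⟨{x | x.ofConv W.cell ≠ 0}, BorelLib.isOpen_ne _, ⟨1, hcell1.ne_zero⟩, fun y hy => ?_⟩
    obtain ⟨u', p, hup', hu', hp⟩ := W.exists_factor (negParam_of_inv hneg) y (Ne.isUnit hy)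
    exact ⟨u', hlow _ hu', p, hup _ hp, hup'.symm⟩
  · have hd : ∀ a b : Pt k A, LinearMap.det (r.ρ (a * b)) = LinearMap.det (r.ρ a) * LinearMap.det (r.ρ b) :=
      fun a b => by rw [r.map_mul a trivial b trivial, map_mul]
    have h1 : LinearMap.det (r.ρ (1 : Pt k A)) = 1 := by rw [r.map_one, map_one]
    rw [hh, zpow_one, zpow_one, hmu', hneg, DynLib.lamAt_inv, hd, hd, hd]
    calc _ = (LinearMap.det (r.ρ (DynLib.lamAt lam z)) * LinearMap.det (r.ρ (DynLib.lamAt lam z)⁻¹)) *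
          (LinearMap.det (r.ρ n) * LinearMap.det (r.ρ n⁻¹)) := by ring
      _ = 1 := by rw [← hd, ← hd, mul_inv_cancel, mul_inv_cancel, h1, one_mul]

end Groth.Agent.ObsLib

end
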