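import Groth.Agent.ObsLib.Ext

/-!
# Subgroups of finite index; identity components; solvable groups
-/

set_option autoImplicit false
set_option linter.style.haveILetI false
set_option linter.unusedSectionVars false

noncomputable section

universe u v w

open WithConv
open scoped TensorProduct

namespace Groth.Agent.ObsLib

open BorelLib

attribute [local instance] pTop pTopTensor

variable {k : Type u} [Field k] [IsAlgClosed k] {A : Type u} [CommRing A] [HopfAlgebra k A] [Algebra.FiniteType k A]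
  [IsReduced A] {S T : Subgroup (Pt k A)}

/-- Finite index. -/
def FinIdx (S T : Subgroup (Pt k A)) : Prop :=
  ∃ F : Finset (Pt k A), (∀ r ∈ F, r ∈ T) ∧ ∀ g ∈ T, ∃ r ∈ F, r⁻¹ * g ∈ S

omit [IsReduced A] in
lemma finIdx_neut (hS : IsClosed (S : Set (Pt k A))) : FinIdx (neut S) S := exists_neut_cosets hS

omit [IsReduced A] in
lemma isClosed_top_sub : IsClosed ((⊤ : Subgroup (Pt k A)) : Set (Pt k A)) := by
  rw [Subgroup.coe_top]; exact isClosed_univ

omit [IsReduced A] in
lemma FinIdx.inf (h : FinIdx S T) (U : Subgroup (Pt k A)) (hU : U ≤ T) : FinIdx (S ⊓ U) U := by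
  classical
  obtain ⟨F, -, hF⟩ := h
  let c : Pt k A → Pt k A := fun r => if he : ∃ x ∈ U, r⁻¹ * x ∈ S then he.choose else 1
  refine ⟨F.image c, fun r hr => ?_, fun g hg => ?_⟩
  · obtain ⟨r, -, rfl⟩ := Finset.mem_image.1 hr
    simp only [c]
    split_ifs with he
    · exact he.choose_spec.1
    · exact U.one_mem
  · obtain ⟨r, hr, hrg⟩ := hF g (hU hg)
    have he : ∃ x ∈ U, r⁻¹ * x ∈ S := ⟨g, hg, hrg⟩
    refine ⟨c r, Finset.mem_image_of_mem _ hr, ?_, U.mul_mem (inv_mem ?_) hg⟩
    · simp only [c, dif_pos he]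
      have := S.mul_mem (inv_mem he.choose_spec.2) hrg
      rwa [mul_inv_rev, inv_inv, mul_assoc, mul_inv_cancel_left] at this
    · simp only [c, dif_pos he]
      exact he.choose_spec.1

omit [IsReduced A] in
/-- Disjoint closed sets are separated by a function. -/
lemma exists_sep_closed {Y Y' : Set (Pt k A)} (hY : IsClosed Y) (hY' : IsClosed Y') (hd : Disjoint Y Y') :
    ∃ e : A, (∀ x ∈ Y, x.ofConv e = 1) ∧ ∀ x ∈ Y', x.ofConv e = 0 := by
  have htop : vanish (k := k) Y ⊔ vanish Y' = ⊤ := by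
    by_contra hne
    obtain ⟨M, hM, hle⟩ := Ideal.exists_le_maximal _ hne
    obtain ⟨x, hx⟩ := exists_toP_eq (k := k) (⟨M, hM.isPrime⟩ : PrimeSpectrum A) hM
    have hker : ∀ a ∈ M, x.ofConv a = 0 := fun a ha => by
      by_contra h0
      exact ((notMem_toP (x := x) (a := a)).2 h0) (hx.symm ▸ ha)
    refine (Set.disjoint_left.1 hd) (show x ∈ Y from ?_) (show x ∈ Y' from ?_)
    · rw [← zeros_vanish_of_isClosed hY]; exact fun a ha => hker a (hle (Ideal.mem_sup_left ha))
    · rw [← zeros_vanish_of_isClosed hY']; exact fun a ha => hker a (hle (Ideal.mem_sup_right ha))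
  obtain ⟨j, hj, j', hj', hjj⟩ := Submodule.mem_sup.1 ((Ideal.eq_top_iff_one _).1 htop)
  refine ⟨j', fun x hx => ?_, fun x hx => hj' x hx⟩
  have := congrArg x.ofConv hjj
  rwa [map_add, hj x hx, zero_add, map_one] at this

/-- Open subgroups are observable. -/
theorem FinIdx.obsIn (h : FinIdx S T) (hST : S ≤ T) (hS : IsClosed (S : Set (Pt k A))) : ObsIn S T := by
  classical
  obtain ⟨F, hFT, hF⟩ := h
  intro g hg hall
  by_contra hgS
  let Y' : Set (Pt k A) := ⋃ r ∈ F.filter (fun r => r ∉ S), {x | r⁻¹ * x ∈ S}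
  have hY' : IsClosed Y' := isClosed_biUnion_finset fun r _ => hS.preimage (continuous_const_mul r⁻¹)
  have hY'mem : ∀ x ∈ T, x ∉ S → x ∈ Y' := fun x hx hxS => by
    obtain ⟨r, hr, hrx⟩ := hF x hx
    refine Set.mem_iUnion₂.2 ⟨r, Finset.mem_filter.2 ⟨hr, fun hrS => hxS ?_⟩, hrx⟩
    simpa using S.mul_mem hrS hrx
  have hd : Disjoint (S : Set (Pt k A)) Y' := Set.disjoint_left.2 fun x hx hx' => by
    obtain ⟨r, hr, hrx⟩ := Set.mem_iUnion₂.1 hx'
    refine (Finset.mem_filter.1 hr).2 ?_
    have := S.mul_mem hx (inv_mem (show r⁻¹ * x ∈ S from hrx))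
    rwa [mul_inv_rev, inv_inv, mul_inv_cancel_left] at this
  obtain ⟨e, he1, he0⟩ := exists_sep_closed hS hY' hd
  have := hall e fun x hx h hh => by
    by_cases hxS : x ∈ S
    · rw [he1 x hxS, he1 _ (S.mul_mem hxS hh)]
    · rw [he0 x (hY'mem x hx hxS), he0 _ (hY'mem _ (T.mul_mem hx (hST hh)) fun h' => hxS (by
        simpa using S.mul_mem h' (inv_mem hh)))]
  rw [he0 g (hY'mem g hg hgS), he1 1 S.one_mem] at this
  exact zero_ne_one this

/-- An overgroup of an observable subgroup of finite index is observable. -/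
theorem FinIdx.obs_of_obs (h : FinIdx T S) (hT : Obs T) (hle : T ≤ S) : Obs S := by
  classical
  obtain ⟨F, hFS, hF⟩ := h
  obtain ⟨s, hs, hsep⟩ := hT.exists_sep
  intro g hg
  by_contra hgS
  -- the cosets
  haveI : Finite (S ⧸ T.subgroupOf S) := Finite.of_surjective
    (fun r : F => (QuotientGroup.mk (⟨r.1, hFS _ r.2⟩ : S) : S ⧸ T.subgroupOf S)) fun q => by
      induction q using QuotientGroup.induction_on with
      | _ x =>
        obtain ⟨r, hr, hrx⟩ := hF x x.2
        exact ⟨⟨r, hr⟩, QuotientGroup.eq.2 (by rw [Subgroup.mem_subgroupOf]; exact hrx)⟩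
  haveI := Fintype.ofFinite (S ⧸ T.subgroupOf S)
  let h' : S ⧸ T.subgroupOf S → Pt k A := fun q => (q.out : Pt k A)
  have hsep' : ∀ p q, ∃ a : A, Inv T a ∧ (h' p).ofConv a = 0 ∧ (g * h' q).ofConv a = 1 := fun p q => by
    obtain ⟨a, has, hne⟩ : ∃ a ∈ s, (h' p).ofConv a ≠ (g * h' q).ofConv a := by
      by_contra hcon
      push Not at hcon
      refine hgS ?_
      have h1 := hle (hsep _ _ hcon)
      have := S.mul_mem (S.mul_mem p.out.2 h1) (inv_mem q.out.2)
      rwa [mul_inv_cancel_left, mul_inv_cancel_right] at this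
    let c : k := (h' p).ofConv a
    let c' : k := (g * h' q).ofConv a - c
    refine ⟨(a - algebraMap k A c) * algebraMap k A c'⁻¹, fun x t ht => ?_, ?_, ?_⟩
    · simp only [map_mul, map_sub, AlgHom.commutes, hs a has x t ht]
    · simp [c]
    · simp only [map_mul, map_sub, AlgHom.commutes, Algebra.algebraMap_self, RingHom.id_apply]
      exact mul_inv_cancel₀ (sub_ne_zero.2 (Ne.symm hne))
  choose a ha ha0 ha1 using hsep'
  let u₀ : A := 1 - ∏ q, (1 - ∏ p, a p q)
  have hu₀ : Inv T u₀ := fun x t ht => by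
    simp only [u₀, map_sub, map_one, map_prod, ha _ _ x t ht]
  have hu0 : ∀ p, (h' p).ofConv u₀ = 0 := fun p => by
    simp only [u₀, map_sub, map_one, map_prod]
    rw [Finset.prod_eq_one fun q _ => by rw [Finset.prod_eq_zero (Finset.mem_univ p) (ha0 p q), sub_zero], sub_self]
  have hu1 : ∀ q, (g * h' q).ofConv u₀ = 1 := fun q => by
    simp only [u₀, map_sub, map_one, map_prod]
    rw [Finset.prod_eq_zero (Finset.mem_univ q) (by rw [Finset.prod_eq_one fun p _ => ha1 p q, sub_self]), sub_zero]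
  let fx : Pt k A → S ⧸ T.subgroupOf S → k := fun x => Quotient.lift (fun y : S => (x * y).ofConv u₀) fun y z hyz => by
    have hyz' : ((y : Pt k A))⁻¹ * z ∈ T := by
      simpa [Subgroup.mem_subgroupOf] using QuotientGroup.leftRel_apply.1 hyz
    rw [← hu₀ (x * y) _ hyz', mul_assoc, mul_inv_cancel_left]
  have hfx : ∀ x q, fx x q = (x * h' q).ofConv u₀ := fun x q => by
    conv_lhs => rw [← QuotientGroup.out_eq' q]
    rfl
  let Nm : A := ∏ q, rT (h' q) u₀
  have hNm : Inv S Nm := fun x y hy => by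
    simp only [Nm, map_prod, eval_rT, ← hfx]
    refine Eq.trans (Finset.prod_congr rfl fun q _ => ?_)
      (Equiv.prod_comp (MulAction.toPerm (⟨y, hy⟩ : S)) (fx x))
    induction q using QuotientGroup.induction_on with
    | _ z =>
      show (x * y * z).ofConv u₀ = (x * ((⟨y, hy⟩ * z : S) : Pt k A)).ofConv u₀
      rw [Subgroup.coe_mul, mul_assoc]
  have := hg Nm hNm
  simp only [Nm, map_prod, eval_rT, one_mul] at this
  rw [Finset.prod_eq_one fun q _ => hu1 q, Finset.prod_eq_zero (Finset.mem_univ (QuotientGroup.mk 1)) (hu0 _)] at this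
  exact one_ne_zero this

omit [IsReduced A] in
/-- Restriction of observability. -/
theorem Obs.obsIn_inf (h : Obs S) (K : Subgroup (Pt k A)) : ObsIn (S ⊓ K) K :=
  fun g hgK hg => ⟨h g fun a ha => hg a fun x _ y hy => ha x y hy.1, hgK⟩

/-- The identity component of the group is observable. -/
theorem obs_neut_top : Obs (neut (⊤ : Subgroup (Pt k A))) := fun g hg =>
  (finIdx_neut isClosed_top_sub).obsIn le_top (isClosed_neut isClosed_top_sub) g trivial
    fun a ha => hg a fun x y hy => ha x trivial y hy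

/-- **Reduction to the identity component of the group**. -/
theorem obs_iff_inf_neut (hS : IsClosed (S : Set (Pt k A))) :
    Obs S ↔ ObsIn (S ⊓ neut ⊤) (neut (⊤ : Subgroup (Pt k A))) := by
  refine ⟨fun h => h.obsIn_inf _, fun h => ?_⟩
  have h1 : Obs (S ⊓ neut ⊤) := obs_neut_top.trans inf_le_right h
  have h2 : FinIdx (S ⊓ neut ⊤) S := by
    have := (finIdx_neut (isClosed_top_sub (k := k) (A := A))).inf S le_top
    rwa [inf_comm] at this
  exact h2.obs_of_obs h1 inf_le_left

/-- **Reduction to the identity component of the subgroup**. -/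
theorem obs_iff_neut (hS : IsClosed (S : Set (Pt k A))) : Obs S ↔ Obs (neut S) :=
  ⟨fun h => h.trans (neut_le S) ((finIdx_neut hS).obsIn (neut_le S) (isClosed_neut hS)),
    fun h => (finIdx_neut hS).obs_of_obs h (neut_le S)⟩

/-- Subgroups of connected solvable groups have inverse characters. -/
theorem charInv_of_isSol (hconn : _root_.IsPreconnected (Set.univ : Set (Pt k A)))
    (hsol : IsSol (⊤ : Subgroup (Pt k A))) (S : Subgroup (Pt k A)) : CharInv S := by
  classical
  intro a χ ha h1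
  let W : Submodule k A := Submodule.span k {y : A | ∃ a' ∈ ({a} : Finset A), ∃ g : Pt k A, y = rT g a'}
  haveI : FiniteDimensional k W := finiteDimensional_span_rT (k := k) {a}
  have hW : ∀ g : Pt k A, ∀ y ∈ W, rT g y ∈ W := fun g y hy => by
    induction hy using Submodule.span_induction with
    | mem y hy =>
      obtain ⟨a', ha', g', rfl⟩ := hy
      exact Submodule.subset_span ⟨a', ha', g * g', by rw [rT_mul]; rfl⟩
    | zero => simp
    | add y z _ _ hy hz => rw [map_add]; exact add_mem hy hz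
    | smul c y _ hy => rw [map_smul]; exact Submodule.smul_mem _ c hy
  have haW : a ∈ W := Submodule.subset_span ⟨a, by simp, 1, by rw [rT_one]; rfl⟩
  haveI : Nontrivial W := ⟨⟨⟨a, haW⟩, 0, fun e => h1 (by rw [show a = 0 from congrArg Subtype.val e, map_zero])⟩⟩
  let R := funRep W hW
  obtain ⟨φ, -, hφ0, hφ⟩ := R.dual.exists_weight_of_isSol le_rfl (by rwa [Subgroup.coe_top]) hsol (W := ⊤)
    top_ne_bot fun _ _ _ _ => trivial
  have heig : ∀ g : Pt k A, ∃ c : k, ∀ w : W, φ (R.ρ g w) = c * φ w := fun g => by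
    obtain ⟨c, hc⟩ := hφ g⁻¹ trivial
    refine ⟨c, fun w => ?_⟩
    have := LinearMap.congr_fun hc w
    simpa [RegRep.dual] using this
  choose θ hθ using heig
  let w₀ : W := ⟨a, haW⟩
  have hφw : φ w₀ ≠ 0 := by
    intro h0
    refine hφ0 (LinearMap.ext fun w => ?_)
    have key : ∀ y ∈ W, ∀ hy : y ∈ W, φ ⟨y, hy⟩ = 0 := by
      intro y hy
      induction hy using Submodule.span_induction with
      | mem y hy =>
        obtain ⟨a', ha', g, rfl⟩ := hy
        obtain rfl : a' = a := by simpa using ha'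
        intro hy'
        show φ (R.ρ g w₀) = 0
        rw [hθ, h0, mul_zero]
      | zero => exact fun _ => map_zero φ
      | add y z hy' hz' hy hz =>
        intro _
        show φ (⟨y, hy'⟩ + ⟨z, hz'⟩ : W) = 0
        rw [map_add, hy, hz, add_zero]
      | smul c y hy' hy =>
        intro _
        show φ (c • (⟨y, hy'⟩ : W)) = 0
        rw [map_smul, hy, smul_zero]
    exact key _ w.2 w.2
  obtain ⟨b₀, hb₀⟩ := R.reg φ w₀
  simp only at hb₀
  obtain ⟨b, hb⟩ := (IsReg.eval b₀).comp (IsMor.id (k := k) (R := A)).inv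
  simp only at hb
  refine ⟨b, fun x h hh => ?_, by rw [← hb, inv_one, ← hb₀, R.map_one, Module.End.one_apply]; exact hφw⟩
  rw [← hb, ← hb, mul_inv_rev, ← hb₀, ← hb₀, R.mul_apply trivial trivial, hθ,
    show R.ρ x⁻¹ w₀ = R.ρ x⁻¹ w₀ from rfl]
  have hwt : θ h⁻¹ = (χ h)⁻¹ := by
    refine mul_right_cancel₀ hφw ?_
    rw [← hθ, show R.ρ h⁻¹ w₀ = (χ h)⁻¹ • w₀ from Subtype.ext (ext_pts (k := k) fun y => by
      show y.ofConv (rT h⁻¹ a) = y.ofConv ((χ h)⁻¹ • a)
      rw [eval_rT, ha y _ (inv_mem hh), ha.char_inv h1 hh, map_smul, smul_eq_mul]), map_smul, smul_eq_mul]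
  rw [hwt]

/-- Transfer from a frame. -/
theorem obsIn_of_frame {B : Type u} [CommRing B] [HopfAlgebra k B] {f : Pt k B →* Pt k A} {φ : A →ₐ[k] B}
    (hφ : Function.Surjective φ) (hf : ∀ x, f x = pull φ x) {K : Subgroup (Pt k A)} (hK : f.range = K)
    (hSK : S ≤ K) (h : Obs (S.comap f)) : ObsIn S K := by
  intro g hg hall
  obtain ⟨x, rfl⟩ : g ∈ f.range := hK.symm ▸ hg
  refine h x fun b hb => ?_
  obtain ⟨a, rfl⟩ := hφ b
  have := hall a fun y hy s hs => by
    obtain ⟨y, rfl⟩ : y ∈ f.range := hK.symm ▸ hy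
    obtain ⟨s', hs'⟩ : s ∈ f.range := hK.symm ▸ hSK hs
    subst hs'
    rw [← map_mul, hf, hf, pull_apply, pull_apply]
    exact hb y s' hs
  rw [← map_one f, hf, hf, pull_apply, pull_apply] at this
  exact this

/-- **Every closed subgroup of a solvable group is observable.** -/
theorem obs_of_isSol (hsol : IsSol (neut (⊤ : Subgroup (Pt k A)))) (hS : IsClosed (S : Set (Pt k A))) : Obs S := by
  rw [obs_iff_inf_neut hS]
  set K := neut (⊤ : Subgroup (Pt k A)) with hK
  obtain ⟨B, _, _, f, hB, hB', -, hind, hinj, hrange, φ, hφ, hf⟩ :=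
    exists_frame (isClosed_neut (isClosed_top_sub (k := k) (A := A)))
  haveI := hB; haveI := hB'
  refine obsIn_of_frame hφ hf hrange inf_le_right ?_
  have hcl : IsClosed ((S ⊓ K).comap f : Set (Pt k B)) :=
    (hS.inter (isClosed_neut isClosed_top_sub)).preimage hind.continuous
  refine (charInv_of_isSol (isPreconnected_univ_frame hind (hrange.symm ▸ isPreconnected_neut _)) ?_ _).obs hcl
  obtain ⟨n, hn⟩ := hsol
  refine ⟨n, Subgroup.map_injective hinj ?_⟩
  rw [← der_map, ← MonoidHom.range_eq_map, hrange, hn, Subgroup.map_bot]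

end Groth.Agent.ObsLib

end
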