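import Groth.Agent.ObsLib.Core
import Groth.Agent.BorelLib.Complete

/-!
# Invariant functions vanishing on stable closed sets; inverse characters
-/

set_option autoImplicit false
set_option linter.style.haveILetI false
set_option linter.unusedSectionVars false

noncomputable section

universe u v w

open WithConv
open scoped TensorProduct

namespace Groth.Agent.ObsLib

open BorelLib

attribute [local instance] pTop pTopTensor

variable {k : Type u} [Field k] [IsAlgClosed k] {A : Type u} [CommRing A] [HopfAlgebra k A] [Algebra.FiniteType k A]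
  [IsReduced A] {S : Subgroup (Pt k A)}

omit [IsReduced A] in
/-- A function vanishing on the zeros of an ideal lies in its radical. -/
lemma mem_radical_of_zeros {I : Ideal A} {a : A} (h : ∀ x ∈ zeros (k := k) (I : Set A), x.ofConv a = 0) :
    a ∈ I.radical := by
  by_contra hne
  obtain ⟨x, hx⟩ := exists_pt_ne (k := k) (a := Ideal.Quotient.mk I a) (by
    rintro ⟨n, hn⟩
    exact hne ⟨n, Ideal.Quotient.eq_zero_iff_mem.1 (by rw [map_pow, hn])⟩)
  refine hx (h (pull (Ideal.Quotient.mkₐ k I) x) fun b hb => ?_)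
  rw [pull_apply, Ideal.Quotient.mkₐ_eq_mk, Ideal.Quotient.eq_zero_iff_mem.2 hb, map_zero]

omit [IsReduced A] in
/-- The neutral component is normal. -/
lemma conjSub_neut_top (a : Pt k A) : conjSub a (neut (⊤ : Subgroup (Pt k A))) ≤ neut ⊤ :=
  le_neut (isPreconnected_conjSub (isPreconnected_neut _)) le_top

/-- **Invariants vanishing on a stable closed set**: a right stable closed set missing a point is cut out
from it by an invariant function, for the stabiliser of a vector. -/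
theorem IsVecStab.exists_inv_vanish (h : IsVecStab S) {Z : Set (Pt k A)} (hZc : IsClosed Z)
    (hZ : ∀ z ∈ Z, ∀ s ∈ S, z * s ∈ Z) {x₀ : Pt k A} (hx₀ : x₀ ∉ Z) :
    ∃ u : A, Inv S u ∧ (∀ z ∈ Z, z.ofConv u = 0) ∧ x₀.ofConv u ≠ 0 := by
  classical
  suffices H : ∀ {Z : Set (Pt k A)}, IsClosed Z → (∀ z ∈ Z, ∀ s ∈ S, z * s ∈ Z) → (1 : Pt k A) ∉ Z →
      ∃ u : A, Inv S u ∧ (∀ z ∈ Z, z.ofConv u = 0) ∧ (1 : Pt k A).ofConv u ≠ 0 by
    obtain ⟨u, hu, hu0, hu1⟩ := H (hZc.preimage (continuous_const_mul x₀)) (fun z hz s hs => by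
      show x₀ * (z * s) ∈ Z
      rw [← mul_assoc]; exact hZ _ hz s hs) (by simpa using hx₀)
    refine ⟨lT x₀⁻¹ u, hu.lT _, fun z hz => ?_, by rwa [eval_lT, inv_mul_cancel]⟩
    rw [eval_lT]
    exact hu0 _ (by simpa using hz)
  clear hZc hZ hx₀ x₀ Z
  intro Z hZc hZ h1
  obtain ⟨V, _, _, _, r, v, hv⟩ := h
  let o : Pt k A → Pt k (VPoly k V) := fun x => vp (k := k) (r.ρ x v)
  have ho : IsMor o := isMor_vp fun φ => r.reg φ v
  have hmul : ∀ x y : Pt k A, r.ρ (x * y) = r.ρ x * r.ρ y := fun x y => r.map_mul x trivial y trivial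
  have ho_eq : ∀ {x y : Pt k A}, o x = o y → r.ρ x v = r.ρ y v := fun {x y} e => by
    simpa [o] using congrArg (pv (V := V)) e
  have hstab : ∀ {x y : Pt k A}, o x = o y → x⁻¹ * y ∈ S := fun {x y} e => by
    rw [hv, hmul, Module.End.mul_apply, ← ho_eq e, ← Module.End.mul_apply, ← hmul, inv_mul_cancel, r.map_one,
      Module.End.one_apply]
  have ho_S : ∀ x : Pt k A, ∀ s ∈ S, o (x * s) = o x := fun x s hs => by
    simp only [o]
    rw [hmul, Module.End.mul_apply, (hv s).1 hs]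
  -- translations of the orbit
  let T : Pt k A → Pt k (VPoly k V) → Pt k (VPoly k V) := fun g y => vp (k := k) (r.ρ g (pv y))
  have hTcont : ∀ g, Continuous (T g) := fun g => (isMor_vp fun φ => isReg_pv (φ ∘ₗ r.ρ g)).continuous
  have hTo : ∀ g x, T g (o x) = o (g * x) := fun g x => by simp [T, o, hmul, Module.End.mul_apply]
  suffices hcl : o 1 ∉ closure (o '' Z) by
    rw [mem_closure_iff_forall] at hcl
    push Not at hcl
    obtain ⟨p, hp0, hp1⟩ := hcl
    obtain ⟨a, ha⟩ := (IsReg.eval p).comp ho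
    simp only at ha
    refine ⟨a, fun x s hs => ?_, fun z hz => ?_, by rwa [← ha]⟩
    · rw [← ha, ← ha, ho_S x s hs]
    · rw [← ha]; exact hp0 _ ⟨z, hz, rfl⟩
  intro hbad
  set K : Subgroup (Pt k A) := neut ⊤ with hK
  have hKc : IsClosed (K : Set (Pt k A)) := isClosed_neut (by rw [Subgroup.coe_top]; exact isClosed_univ)
  have hKn : ∀ a x : Pt k A, x ∈ K → a * x * a⁻¹ ∈ K := fun a x hx => conjSub_neut_top a ⟨x, hx, rfl⟩
  obtain ⟨F, -, hF⟩ := exists_neut_cosets (k := k) (A := A) (P := ⊤) (by rw [Subgroup.coe_top]; exact isClosed_univ)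
  -- one coset carries the closure point
  obtain ⟨r₀, hr₀F, hr₀⟩ : ∃ r₀ ∈ F, o 1 ∈ closure (o '' {z | z ∈ Z ∧ r₀⁻¹ * z ∈ K}) := by
    have hsub : o '' Z ⊆ ⋃ r₀ ∈ F, o '' {z | z ∈ Z ∧ r₀⁻¹ * z ∈ K} := by
      rintro _ ⟨z, hz, rfl⟩
      obtain ⟨r₀, hr₀, hzr⟩ := hF z trivial
      exact Set.mem_iUnion₂.2 ⟨r₀, hr₀, z, ⟨hz, hzr⟩, rfl⟩
    have := closure_mono hsub hbad
    rw [Finset.closure_biUnion] at this
    obtain ⟨r₀, hr₀, h'⟩ := Set.mem_iUnion₂.1 this
    exact ⟨r₀, hr₀, h'⟩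
  let C : Set (Pt k (VPoly k V)) := closure (o '' (K : Set (Pt k A)))
  obtain ⟨φ, hφ⟩ := ho
  have himg : ∀ s : Set (Pt k A), pull φ '' s = o '' s := fun s => Set.image_congr fun x _ => (hφ x).symm
  obtain ⟨W, hWo, hWne, hWsub, hWY⟩ := exists_open_saturated φ hKc
    (isIrreducible_of_connected hKc (isPreconnected_neut _))
  rw [himg] at hWne hWsub
  obtain ⟨w, hwW, hwC⟩ := hWne
  obtain ⟨k₁, hk₁, hk₁w⟩ := hWsub ⟨hwW, hwC⟩
  subst hk₁w
  -- the closure of the orbit of the neutral component is stable under it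
  have hCK : ∀ g ∈ K, ∀ y ∈ C, T g y ∈ C := fun g hg y hy =>
    map_mem_closure (hTcont g) hy (by
      rintro _ ⟨x, hx, rfl⟩
      exact ⟨g * x, K.mul_mem hg hx, (hTo g x).symm⟩)
  have hq : o r₀⁻¹ ∈ C := by
    have := map_mem_closure (t := o '' (K : Set (Pt k A))) (hTcont r₀⁻¹) hr₀ (by
      rintro _ ⟨z, ⟨-, hz⟩, rfl⟩
      exact ⟨r₀⁻¹ * z, hz, (hTo _ z).symm⟩)
    rwa [hTo, mul_one] at this
  have hstep : ∀ y ∈ C, T r₀⁻¹ y ∈ C := fun y hy => by
    have := map_mem_closure (t := C) (hTcont r₀⁻¹) hy (by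
      rintro _ ⟨x, hx, rfl⟩
      rw [hTo, show r₀⁻¹ * x = (r₀⁻¹ * x * r₀⁻¹⁻¹) * r₀⁻¹ by group, ← hTo]
      exact hCK _ (hKn _ _ hx) _ hq)
    rwa [isClosed_closure.closure_eq] at this
  have hiter : ∀ n : ℕ, ∀ x ∈ K, o ((r₀⁻¹) ^ n * x) ∈ C := by
    intro n
    induction n with
    | zero => exact fun x hx => subset_closure ⟨x, hx, by rw [pow_zero, one_mul]⟩
    | succ n ih =>
      intro x hx
      rw [pow_succ', mul_assoc, ← hTo]
      exact hstep _ (ih x hx)
  obtain ⟨m, hm⟩ : ∃ m : ℕ, (r₀⁻¹) ^ (m + 1) ∈ K := by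
    choose f hf hfK using fun n : ℕ => hF ((r₀⁻¹) ^ n) trivial
    obtain ⟨i, j, hij, e⟩ := Finite.exists_ne_map_eq_of_infinite fun n : ℕ => (⟨f n, hf n⟩ : F)
    have e' : f i = f j := congrArg Subtype.val e
    have key : ∀ i j : ℕ, i < j → f i = f j → ∃ m : ℕ, (r₀⁻¹) ^ (m + 1) ∈ K := fun i j hlt e => by
      obtain ⟨m, rfl⟩ : ∃ m, j = i + (m + 1) := ⟨j - i - 1, by omega⟩
      refine ⟨m, ?_⟩
      have := K.mul_mem (inv_mem (hfK i)) (hfK (i + (m + 1)))
      rwa [e, mul_inv_rev, inv_inv, mul_assoc, ← mul_assoc (f _) (f _)⁻¹, mul_inv_cancel, one_mul, pow_add,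
        inv_mul_cancel_left] at this
    rcases lt_or_gt_of_ne hij with hlt | hlt
    · exact key i j hlt e'
    · exact key j i hlt e'.symm
  -- the translated closure is the same
  have hD : C ⊆ closure (o '' {x | ∃ y ∈ K, x = r₀⁻¹ * y}) := by
    refine closure_minimal ?_ isClosed_closure
    rintro _ ⟨x, hx, rfl⟩
    have hx' : o ((r₀⁻¹) ^ m * (((r₀⁻¹) ^ (m + 1))⁻¹ * x)) ∈ C :=
      hiter m _ (K.mul_mem (inv_mem hm) hx)
    have := map_mem_closure (t := o '' {x | ∃ y ∈ K, x = r₀⁻¹ * y}) (hTcont r₀⁻¹) hx' (by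
      rintro _ ⟨y, hy, rfl⟩
      exact ⟨r₀⁻¹ * y, ⟨y, hy, rfl⟩, (hTo _ y).symm⟩)
    rwa [hTo, ← mul_assoc, ← pow_succ', mul_inv_cancel_left] at this
  obtain ⟨_, hyW, _, ⟨y, hy, rfl⟩, rfl⟩ := mem_closure_iff.1 (hD hwC) W hWo hwW
  have hyC : o (r₀⁻¹ * y) ∈ C := by simpa using hiter 1 y hy
  obtain ⟨k₂, hk₂, hk₂e⟩ := hWsub ⟨hyW, hyC⟩
  set h : Pt k A := ((r₀⁻¹ * y)⁻¹ * k₂) with hh
  have hhS : h ∈ S := hstab hk₂e.symm
  have hhK : r₀⁻¹ * h ∈ K := by
    rw [hh, mul_inv_rev, inv_inv, show r₀⁻¹ * (y⁻¹ * r₀ * k₂) = r₀⁻¹ * y⁻¹ * r₀⁻¹⁻¹ * k₂ by group]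
    exact K.mul_mem (hKn _ _ (inv_mem hy)) hk₂
  -- move into the neutral component
  have hZK : o 1 ∈ closure (o '' {z | z ∈ Z ∧ z ∈ K}) := by
    refine closure_mono ?_ hr₀
    rintro _ ⟨z, ⟨hz, hzK⟩, rfl⟩
    refine ⟨z * h⁻¹, ⟨hZ z hz _ (inv_mem hhS), ?_⟩, ho_S z _ (inv_mem hhS)⟩
    have e : z * h⁻¹ = h * ((r₀⁻¹ * h)⁻¹ * (r₀⁻¹ * z)) * h⁻¹ := by group
    rw [e]
    exact hKn h _ (K.mul_mem (inv_mem hhK) hzK)
  -- translate into the good open set
  let Y₁ : Set (Pt k A) := {x | k₁⁻¹ * x ∈ Z ∧ x ∈ K}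
  let s₀ : Pt k k := toConv (AlgHom.id k k)
  have hY : IsClosed (sndP (R := k) ⁻¹' Y₁ : Set (Pt k (k ⊗[k] A))) :=
    ((hZc.preimage (continuous_const_mul k₁⁻¹)).inter hKc).preimage IsMor.sndP.continuous
  have hk₁cl : o k₁ ∈ closure (o '' Y₁) := by
    have := map_mem_closure (t := o '' Y₁) (hTcont k₁) hZK (by
      rintro _ ⟨z, ⟨hz, hzK⟩, rfl⟩
      exact ⟨k₁ * z, ⟨by rwa [inv_mul_cancel_left], K.mul_mem hk₁ hzK⟩, (hTo _ z).symm⟩)
    rwa [hTo, mul_one] at this
  have hz : pair s₀ (o k₁) ∈ closure (pull (Algebra.TensorProduct.lTensor (S := k) k φ) ''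
      (sndP (R := k) ⁻¹' Y₁)) := by
    refine map_mem_closure ((IsMor.const s₀).prod IsMor.id).continuous hk₁cl ?_
    rintro _ ⟨x, hx, rfl⟩
    exact ⟨pair s₀ x, by simpa using hx, by rw [pull_lTensor_pair, hφ]⟩
  obtain ⟨q, hq', hqe⟩ := hWY k _ hY (fun y hy => hy.2) (fun s x x' hx hx' e _ hxY => by
      simp only [Set.mem_preimage, sndP_pair] at hxY ⊢
      refine ⟨?_, hx'⟩
      have hs : x⁻¹ * x' ∈ S := hstab (by rw [hφ, hφ, e])
      have := hZ _ hxY.1 _ hs
      rwa [mul_assoc, mul_inv_cancel_left] at this) _ hz (by rwa [sndP_pair])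
  rw [← pair_fstP_sndP q, pull_lTensor_pair] at hqe
  have hsnd := congrArg sndP hqe
  rw [sndP_pair, sndP_pair, ← hφ] at hsnd
  have := hZ _ hq'.1 _ (hstab hsnd)
  rw [mul_assoc, mul_inv_cancel_left, inv_mul_cancel] at this
  exact h1 this

/-- Stabilisers of vectors have inverse characters. -/
theorem IsVecStab.charInv (h : IsVecStab S) : CharInv S := by
  intro a χ ha h1
  obtain ⟨u, hu, hu0, hu1⟩ := h.exists_inv_vanish (isClosed_zeros (k := k) ({a} : Set A))
    (fun z hz s hs b hb => by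
      rw [Set.mem_singleton_iff] at hb
      subst hb
      rw [ha z s hs, hz _ rfl, mul_zero]) (fun hz => h1 (hz a rfl))
  obtain ⟨n, hn⟩ := mem_radical_of_zeros (k := k) (I := Ideal.span {a}) (a := u)
    (fun x hx => hu0 x fun b hb => hx b (Ideal.subset_span hb))
  obtain ⟨b, hb⟩ := Ideal.mem_span_singleton'.1 hn
  refine ⟨u * b, fun x g hg => ?_, ?_⟩
  · rw [map_mul, map_mul, hu x g hg]
    by_cases hx : x.ofConv a = 0
    · rw [hu0 x (fun c hc => by rw [Set.mem_singleton_iff.1 hc, hx])]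
      ring
    · have e1 := congrArg (x * g).ofConv hb
      rw [map_mul, map_pow, hu x g hg, ← map_pow, ← hb, map_mul, ha x g hg] at e1
      have hg0 := ha.char_ne h1 hg
      have e2 : (x * g).ofConv b * χ g = x.ofConv b :=
        mul_right_cancel₀ hx (by rw [mul_assoc]; exact e1)
      rw [← e2]
      field_simp
  · rw [map_mul]
    refine mul_ne_zero hu1 fun hb0 => hu1 ?_
    have e1 := congrArg (1 : Pt k A).ofConv hb
    rw [map_mul, hb0, zero_mul, map_pow] at e1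
    exact (pow_eq_zero_iff'.1 e1.symm).1

theorem obs_iff_charInv (hS : IsClosed (S : Set (Pt k A))) : Obs S ↔ CharInv S :=
  ⟨fun h => h.isVecStab.charInv, fun h => h.obs hS⟩

/-- A function on a connected group which is invariant as a fraction. -/
def FracInv (S : Subgroup (Pt k A)) (a b : A) : Prop :=
  ∀ x : Pt k A, ∀ h ∈ S, (x * h).ofConv a * x.ofConv b = x.ofConv a * (x * h).ofConv b

/-- Invariant fractions are fractions of invariants, for an observable subgroup of a connected group. -/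
theorem Obs.exists_frac [IsDomain A] (h : Obs S) {a b : A} (hb : b ≠ 0) (hab : FracInv S a b) :
    ∃ a' b' : A, Inv S a' ∧ Inv S b' ∧ b' ≠ 0 ∧ a * b' = a' * b := by
  let I : Ideal A := Submodule.comap (LinearMap.mulLeft A a) (Ideal.span {b})
  have hI : ∀ q, q ∈ I ↔ ∃ p, p * b = a * q := fun q => Ideal.mem_span_singleton'
  obtain ⟨x₀, hx₀⟩ := exists_pt_ne (k := k) (a := b) fun hn => hb hn.eq_zero
  obtain ⟨u, hu, hu0, hu1⟩ := h.isVecStab.exists_inv_vanish (isClosed_zeros (k := k) (I : Set A))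
    (fun z hz s hs q hq => by
      have hq' : rT s q ∈ I := by
        obtain ⟨p, hp⟩ := (hI q).1 hq
        refine (hI _).2 ⟨rT s p, ?_⟩
        have hne : rT s b ≠ 0 := fun h0 => hb (by
          have := congrArg (rT s⁻¹) h0
          rwa [map_zero, ← Module.End.mul_apply, ← rT_mul, inv_mul_cancel, rT_one, Module.End.one_apply] at this)
        refine mul_right_cancel₀ hne (ext_pts (k := k) fun x => ?_)
        simp only [map_mul, eval_rT]
        have e := congrArg (x * s).ofConv hp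
        rw [map_mul, map_mul] at e
        linear_combination (x.ofConv b) * e + ((x * s).ofConv q) * (hab x s hs)
      have := hz _ hq'
      rwa [eval_rT] at this)
    (fun hz => hx₀ (hz b ((hI b).2 ⟨a, rfl⟩)))
  obtain ⟨n, hn⟩ := mem_radical_of_zeros (k := k) (a := u) hu0
  obtain ⟨p, hp⟩ := (hI _).1 hn
  refine ⟨p, u ^ n, fun x s hs => ?_, fun x s hs => by rw [map_pow, map_pow, hu x s hs],
    pow_ne_zero _ fun h0 => hu1 (by rw [h0, map_zero]), hp.symm⟩
  have hcl : IsClosed {x : Pt k A | (x * s).ofConv p = x.ofConv p} :=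
    ((IsReg.eval p).comp (IsMor.id.mul (IsMor.const s))).isClosed_eq (IsReg.eval p)
  have hne : rT s b * b ≠ 0 := mul_ne_zero (fun h0 => hb (by
    have := congrArg (rT s⁻¹) h0
    rwa [map_zero, ← Module.End.mul_apply, ← rT_mul, inv_mul_cancel, rT_one, Module.End.one_apply] at this)) hb
  have : rT s p = p := by
    refine mul_right_cancel₀ hne (ext_pts (k := k) fun y => ?_)
    simp only [map_mul, eval_rT]
    have e1 := congrArg (y * s).ofConv hp
    have e2 := congrArg y.ofConv hp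
    rw [map_mul, map_mul, map_pow, hu y s hs] at e1
    rw [map_mul, map_mul, map_pow] at e2
    linear_combination (y.ofConv b) * e1 - ((y * s).ofConv b) * e2 + (y.ofConv u ^ n) * (hab y s hs)
  rw [← eval_rT, this]

/-- If invariant fractions are fractions of invariants, the subgroup is observable. -/
theorem obs_of_frac [IsDomain A] (hS : IsClosed (S : Set (Pt k A)))
    (hfrac : ∀ a b : A, b ≠ 0 → FracInv S a b → ∃ a' b' : A, Inv S a' ∧ Inv S b' ∧ b' ≠ 0 ∧ a * b' = a' * b) :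
    Obs S := by
  intro g hg
  obtain ⟨V, _, _, _, r, v, hv, hst⟩ := exists_line_rep hS
  obtain ⟨χ, -, hχ⟩ := r.exists_reg_weight (H := S) hv fun h hh => by
    obtain ⟨-, c, hc⟩ := hst.ge hh
    exact ⟨c, hc⟩
  rw [← hst]
  refine ⟨trivial, (exists_eq_smul_iff hv).2 fun φ ψ => ?_⟩
  obtain ⟨a, ha⟩ := r.reg φ v
  obtain ⟨b, hb⟩ := r.reg ψ v
  simp only at ha hb
  suffices H : rT g a * b = a * rT g b by
    have := congrArg (1 : Pt k A).ofConv H
    rw [map_mul, map_mul, eval_rT, eval_rT, one_mul, ← ha, ← ha, ← hb, ← hb, r.map_one, Module.End.one_apply]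
      at this
    linear_combination this
  by_cases hb0 : b = 0
  · simp [hb0]
  have hab : FracInv S a b := fun x s hs => by
    rw [← ha, ← ha, ← hb, ← hb, r.mul_apply trivial trivial, hχ s hs]
    simp only [map_smul, smul_eq_mul]
    ring
  obtain ⟨p, q, hp, hq, hq0, e⟩ := hfrac a b hb0 hab
  have hfix : ∀ c, Inv S c → rT g c = c := fun c hc => ext_pts (k := k) fun x => by
    have := hg _ (hc.lT x)
    rwa [eval_lT, eval_lT, mul_one, ← eval_rT] at this
  have e' : rT g a * q = p * rT g b := ext_pts (k := k) fun x => by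
    have := congrArg (x * g).ofConv e
    rw [map_mul, map_mul] at this
    conv_lhs => rw [← hfix q hq]
    conv_rhs => rw [← hfix p hp]
    simp only [map_mul, eval_rT]
    exact this
  refine mul_right_cancel₀ hq0 ?_
  linear_combination b * e' - rT g b * e

end Groth.Agent.ObsLib

end
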