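import Groth.Agent.ObsLib.InvFG

/-!
# Invariant functions on an observable overgroup lift
-/

set_option autoImplicit false
set_option linter.style.haveILetI false
set_option linter.unusedSectionVars false
set_option backward.isDefEq.respectTransparency false
set_option backward.isDefEq.respectTransparency.types false
set_option maxHeartbeats 1000000
set_option synthInstance.maxHeartbeats 400000

noncomputable section

universe u

open CategoryTheory MonoidalCategory CartesianMonoidalCategory AlgebraicGeometry WithConv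
open scoped MonObj TensorProduct
open CoactBr (sp pt)

namespace Groth.Agent.ObsLib

open BorelLib BlowRegLib

attribute [-instance] CategoryTheory.Hom.commGroup
attribute [local instance] pTop pTopTensor

variable {k : Type u} [Field k] [IsAlgClosed k] {A : Type u} [CommRing A] [HopfAlgebra k A] [Algebra.FiniteType k A]
  [_root_.IsReduced A] {S T : Subgroup (Pt k A)}

/-- Functions on an observable `T` invariant under `S ≤ T` extend to invariant functions. -/
theorem Obs.exists_inv_lift (hT : Obs T) (hST : S ≤ T) {a : A} (ha : InvOn S T a) :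
    ∃ F, Inv S F ∧ ∀ x ∈ T, x.ofConv F = x.ofConv a := by
  classical
  obtain ⟨W, hfd, hsW, hW⟩ := exists_stable (k := k) {a}
  haveI := hfd
  let aW : W := ⟨a, hsW (Finset.mem_singleton_self a)⟩
  let N : Submodule k W :=
    { carrier := {w | ∀ x ∈ T, x.ofConv (w : A) = 0}
      zero_mem' := fun x _ => map_zero x.ofConv
      add_mem' := fun {p q} hp hq x hx => by
        rw [Submodule.coe_add, map_add, hp x hx, hq x hx, add_zero]
      smul_mem' := fun t p hp x hx => by rw [SetLike.val_smul, map_smul, hp x hx, smul_zero] }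
  let R := funRep W hW
  have hN : R.Stable T N := fun h hh w hw x hx => by
    rw [coe_funRep, eval_rT]
    exact hw _ (T.mul_mem hx hh)
  obtain ⟨U, _, _, _, r, j, hker, hj⟩ := hT.isVecStab.charInv.exists_ext_quot R N hN
  have hfix : ∀ h ∈ S, r.ρ h (j aW) = j aW := fun h hh => by
    rw [← hj h (hST hh), ← sub_eq_zero, ← map_sub, ← LinearMap.mem_ker, hker]
    intro x hx
    rw [AddSubgroupClass.coe_sub, map_sub, sub_eq_zero, coe_funRep, eval_rT]
    exact ha x hx h hh
  let e : W →ₗ[k] k := (1 : Pt k A).ofConv.toLinearMap ∘ₗ W.subtype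
  have hle : LinearMap.ker j ≤ LinearMap.ker e := fun w hw => by
    rw [hker] at hw
    exact hw 1 T.one_mem
  obtain ⟨φ, hφ⟩ := LinearMap.exists_extend (((LinearMap.ker j).liftQ e hle) ∘ₗ j.quotKerEquivRange.symm.toLinearMap)
  have hφj : ∀ w, φ (j w) = e w := fun w => by
    have h1 := LinearMap.congr_fun hφ ⟨j w, LinearMap.mem_range_self j w⟩
    rw [show φ (j w) = (φ ∘ₗ (LinearMap.range j).subtype) ⟨j w, LinearMap.mem_range_self j w⟩ from rfl, h1]
    simp [LinearMap.quotKerEquivRange_symm_apply_image]
  obtain ⟨F, hF⟩ := r.reg φ (j aW)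
  simp only at hF
  refine ⟨F, fun x h hh => ?_, fun x hx => ?_⟩
  · rw [← hF, ← hF, r.mul_apply trivial trivial, hfix h hh]
  · rw [← hF, ← hj x hx, hφj]
    show (1 : Pt k A).ofConv ((R.ρ x aW : W) : A) = _
    rw [coe_funRep, eval_rT, one_mul]

/-- The restriction map on invariants is onto. -/
theorem Obs.map_invAlg {G : Over (Spec (CommRingCat.of k))} [GrpObj G] [IsAffine G.left] {v : sp k A ≅ G}
    [IsMonHom v.hom] {B : Type u} [CommRing B] [HopfAlgebra k B] [Algebra.FiniteType k B] [_root_.IsReduced B]
    {H : Over (Spec (CommRingCat.of k))} [GrpObj H] {w : sp k B ≅ H} [IsMonHom w.hom] {i : H ⟶ G} [IsMonHom i]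
    {π : A →ₐ[k] B} (hπ : w.hom ≫ i = gpt v π) (hsur : Function.Surjective π) (hT : Obs (ptsSub v i))
    (hS : S ≤ ptsSub v i) : (invAlg S).map π = invAlg (S.comap (subHom v w hπ)) := by
  apply le_antisymm
  · rintro _ ⟨a, ha, rfl⟩ y h hh
    have e := ha (subHom v w hπ y) _ (Subgroup.mem_comap.1 hh)
    rw [← map_mul] at e
    exact e
  · intro f hf
    obtain ⟨a, rfl⟩ := hsur f
    obtain ⟨F, hF, hFa⟩ := hT.exists_inv_lift hS (a := a) fun x hx h hh => by
      obtain ⟨y, rfl⟩ := (mem_sub_iff v w hπ).1 hx
      obtain ⟨z, rfl⟩ := (mem_sub_iff v w hπ).1 (hS hh)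
      have e := hf y z hh
      rw [← pull_mul v w hπ]
      exact e
    refine ⟨F, hF, ext_pts (k := k) fun y => ?_⟩
    exact hFa _ (pull_mem v w hπ y)

end Groth.Agent.ObsLib

end
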