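import Groth.Agent.ObsLib.Modules
import Groth.Agent.ObsLib.Rad
import Groth.Agent.BorelLib.RedBridge
import Groth.Agent.BorelLib.RedUnip
import Groth.Agent.GrpHomLib.Image

/-!
# Observable subgroup schemes: criteria
-/

set_option autoImplicit false
set_option linter.style.haveILetI false
set_option linter.unusedSectionVars false
set_option backward.isDefEq.respectTransparency false
set_option backward.isDefEq.respectTransparency.types false
set_option maxHeartbeats 1000000
set_option synthInstance.maxHeartbeats 400000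

noncomputable section

universe u

open CategoryTheory MonoidalCategory CartesianMonoidalCategory AlgebraicGeometry WithConv
open scoped MonObj TensorProduct
open CoactBr (sp pt)

namespace Groth.Agent.ObsLib

open BorelLib BlowRegLib

attribute [-instance] CategoryTheory.Hom.commGroup
attribute [local instance] pTop pTopTensor algTop

variable {k : Type u} [Field k] [IsAlgClosed k] {A : Type u} [CommRing A] [HopfAlgebra k A] [Algebra.FiniteType k A]
  [_root_.IsReduced A]
  {G : Over (Spec (CommRingCat.of k))} [GrpObj G] [IsAffine G.left] (v : sp k A ≅ G) [IsMonHom v.hom]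

omit [IsAffine G.left] in
/-- An open subgroup scheme is closed. -/
theorem isClosedImmersion_of_open [Smooth G.hom] [IsAffine G.left] {G₀ : Over (Spec (CommRingCat.of k))} [GrpObj G₀]
    (j : G₀ ⟶ G) [IsMonHom j] [IsOpenImmersion j.left] : IsClosedImmersion j.left := by
  haveI : IsLocallyNoetherian (Spec (CommRingCat.of k)) := inferInstance
  haveI : IsLocallyNoetherian G.left := LocallyOfFiniteType.isLocallyNoetherian G.hom
  haveI : QuasiCompact j.left := inferInstance
  haveI : QuasiCompact G.hom := inferInstance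
  haveI : QuasiCompact G₀.hom := by rw [← Over.w j]; infer_instance
  haveI : LocallyOfFiniteType G₀.hom := by rw [← Over.w j]; infer_instance
  exact IsClosedImmersion.of_isPreimmersion _ (GrpHom.isClosed_range j)

section Sub

variable {B : Type u} [CommRing B] [HopfAlgebra k B] [Algebra.FiniteType k B] [_root_.IsReduced B]
  {H : Over (Spec (CommRingCat.of k))} [GrpObj H] (w : sp k B ≅ H) [IsMonHom w.hom]
  {i : H ⟶ G} [IsMonHom i] {π : A →ₐ[k] B} (hπ : w.hom ≫ i = gpt v π)
include hπ

lemma pull_mul (y y' : Pt k B) : pull π (y * y') = pull π y * pull π y' := by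
  refine ptk_injective v ?_
  rw [← ptk_comp v w hπ, ptk_mul, MonObj.mul_comp, ptk_mul, ← ptk_comp v w hπ, ← ptk_comp v w hπ]

/-- The inclusion of the points of a subgroup. -/
def subHom : Pt k B →* Pt k A := MonoidHom.mk' (pull π) (pull_mul v w hπ)

@[simp] lemma subHom_apply (y : Pt k B) : subHom v w hπ y = pull π y := rfl

lemma range_subHom : (subHom v w hπ).range = ptsSub v i := SetLike.ext fun _ => (mem_sub_iff v w hπ).symm

lemma comap_ptsSub {L : Over (Spec (CommRingCat.of k))} [GrpObj L] {l : L ⟶ H} [IsMonHom l]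
    (hsur : Function.Surjective π) : (ptsSub v (l ≫ i)).comap (subHom v w hπ) = ptsSub w l := by
  ext y
  rw [Subgroup.mem_comap, mem_ptsSub', mem_ptsSub', subHom_apply, ← ptk_comp v w hπ]
  constructor
  · rintro ⟨h, hh⟩
    refine ⟨h, ?_⟩
    obtain ⟨y', hy'⟩ := ptk_surjective w (h ≫ l)
    have e : ptk v (pull π y') = ptk v (pull π y) := by
      rw [← ptk_comp v w hπ, ← ptk_comp v w hπ, hy', ← hh, Category.assoc]
    rw [← hy', pull_injective_of_surjective hsur (ptk_injective v e)]
  · rintro ⟨h, hh⟩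
    exact ⟨h, by rw [← hh, Category.assoc]⟩

omit hπ in
lemma ptsSub_le {L : Over (Spec (CommRingCat.of k))} [GrpObj L] {l : L ⟶ H} [IsMonHom l] :
    ptsSub v (l ≫ i) ≤ ptsSub v i := fun x hx => by
  rw [mem_ptsSub'] at hx ⊢
  obtain ⟨h, hh⟩ := hx
  exact ⟨h ≫ l, by rw [← hh, Category.assoc]⟩

/-- Relative observability is observability in the subgroup. -/
theorem obsIn_iff {S : Subgroup (Pt k A)} (hsur : Function.Surjective π) (hS : IsClosed (S : Set (Pt k A)))
    (hle : S ≤ ptsSub v i) :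
    ObsIn S (ptsSub v i) ↔ Obs (S.comap (subHom v w hπ)) := by
  refine ⟨fun h y hy => ?_, fun h => obsIn_of_frame hsur (fun x => rfl) (range_subHom v w hπ) hle h⟩
  refine h (pull π y) (pull_mem v w hπ y) fun a ha => ?_
  have h1 := hy (π a) fun z s hs => by
    have := ha _ (pull_mem v w hπ z) _ hs
    rwa [subHom_apply, ← pull_mul v w hπ] at this
  rw [← map_one (subHom v w hπ)]
  exact h1

end Sub

/-- The points of a connected open subgroup are the neutral component. -/
theorem ptsSub_open [Smooth G.hom] {G₀ : Over (Spec (CommRingCat.of k))} [GrpObj G₀] [ConnectedSpace G₀.left]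
    (j : G₀ ⟶ G) [IsMonHom j] [IsOpenImmersion j.left] : ptsSub v j = neut ⊤ := by
  haveI : IsClosedImmersion j.left := isClosedImmersion_of_open j
  refine le_antisymm (le_neut (isPreconnected_ptsSub v) le_top) ?_
  have ho : IsOpen (ptsSub v j : Set (Pt k A)) := by
    rw [show (ptsSub v j : Set (Pt k A)) = toP ⁻¹' (v.hom.left ⁻¹' Set.range j.left) from
      Set.ext fun x => mem_ptsSub_iff v]
    exact ((j.left.isOpenEmbedding.isOpen_range).preimage v.hom.left.continuous).preimage continuous_induced_dom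
  intro x hx
  exact (isPreconnected_neut ⊤).subset_isClopen ⟨isClosed_ptsSub v, ho⟩ ⟨1, Subgroup.one_mem _, Subgroup.one_mem _⟩ hx

/-- The points of an open subgroup have finite index. -/
theorem finIdx_open [Smooth G.hom] {H : Over (Spec (CommRingCat.of k))} [GrpObj H] (i : H ⟶ G) [IsMonHom i]
    [IsClosedImmersion i.left] [IsOpenImmersion i.left] : FinIdx (ptsSub v i) ⊤ := by
  have ho : IsOpen (ptsSub v i : Set (Pt k A)) := by
    rw [show (ptsSub v i : Set (Pt k A)) = toP ⁻¹' (v.hom.left ⁻¹' Set.range i.left) from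
      Set.ext fun x => mem_ptsSub_iff v]
    exact ((i.left.isOpenEmbedding.isOpen_range).preimage v.hom.left.continuous).preimage continuous_induced_dom
  have hle : neut ⊤ ≤ ptsSub v i := fun x hx =>
    (isPreconnected_neut ⊤).subset_isClopen ⟨isClosed_ptsSub v, ho⟩ ⟨1, Subgroup.one_mem _, Subgroup.one_mem _⟩ hx
  obtain ⟨F, hF, hFs⟩ := finIdx_neut (isClosed_top_sub (k := k) (A := A))
  exact ⟨F, hF, fun g hg => by
    obtain ⟨r, hr, hrg⟩ := hFs g hg
    exact ⟨r, hr, hle hrg⟩⟩

section Criteria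

variable {B : Type u} [CommRing B] [HopfAlgebra k B] [Algebra.FiniteType k B] [_root_.IsReduced B]
  {H : Over (Spec (CommRingCat.of k))} [GrpObj H] [IsAffine H.left] (w : sp k B ≅ H) [IsMonHom w.hom]
  {i : H ⟶ G} [IsMonHom i] {π : A →ₐ[k] B} (hπ : w.hom ≫ i = gpt v π)
include hπ

/-- Observability is being the stabiliser of a vector. -/
theorem isObservableIn_iff_stab : AGF.IsObservableIn k i ↔
    ∃ (V : Type u) (_ : AddCommGroup V) (_ : Module k V) (_ : Module.Finite k V) (ρ : VecGrp.GMod G V) (u : V),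
      AGF.IsStabOnPts k i ρ u := by
  rw [isObservableIn_iff v w hπ, obs_iff_isVecStab]
  constructor
  · rintro ⟨V, _, _, hfd, r, u, hu⟩
    obtain ⟨m, hm⟩ := exists_gmod v r
    refine ⟨V, inferInstance, inferInstance, hfd, m, u, fun g => ?_⟩
    obtain ⟨x, rfl⟩ := ptk_surjective v g
    rw [rho_fix_iff, hm, ← hu, mem_ptsSub']
  · rintro ⟨V, _, _, hfd, m, u, hu⟩
    exact ⟨V, inferInstance, inferInstance, hfd, toRep v m, u, fun g => by rw [mem_ptsSub', ← hu, rho_fix_iff]⟩

/-- Observability is separation of cosets by finitely many invariants. -/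
theorem isObservableIn_iff_sep : AGF.IsObservableIn k i ↔
    ∃ s : Finset Γ(G.left, ⊤), (∀ f ∈ s, AGF.IsRTransInv i f) ∧
      ∀ g g' : VecGrp.pt k k ⟶ G, (∀ f ∈ s, g.left.appTop f = g'.left.appTop f) →
        ∃ h : VecGrp.pt k k ⟶ H, g' = g * (h ≫ i) := by
  classical
  rw [isObservableIn_iff v w hπ]
  have hval : ∀ (x y : Pt k A) (f : Γ(G.left, ⊤)), (ptk v x).left.appTop f = (ptk v y).left.appTop f ↔
      x.ofConv (ev v f) = y.ofConv (ev v f) := fun x y f => by
    rw [← evalPt_ptk, ← evalPt_ptk]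
    exact ((ConcreteCategory.bijective_of_isIso (Scheme.ΓSpecIso (CommRingCat.of k)).hom).1.eq_iff).symm
  constructor
  · intro h
    obtain ⟨s, hs, hsep⟩ := h.exists_sep
    choose f hf using (ev_bijective v).2
    refine ⟨s.image f, fun g hg => ?_, fun g g' hgg => ?_⟩
    · obtain ⟨a, ha, rfl⟩ := Finset.mem_image.1 hg
      rw [isRTransInv_iff_inv v w hπ, hf]
      exact hs a ha
    · obtain ⟨x, rfl⟩ := ptk_surjective v g
      obtain ⟨y, rfl⟩ := ptk_surjective v g'
      have := hsep x y fun a ha => by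
        have := (hval x y (f a)).1 (hgg _ (Finset.mem_image_of_mem _ ha))
        rwa [hf] at this
      obtain ⟨h, hh⟩ := (mem_ptsSub' v).1 this
      exact ⟨h, by rw [hh, ← ptk_mul, mul_inv_cancel_left]⟩
  · rintro ⟨s, hs, hsep⟩
    refine obs_of_sep (s := s.image (ev v)) (fun a ha => ?_) fun x y hxy => ?_
    · obtain ⟨f, hf, rfl⟩ := Finset.mem_image.1 ha
      exact (isRTransInv_iff_inv v w hπ f).1 (hs f hf)
    · obtain ⟨h, hh⟩ := hsep (ptk v x) (ptk v y) fun f hf => (hval x y f).2 (hxy _ (Finset.mem_image_of_mem _ hf))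
      rw [mem_ptsSub']
      exact ⟨h, by rw [ptk_mul, hh, ← _root_.mul_assoc, ← ptk_mul, inv_mul_cancel, ptk_one, _root_.one_mul]⟩

/-- Observability is extension of all modules. -/
theorem isObservableIn_iff_ext [Smooth G.hom] [IsClosedImmersion i.left] (hsur : Function.Surjective π) :
    AGF.IsObservableIn k i ↔ ∀ (V : Type u) [AddCommGroup V] [Module k V] [Module.Finite k V]
      (σ : VecGrp.GMod H V), σ.ExtendsAlong i := by
  rw [isObservableIn_iff v w hπ, obs_iff_charInv (isClosed_ptsSub v)]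
  constructor
  · intro h V _ _ _ σ
    obtain ⟨r, hr⟩ := exists_subRep v w hπ hsur σ
    obtain ⟨U, _, _, hU, R, emb, hemb, heq⟩ := h.exists_ext r
    obtain ⟨m, hm⟩ := exists_gmod v R
    refine ⟨U, inferInstance, inferInstance, hU, m, emb, hemb, (extends_iff v w hπ σ m emb).2 fun y u => ?_⟩
    rw [← hr, heq _ (pull_mem v w hπ y), hm]
  · intro h
    refine charInv_of_ext fun V _ _ _ r => ?_
    let r' : RegRep (⊤ : Subgroup (Pt k B)) V :=
      { ρ := fun y => r.ρ (subHom v w hπ y)
        map_one := by rw [map_one, r.map_one]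
        map_mul := fun g _ g' _ => by
          rw [map_mul]
          exact r.map_mul _ (pull_mem v w hπ g) _ (pull_mem v w hπ g')
        reg := fun φ u => (r.reg φ u).comp (IsMor.pull π) }
    obtain ⟨σ, hσ⟩ := exists_gmod w r'
    obtain ⟨U, _, _, _, m, emb, hemb, heq⟩ := h V σ
    refine ⟨U, inferInstance, inferInstance, toRep v m, emb, hemb, fun s hs u => ?_⟩
    obtain ⟨y, rfl⟩ := (mem_sub_iff v w hπ).1 hs
    rw [← (extends_iff v w hπ σ m emb).1 heq y u, hσ]
    rfl

/-- Observability is closure of the weights under inverse. -/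
theorem isObservableIn_iff_chars [Smooth G.hom] [IsClosedImmersion i.left] :
    AGF.IsObservableIn k i ↔ ∀ (χ : H ⟶ Red.Gm (Spec (CommRingCat.of k))), IsMonHom χ →
        (∃ (V : Type u) (_ : AddCommGroup V) (_ : Module k V) (_ : Module.Finite k V) (ρ : VecGrp.GMod G V) (u : V), u ≠ 0 ∧
          ∀ (C : Type u) [CommRing C] [Algebra k C] (h : VecGrp.pt k C ⟶ H),
            ρ.ρ C (h ≫ i) ((1 : C) ⊗ₜ[k] u) = VecGrp.chiVal χ h • ((1 : C) ⊗ₜ[k] u)) →
        (∃ (V : Type u) (_ : AddCommGroup V) (_ : Module k V) (_ : Module.Finite k V) (ρ : VecGrp.GMod G V) (u : V), u ≠ 0 ∧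
          ∀ (C : Type u) [CommRing C] [Algebra k C] (h : VecGrp.pt k C ⟶ H),
            ρ.ρ C (h ≫ i) ((1 : C) ⊗ₜ[k] u) = VecGrp.chiVal χ⁻¹ h • ((1 : C) ⊗ₜ[k] u)) := by
  rw [isObservableIn_iff v w hπ, obs_iff_charInv (isClosed_ptsSub v)]
  constructor
  · rintro h χ hχ ⟨V, _, _, _, m, u, hu, hw⟩
    haveI := hχ
    have hw' := (weight_iff v w hπ m u χ).1 hw
    obtain ⟨χf, -, hχf⟩ := (toRep v m).exists_reg_weight (H := ptsSub v i) hu fun g hg => by
      obtain ⟨y, rfl⟩ := (mem_sub_iff v w hπ).1 hg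
      exact ⟨_, hw' y⟩
    obtain ⟨a, ha, ha1⟩ := semiInv_of_weight (toRep v m) hu hχf
    obtain ⟨b, hb, hb1⟩ := h a χf ha ha1
    obtain ⟨U, _, _, hU, r, u', hu', hr⟩ := weight_of_semiInv hb hb1
    obtain ⟨m', hm'⟩ := exists_gmod v r
    refine ⟨U, inferInstance, inferInstance, hU, m', u', hu', (weight_iff v w hπ m' u' χ⁻¹).2 fun y => ?_⟩
    rw [hm', hr _ (pull_mem v w hπ y), (chi_values w χ).1]
    congr 2
    exact smul_left_injective k hu ((hχf _ (pull_mem v w hπ y)).symm.trans (hw' y))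
  · intro h a χf ha ha1
    obtain ⟨c, hc, hcv⟩ := exists_char v w hπ ha ha1
    haveI := hc
    obtain ⟨V, _, _, hV, r, u, hu, hr⟩ := weight_of_semiInv ha ha1
    obtain ⟨m, hm⟩ := exists_gmod v r
    obtain ⟨U, _, _, _, m', u', hu', hw'⟩ := h c hc ⟨V, inferInstance, inferInstance, hV, m, u, hu,
      (weight_iff v w hπ m u c).2 fun y => by rw [hm, hr _ (pull_mem v w hπ y), hcv]⟩
    refine semiInv_of_weight (toRep v m') hu' fun g hg => ?_
    obtain ⟨y, rfl⟩ := (mem_sub_iff v w hπ).1 hg
    rw [(weight_iff v w hπ m' u' c⁻¹).1 hw' y, (chi_values w c).1, hcv]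

/-- Observability through invariant fractions. -/
theorem isObservableIn_iff_frac [IsDomain A] [Smooth G.hom] [IsClosedImmersion i.left] :
    AGF.IsObservableIn k i ↔ ∀ a b : Γ(G.left, ⊤), b ≠ 0 →
      ((G ◁ i) ≫ μ[G]).left.appTop a * (fst G H).left.appTop b =
        (fst G H).left.appTop a * ((G ◁ i) ≫ μ[G]).left.appTop b →
      ∃ a' b' : Γ(G.left, ⊤), AGF.IsRTransInv i a' ∧ AGF.IsRTransInv i b' ∧ b' ≠ 0 ∧ a * b' = a' * b := by
  rw [isObservableIn_iff v w hπ]
  have hinj := (ev_bijective v).1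
  have hfrac : ∀ a b : Γ(G.left, ⊤), (((G ◁ i) ≫ μ[G]).left.appTop a * (fst G H).left.appTop b =
      (fst G H).left.appTop a * ((G ◁ i) ≫ μ[G]).left.appTop b) ↔ FracInv (ptsSub v i) (ev v a) (ev v b) := by
    intro a b
    constructor
    · intro h x s hs
      obtain ⟨y, rfl⟩ := (mem_sub_iff v w hπ).1 hs
      have := congrArg (evalPt (lift (ptk v x) (ptk w y))) h
      rwa [map_mul, map_mul, evalPt_lift_mul v w hπ, evalPt_lift_mul v w hπ, evalPt_lift_fst v w hπ,
        evalPt_lift_fst v w hπ] at this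
    · intro h
      refine eq_of_pairs v w fun x y => ?_
      rw [map_mul, map_mul, evalPt_lift_mul v w hπ, evalPt_lift_mul v w hπ, evalPt_lift_fst v w hπ,
        evalPt_lift_fst v w hπ]
      exact h x _ (pull_mem v w hπ y)
  constructor
  · intro h a b hb hab
    obtain ⟨a', b', ha', hb', hb0, e⟩ := h.exists_frac (a := ev v a) (b := ev v b)
      (fun h0 => hb (hinj (by rw [h0, map_zero]))) ((hfrac a b).1 hab)
    obtain ⟨fa, rfl⟩ := (ev_bijective v).2 a'
    obtain ⟨fb, rfl⟩ := (ev_bijective v).2 b'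
    exact ⟨fa, fb, (isRTransInv_iff_inv v w hπ fa).2 ha', (isRTransInv_iff_inv v w hπ fb).2 hb',
      fun h0 => hb0 (by rw [h0, map_zero]), hinj (by rw [map_mul, map_mul, e])⟩
  · intro h
    refine obs_of_frac (isClosed_ptsSub v) fun a b hb hab => ?_
    obtain ⟨fa, rfl⟩ := (ev_bijective v).2 a
    obtain ⟨fb, rfl⟩ := (ev_bijective v).2 b
    obtain ⟨a', b', ha', hb', hb0, e⟩ := h fa fb (fun h0 => hb (by rw [h0, map_zero])) ((hfrac fa fb).2 hab)
    exact ⟨ev v a', ev v b', (isRTransInv_iff_inv v w hπ a').1 ha', (isRTransInv_iff_inv v w hπ b').1 hb',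
      fun h0 => hb0 (hinj (by rw [h0, map_zero])), by rw [← map_mul, ← map_mul, e]⟩

end Criteria

section Groups

variable [Smooth G.hom] {H : Over (Spec (CommRingCat.of k))} [GrpObj H] [Smooth H.hom] (i : H ⟶ G) [IsMonHom i]
  [IsClosedImmersion i.left]

/-- Observability on points. -/
theorem isObservableIn_iff_obs : AGF.IsObservableIn k i ↔ Obs (ptsSub v i) := by
  obtain ⟨B, _, _, w, hw, π, hHa, hB, hB', hπ, -⟩ := exists_sub_data v i
  haveI := hw; haveI := hHa; haveI := hB; haveI := hB'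
  exact isObservableIn_iff v w hπ

end Groups

end Groth.Agent.ObsLib

end
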