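import Groth.Agent.ObsLib.InvFG
import Groth.Agent.S9651

/-!
# The orbit in the spectrum of the invariants
-/

set_option autoImplicit false
set_option linter.style.haveILetI false
set_option linter.unusedSectionVars false
set_option backward.isDefEq.respectTransparency false
set_option backward.isDefEq.respectTransparency.types false
set_option maxHeartbeats 1000000
set_option synthInstance.maxHeartbeats 400000

noncomputable section

universe u

open CategoryTheory AlgebraicGeometry WithConv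
open scoped TensorProduct

namespace Groth.Agent.ObsLib

open BorelLib

attribute [local instance] pTop pTopTensor

variable {k : Type u} [Field k] [IsAlgClosed k] {A : Type u} [CommRing A] [HopfAlgebra k A] [Algebra.FiniteType k A]
  [_root_.IsReduced A] {S : Subgroup (Pt k A)}

/-- Left translation of the invariants. -/
def lInv (S : Subgroup (Pt k A)) (g : Pt k A) : ↥(invAlg S) →ₐ[k] ↥(invAlg S) :=
  ((lTa g).comp (invAlg S).val).codRestrict _ fun a x h hh => by
    show (x * h).ofConv (lTa g (a : A)) = x.ofConv (lTa g (a : A))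
    rw [eval_lTa, eval_lTa, ← mul_assoc]
    exact a.2 _ h hh

/-- **The orbit is open.** -/
theorem isOpen_range_comap_invAlg (hfg : (invAlg S).FG) :
    IsOpen (Set.range (PrimeSpectrum.comap (invAlg S).val.toRingHom)) := by
  classical
  set T := invAlg S with hT
  haveI : Algebra.FiniteType k T := ⟨(Subalgebra.fg_top _).2 hfg⟩
  haveI : IsNoetherianRing T := Algebra.FiniteType.isNoetherianRing k T
  haveI : Nontrivial A := (1 : Pt k A).ofConv.toRingHom.domain_nontrivial
  haveI : Nontrivial T := T.val.toRingHom.domain_nontrivial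
  haveI : Algebra.FiniteType T A := Algebra.FiniteType.of_restrictScalars_finiteType k T A
  set φ := PrimeSpectrum.comap T.val.toRingHom with hφ
  obtain ⟨m₀, hm₀⟩ := (Ideal.nonempty_minimalPrimes (I := (⊥ : Ideal T)) bot_ne_top)
  obtain ⟨p', hp', hp'eq⟩ := Ideal.exists_comap_eq_of_mem_minimalPrimes_of_injective
    (f := T.val.toRingHom) Subtype.val_injective m₀ hm₀
  let ξ : PrimeSpectrum T := ⟨m₀, hm₀.1.1⟩
  obtain ⟨U, hU, hUd, hUsub⟩ := Groth.Agent.S9651.result (R := T) (S := A) Set.univ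
    Topology.IsConstructible.univ ξ ⟨⟨p', hp'⟩, trivial, PrimeSpectrum.ext hp'eq⟩
  have hξU : ξ ∈ U := by
    have h1 : (U ∩ closure {ξ}).Nonempty := by
      by_contra he
      rw [Set.not_nonempty_iff_eq_empty] at he
      rw [he, closure_empty] at hUd
      exact hUd (subset_closure rfl)
    obtain ⟨y, hyU, hy⟩ := h1
    exact (specializes_iff_mem_closure.2 hy).mem_open hU hyU
  let others : Set (Ideal T) := minimalPrimes T \ {m₀}
  have hoth : others.Finite := (minimalPrimes.finite_of_isNoetherianRing T).subset Set.sdiff_subset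
  let V : Set (PrimeSpectrum T) := U ∩ ⋂ m ∈ others, (PrimeSpectrum.zeroLocus (m : Set T))ᶜ
  have hVo : IsOpen V := hU.inter (hoth.isOpen_biInter fun m _ => (PrimeSpectrum.isClosed_zeroLocus _).isOpen_compl)
  have hξV : ξ ∈ V := by
    refine ⟨hξU, Set.mem_iInter₂.2 fun m hm h => hm.2 ?_⟩
    have hle : m ≤ m₀ := h
    exact le_antisymm hle (hm₀.2 hm.1.1 hle)
  have hVsub : V ⊆ Set.range φ := fun y hy => by
    obtain ⟨m, hm, hmy⟩ := Ideal.exists_minimalPrimes_le (I := (⊥ : Ideal T)) (J := y.asIdeal) bot_le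
    have hm0 : m = m₀ := by
      by_contra hne
      exact Set.mem_iInter₂.1 hy.2 m ⟨hm, hne⟩ hmy
    have hycl : y ∈ closure ({ξ} : Set (PrimeSpectrum T)) := by
      rw [← specializes_iff_mem_closure, ← PrimeSpectrum.le_iff_specializes]
      show m₀ ≤ y.asIdeal
      rw [← hm0]; exact hmy
    obtain ⟨z, -, hz⟩ := hUsub ⟨hy.1, hycl⟩
    exact ⟨z, hz⟩
  have hcont : Continuous φ := (PrimeSpectrum.continuous_comap _)
  obtain ⟨g₀, hg₀⟩ := exists_pt_mem (k := k) (R := A) (Z := φ ⁻¹' V) ⟨⟨p', hp'⟩, by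
    show φ _ ∈ V
    rw [show φ ⟨p', hp'⟩ = ξ from PrimeSpectrum.ext hp'eq]
    exact hξV⟩ (hVo.preimage hcont).isLocallyClosed
  -- translations
  let σ := fun g : Pt k A => PrimeSpectrum.comap (lInv S g).toRingHom
  have hσφ : ∀ g p, σ g (φ p) = φ (PrimeSpectrum.comap (lTa g).toRingHom p) := fun g p => rfl
  have hσσ : ∀ g y, σ g⁻¹ (σ g y) = y := fun g y => by
    have e : (lInv S g).comp (lInv S g⁻¹) = AlgHom.id k T := AlgHom.ext fun a => Subtype.ext (ext_pts (k := k) fun x => by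
      show x.ofConv (lTa g (lTa g⁻¹ (a : A))) = x.ofConv (a : A)
      rw [eval_lTa, eval_lTa, inv_mul_cancel_left])
    show PrimeSpectrum.comap ((lInv S g).comp (lInv S g⁻¹)).toRingHom y = y
    rw [e]
    rfl
  let W : Set (PrimeSpectrum T) := ⋃ g : Pt k A, σ g ⁻¹' V
  have hW : IsOpen W := isOpen_iUnion fun g => hVo.preimage (PrimeSpectrum.continuous_comap _)
  suffices h : Set.range φ = W by rw [h]; exact hW
  refine Set.Subset.antisymm ?_ ?_
  · rintro _ ⟨p, rfl⟩
    by_contra hp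
    obtain ⟨x, hx⟩ := exists_pt_mem (k := k) (R := A) (Z := (φ ⁻¹' W)ᶜ) ⟨p, hp⟩
      (hW.preimage hcont).isClosed_compl.isLocallyClosed
    apply hx
    refine Set.mem_iUnion.2 ⟨g₀ * x⁻¹, ?_⟩
    show σ (g₀ * x⁻¹) (φ (toP x)) ∈ V
    rw [hσφ]
    have e : PrimeSpectrum.comap (lTa (g₀ * x⁻¹)).toRingHom (toP x) = toP g₀ := PrimeSpectrum.ext (by
      ext a
      rw [PrimeSpectrum.comap_asIdeal, Ideal.mem_comap, toP_asIdeal, toP_asIdeal, RingHom.mem_ker, RingHom.mem_ker]
      show x.ofConv (lTa (g₀ * x⁻¹) a) = 0 ↔ g₀.ofConv a = 0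
      rw [eval_lTa, inv_mul_cancel_right])
    rw [e]
    exact hg₀
  · intro y hy
    obtain ⟨g, hg⟩ := Set.mem_iUnion.1 hy
    obtain ⟨p, hp⟩ := hVsub hg
    exact ⟨PrimeSpectrum.comap (lTa g⁻¹).toRingHom p, by rw [← hσφ, hp, hσσ]⟩

/-- **The boundary has codimension at least two.** -/
theorem two_le_height_of_not_mem (hfg : (invAlg S).FG) (P : PrimeSpectrum ↥(invAlg S))
    (hP : P ∉ Set.range (PrimeSpectrum.comap (invAlg S).val.toRingHom)) : (2 : ℕ∞) ≤ P.asIdeal.height := by
  classical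
  have hopen := isOpen_range_comap_invAlg hfg
  haveI : Algebra.FiniteType k ↥(invAlg S) := ⟨(Subalgebra.fg_top _).2 hfg⟩
  haveI : IsNoetherianRing ↥(invAlg S) := Algebra.FiniteType.isNoetherianRing k ↥(invAlg S)
  haveI : IsNoetherianRing A := Algebra.FiniteType.isNoetherianRing k A
  let ι : ↥(invAlg S) →+* A := (invAlg S).val.toRingHom
  have hnot : ∀ q : Ideal A, q.IsPrime → ¬ P.asIdeal ≤ q.comap ι := fun q hq hle =>
    hP (((PrimeSpectrum.le_iff_specializes P (PrimeSpectrum.comap ι ⟨q, hq⟩)).1 hle).mem_open hopen ⟨_, rfl⟩)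
  have hmax : P.asIdeal.map ι = ⊤ := by
    by_contra hne
    obtain ⟨M, hM, hle⟩ := Ideal.exists_le_maximal _ hne
    exact hnot M hM.isPrime (Ideal.map_le_iff_le_comap.1 hle)
  by_contra hlt
  have h1 : P.asIdeal.height ≤ 1 := by
    have := not_le.1 hlt
    exact Order.le_of_lt_succ (by exact_mod_cast this)
  let Ms := (minimalPrimes.finite_of_isNoetherianRing A).toFinset
  have hMs : ∀ q, q ∈ Ms ↔ q ∈ minimalPrimes A := fun q => Set.Finite.mem_toFinset _
  obtain ⟨b, hbP, hb⟩ : ∃ b ∈ P.asIdeal, ∀ q ∈ minimalPrimes A, b ∉ q.comap ι := by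
    by_contra! hcon
    have hsub : (P.asIdeal : Set ↥(invAlg S)) ⊆ ⋃ q ∈ (↑Ms : Set (Ideal A)), ((q.comap ι : Ideal ↥(invAlg S)) : Set ↥(invAlg S)) := fun b hb => by
      obtain ⟨q, hq, hbq⟩ := hcon b hb
      exact Set.mem_iUnion₂.2 ⟨q, (hMs q).2 hq, hbq⟩
    obtain ⟨q, hq, hle⟩ := (Ideal.subset_union_prime (s := Ms) (f := fun q => q.comap ι) ⊥ ⊥
      fun q hq _ _ => Ideal.IsPrime.comap (hK := ((hMs q).1 hq).1.1) ι).1 hsub
    exact hnot q ((hMs q).1 hq).1.1 hle
  have hmin : P.asIdeal ∈ (Ideal.span {b}).minimalPrimes := by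
    obtain ⟨Q, hQ, hQP⟩ := Ideal.exists_minimalPrimes_le (I := Ideal.span {b}) (J := P.asIdeal)
      ((Ideal.span_singleton_le_iff_mem _).2 hbP)
    rcases hQP.eq_or_lt with rfl | hlt'
    · exact hQ
    exfalso
    haveI := hQ.1.1
    have h2 : Q.height = 0 := Order.lt_one_iff.1 ((Ideal.height_strict_mono_of_isPrime_of_isPrime hlt').trans_le h1)
    obtain ⟨q, hq, hqQ⟩ := Ideal.exists_comap_eq_of_mem_minimalPrimes_of_injective (f := ι) Subtype.val_injective Q
      (Ideal.height_eq_zero_iff.1 h2)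
    obtain ⟨m, hm, hmq⟩ := Ideal.exists_minimalPrimes_le (I := (⊥ : Ideal A)) (J := q) bot_le
    haveI := hm.1.1
    have hmQ : m.comap ι = Q := le_antisymm (hqQ ▸ Ideal.comap_mono hmq)
      ((Ideal.height_eq_zero_iff.1 h2).2 ⟨inferInstance, bot_le⟩ (hqQ ▸ Ideal.comap_mono hmq))
    exact hb m hm (hmQ.symm ▸ hQ.1.2 (Ideal.mem_span_singleton_self b))
  haveI : Module.Finite ↥(invAlg S) (↥(invAlg S) ⧸ Ideal.span {b}) := inferInstance
  have hass := Module.associatedPrimes.minimalPrimes_annihilator_subset_associatedPrimes ↥(invAlg S) (↥(invAlg S) ⧸ Ideal.span {b})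
    (a := P.asIdeal) (by rwa [Ideal.annihilator_quotient])
  obtain ⟨-, z, hz⟩ := isAssociatedPrime_iff.1 hass
  obtain ⟨a, rfl⟩ := Ideal.Quotient.mk_surjective z
  have hPa : ∀ p ∈ P.asIdeal, b ∣ p * a := fun p hp => by
    rw [hz, Submodule.mem_colon_singleton, Submodule.mem_bot] at hp
    have e : Ideal.Quotient.mk (Ideal.span {b}) (p * a) = 0 := hp
    rwa [Ideal.Quotient.eq_zero_iff_mem, Ideal.mem_span_singleton] at e
  have hnd : ∀ y : A, (b : A) * y = 0 → y = 0 := fun y hy => by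
    have : y ∈ nilradical A := by
      rw [nilradical, ← Ideal.sInf_minimalPrimes, Submodule.mem_sInf]
      intro q hq
      exact (hq.1.1.mem_or_mem (show (b : A) * y ∈ q from hy ▸ q.zero_mem)).resolve_left (hb q hq)
    exact (mem_nilradical.1 this).eq_zero
  have hdiv : (b : A) ∣ (a : A) := by
    have hle : P.asIdeal.map ι ≤ (Ideal.span {(b : A)}).colon {(a : A)} := Ideal.map_le_iff_le_comap.2 fun p hp => by
      obtain ⟨c, hc⟩ := hPa p hp
      rw [Ideal.mem_comap, Submodule.mem_colon_singleton, Ideal.mem_span_singleton]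
      exact ⟨(c : A), congrArg (fun t : ↥(invAlg S) => (t : A)) hc⟩
    have h3 := hle (hmax ▸ Submodule.mem_top : (1 : A) ∈ P.asIdeal.map ι)
    rw [Submodule.mem_colon_singleton, Ideal.mem_span_singleton, one_smul] at h3
    exact h3
  obtain ⟨g, hg⟩ := hdiv
  have hgT : g ∈ invAlg S := fun x h hh => by
    refine sub_eq_zero.1 ?_
    have e : ∀ y : Pt k A, y.ofConv (b : A) * ((y * h).ofConv g - y.ofConv g) = 0 := fun y => by
      have ha := (a.2 : Inv S (a : A)) y h hh
      rw [hg, map_mul, map_mul, (b.2 : Inv S (b : A)) y h hh] at ha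
      rw [mul_sub, ha, sub_self]
    have h0 : rT h g - g = 0 := hnd _ (ext_pts (k := k) fun y => by
      rw [map_mul, map_sub, eval_rT, e y, map_zero])
    have := congrArg x.ofConv h0
    rwa [map_sub, eval_rT, map_zero] at this
  have hab : a ∈ Ideal.span {b} := Ideal.mem_span_singleton.2 ⟨⟨g, hgT⟩, Subtype.ext hg⟩
  apply P.2.ne_top
  rw [hz, Ideal.eq_top_iff_one, Submodule.mem_colon_singleton, Submodule.mem_bot, one_smul,
    Ideal.Quotient.eq_zero_iff_mem]
  exact hab

end Groth.Agent.ObsLib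

end
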