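import Groth.Agent.ObsLib.UFixed
import Groth.Agent.ObsLib.Stable
import Groth.Agent.BorelLib.Facts
import Groth.Agent.BorelLib.RedBridge

/-!
# Generation of a Borel subgroup by a torus and the unipotent radical: A Borel subgroup is generated by a maximal torus and the unipotent radical
-/

set_option autoImplicit false
set_option linter.style.haveILetI false
set_option linter.unusedSectionVars false
set_option backward.isDefEq.respectTransparency false
set_option backward.isDefEq.respectTransparency.types false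
set_option maxHeartbeats 2000000
set_option synthInstance.maxHeartbeats 400000

noncomputable section

universe u

open CategoryTheory MonoidalCategory CartesianMonoidalCategory AlgebraicGeometry WithConv
open scoped MonObj TensorProduct
open CoactBr (sp pt)

namespace Groth.Agent.ObsLib

open BorelLib BlowRegLib

attribute [-instance] CategoryTheory.Hom.commGroup
attribute [local instance] pTop pTopTensor

variable {k : Type u} [Field k] [IsAlgClosed k] {A : Type u} [CommRing A] [HopfAlgebra k A] [Algebra.FiniteType k A]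
  [_root_.IsReduced A] {G : Over (Spec (CommRingCat.of k))} [GrpObj G] [IsAffine G.left] [Smooth G.hom]
  (v : sp k A ≅ G) [IsMonHom v.hom]

/-- A torus of a Borel subgroup which generates it together with the unipotent radical. -/
theorem exists_torus_gen {Bo : Over (Spec (CommRingCat.of k))} [GrpObj Bo] {iB : Bo ⟶ G} [IsMonHom iB]
    (hB : Red.IsBorelOver k iB) {U : Over (Spec (CommRingCat.of k))} [GrpObj U] {u : U ⟶ Bo}
    (hU : Par.IsUnipotentRadical u) [IsMonHom (u ≫ iB)] :
    ∃ S : Subgroup (Pt k A), S ≤ ptsSub v iB ∧ IsTor S ∧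
      (∀ s ∈ S, ∀ x ∈ ptsSub v (u ≫ iB), s * x * s⁻¹ ∈ ptsSub v (u ≫ iB)) ∧
      ∀ M : Subgroup (Pt k A), IsClosed (M : Set (Pt k A)) → S ≤ M → ptsSub v (u ≫ iB) ≤ M → ptsSub v iB ≤ M := by
  classical
  obtain ⟨-, hBc, hBsm, hBconn, hBsol, -⟩ := id hB
  haveI := hBc; haveI := hBsm; haveI := hBconn
  haveI : IsAffine Bo.left := isAffine_of_isAffineHom iB.left
  haveI : QuasiCompact G.hom := inferInstance
  set K := ptsSub v iB with hKdef
  have hKc : IsClosed (K : Set (Pt k A)) := isClosed_ptsSub v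
  have hKp : _root_.IsPreconnected (K : Set (Pt k A)) := isPreconnected_ptsSub v
  have hKs : IsSol K := isSol_ptsSub v hBsol
  obtain ⟨D, hD⟩ := exists_flag_uni hKc hKp hKs
  obtain ⟨S, hSK, hS, -, hdec, -⟩ := D.exists_torus_decomp hKc hKp
  -- the connected unipotent part lies in the radical
  obtain ⟨N, _, n, hn, hnc, hnsm, hnpts, hnconn, -⟩ := exists_scheme_sub v (isClosed_neut (D.isClosed_U hKc 1))
  haveI := hn; haveI := hnc; haveI := hnsm
  haveI := hnconn (isPreconnected_neut _)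
  haveI : IsAffine N.left := isAffine_of_isAffineHom n.left
  haveI : AlgebraicGeometry.IsReduced N.left := AlgSpLib.isReduced_of_smooth N.hom
  have hnK : ptsSub v n ≤ K := hnpts ▸ (neut_le _).trans fun x hx => ((hD x).1 hx).1
  obtain ⟨f, hf⟩ := exists_factor_of_le v (i := n) (i' := iB) hnK
  haveI : Mono iB := DiagRep.mono_of_isClosedImmersion iB inferInstance
  haveI : IsMonHom f :=
    { one_hom := (cancel_mono iB).1 (by rw [Category.assoc, hf, IsMonHom.one_hom, IsMonHom.one_hom])
      mul_hom := (cancel_mono iB).1 (by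
        rw [Category.assoc, hf, IsMonHom.mul_hom, Category.assoc, IsMonHom.mul_hom (f := iB), ← Category.assoc,
          tensorHom_comp_tensorHom, hf]) }
  haveI : IsClosedImmersion (f.left ≫ iB.left) := by rw [← Over.comp_left, hf]; infer_instance
  haveI : IsClosedImmersion f.left := IsClosedImmersion.of_comp f.left iB.left
  obtain ⟨C, _, _, w, hw, π, -, hC, hC', hπ, hsur⟩ := exists_sub_data v iB
  haveI := hw; haveI := hC; haveI := hC'
  have hNle : ptsSub v n ≤ ptsSub v (u ≫ iB) := by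
    have hnorm : ∀ g, conjSub g (ptsSub w f) ≤ ptsSub w f := fun g => by
      rintro _ ⟨x, hx, rfl⟩
      rw [← comap_ptsSub v w hπ hsur (l := f)] at hx ⊢
      simp only [Subgroup.mem_comap] at hx ⊢
      have hpt : ptsSub v (f ≫ iB) = ptsSub v n := by simp only [hf]
      have hx' : subHom v w hπ x ∈ neut (D.U 1) := by rw [← hnpts, ← hpt]; exact hx
      have hgK : subHom v w hπ g ∈ K := pull_mem v w hπ g
      show subHom v w hπ (g * x * g⁻¹) ∈ ptsSub v (f ≫ iB)
      rw [hpt, hnpts]; simp only [map_mul, map_inv]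
      have hsubset : conjSub (subHom v w hπ g) (neut (D.U 1)) ≤ neut (D.U 1) :=
        le_neut (isPreconnected_conjSub (isPreconnected_neut _)) ((conjSub_mono (neut_le _)).trans (by
          rintro _ ⟨y, hy, rfl⟩
          exact D.conj_mem_U hgK hy))
      exact hsubset ⟨_, hx', rfl⟩
    have hno : Red.HasNoSubtorus k N := hasNoSubtorus_of_uni v n fun x hx => by
      rw [hnpts] at hx
      exact ((hD x).1 (neut_le _ hx)).2
    obtain ⟨-, -, -, -, -, -, humax⟩ := hU
    obtain ⟨l, hl⟩ := humax N f inferInstance (isNormalHom_of_pts w hnorm) hnsm inferInstance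
      fun s => ⟨(geom_facts s N).2.2, hasNoSubtorus_geom s hno⟩
    exact ptsSub_le_of_factor v (f := l) (by rw [← Category.assoc, hl, hf])
  obtain ⟨R, hR, hcov⟩ := exists_neut_cosets (D.isClosed_U hKc 1)
  refine ⟨S, hSK, hS, fun s hs x hx => ?_, fun M hM hSM hUM => ?_⟩
  · obtain ⟨hu, -, hun, -, -, -, -⟩ := id hU
    haveI := hu
    obtain ⟨b, hb⟩ := (mem_ptsSub v).1 (hSK hs)
    obtain ⟨n', hn'⟩ := (mem_ptsSub v).1 hx
    obtain ⟨m, hm⟩ := hun _ b n'
    refine (mem_ptsSub v).2 ⟨m, ?_⟩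
    rw [map_mul, map_mul, map_inv, ← hb, ← hn', ← Category.assoc, ← hm, MonObj.mul_comp, MonObj.mul_comp,
      GrpObj.inv_comp, Category.assoc]
  let M' := M ⊓ K
  have hM' : IsClosed (M' : Set (Pt k A)) := hM.inter hKc
  have hSN : ∀ g ∈ K, ∃ r ∈ R, ∃ m ∈ M', g = r * m := fun g hg => by
    obtain ⟨s, hs, hsu⟩ := hdec g⁻¹ (inv_mem hg)
    obtain ⟨r, hr, hrn⟩ := hcov _ ((D.U 1).inv_mem hsu)
    refine ⟨r, hr, _, M'.mul_mem (show r⁻¹ * (s⁻¹ * g⁻¹)⁻¹ ∈ M' from ⟨hUM (hNle (hnpts.symm ▸ hrn)), ?_⟩)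
      (show s⁻¹ ∈ M' from ⟨hSM (inv_mem hs), hSK (inv_mem hs)⟩), by group⟩
    exact ((hD _).1 (neut_le _ hrn)).1
  let Cs : Set (Pt k A) := ⋃ r ∈ R.filter (fun r => r ∉ M'), (fun x => r⁻¹ * x) ⁻¹' (M' : Set (Pt k A))
  have hCs : IsClosed Cs :=
    (Finset.finite_toSet _).isClosed_biUnion fun r _ => hM'.preimage (continuous_const_mul r⁻¹)
  have hcover : (K : Set (Pt k A)) ⊆ (M' : Set (Pt k A)) ∪ Cs := fun g hg => by
    obtain ⟨r, hr, m, hm, rfl⟩ := hSN g hg
    by_cases hrM : r ∈ M'
    · exact Or.inl (M'.mul_mem hrM hm)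
    · exact Or.inr (Set.mem_iUnion₂.2 ⟨r, Finset.mem_filter.2 ⟨hr, hrM⟩, by simpa using hm⟩)
  intro g hg
  rcases hcover hg with h | h
  · exact h.1
  exfalso
  obtain ⟨x, -, hx1, hx2⟩ := (isPreconnected_closed_iff.1 hKp) _ _ hM' hCs hcover ⟨1, K.one_mem, M'.one_mem⟩ ⟨g, hg, h⟩
  obtain ⟨r, hr, hrx⟩ := Set.mem_iUnion₂.1 hx2
  apply (Finset.mem_filter.1 hr).2
  have := M'.mul_mem hx1 (M'.inv_mem hrx)
  simpa using this

end Groth.Agent.ObsLib

end
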