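import Groth.Agent.ObsLib.QuotHopf
import Groth.Agent.ObsLib.Setup
import Groth.Agent.ObsLib.TorGen
import Groth.Agent.BorelLib.RedQuot
import Groth.Agent.BorelLib.RedUnip

/-!
# Quotients of parabolic subgroups by their unipotent radicals
-/

set_option autoImplicit false
set_option linter.style.haveILetI false
set_option linter.unusedSectionVars false
set_option backward.isDefEq.respectTransparency false
set_option backward.isDefEq.respectTransparency.types false
set_option maxHeartbeats 2000000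
set_option synthInstance.maxHeartbeats 400000

noncomputable section

universe u

open CategoryTheory MonoidalCategory CartesianMonoidalCategory AlgebraicGeometry WithConv
open scoped MonObj TensorProduct
open CoactBr (sp pt)

namespace Groth.Agent.ObsLib

open BorelLib BlowRegLib

attribute [-instance] CategoryTheory.Hom.commGroup
attribute [local instance] pTop pTopTensor

variable {k : Type u} [Field k] [IsAlgClosed k] {A C : Type u} [CommRing A] [HopfAlgebra k A] [Algebra.FiniteType k A]
  [CommRing C] [HopfAlgebra k C] [Algebra.FiniteType k C]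

/-- Unipotence of a connected subgroup is seen after an injective map. -/
lemma uni_of_map {j : Pt k C →* Pt k A} (hj : IsMor j) (hinj : Function.Injective j) [_root_.IsReduced C]
    {J : Subgroup (Pt k C)} (hJc : IsClosed (J : Set (Pt k C))) (hJ : _root_.IsPreconnected (J : Set (Pt k C)))
    (hu : ∀ x ∈ J, IsUni (j x)) : ∀ x ∈ J, IsUni x :=
  (uni_of_noTor hJc hJ fun T hT hTor => by
    refine le_bot_iff.1 fun t ht => Subgroup.mem_bot.2 (hinj ?_)
    have h := eq_bot_of_uni (hTor.map hj) fun y hy => by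
      obtain ⟨s, hs, rfl⟩ := hy
      exact hu s (hT hs)
    rw [_root_.map_one]
    exact Subgroup.mem_bot.1 (h ▸ Subgroup.mem_map_of_mem j ht : j t ∈ (⊥ : Subgroup (Pt k A)))).2

/-- A quotient by a largest connected normal unipotent subgroup is reductive. -/
theorem isRedPts_quot [_root_.IsReduced C] {Q : Type u} [CommRing Q] [HopfAlgebra k Q] [Algebra.FiniteType k Q]
    [_root_.IsReduced Q] {q : Pt k C →* Pt k Q} (hq : IsMor q) (hsur : Function.Surjective q) {N : Subgroup (Pt k C)}
    (hker : ∀ g, q g = 1 ↔ g ∈ N) (hNu : ∀ x ∈ N, IsUni x)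
    (hmax : ∀ J : Subgroup (Pt k C), IsClosed (J : Set (Pt k C)) → _root_.IsPreconnected (J : Set (Pt k C)) →
      (∀ g, conjSub g J ≤ J) → (∀ x ∈ J, IsUni x) → J ≤ N) : IsRedPts k Q := by
  intro J hc hp hn hu
  set M := neut (J.comap q)
  have hcc : IsClosed (J.comap q : Set (Pt k C)) := hc.preimage hq.continuous
  have hMc : IsClosed (M : Set (Pt k C)) := isClosed_neut hcc
  have hMp : _root_.IsPreconnected (M : Set (Pt k C)) := isPreconnected_neut _
  have hMn : ∀ g, conjSub g M ≤ M := fun g => le_neut (isPreconnected_conjSub hMp)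
    ((conjSub_mono (neut_le _)).trans (by
      rintro _ ⟨x, hx, rfl⟩
      exact hn (q g) ⟨q x, hx, by simp⟩))
  have hMu := (uni_of_noTor hMc hMp fun T hT hTor => eq_bot_of_uni hTor fun t ht => hNu t ((hker t).1 (by
    have h := eq_bot_of_uni (hTor.map hq) fun y hy => by
      obtain ⟨s, hs, rfl⟩ := hy
      exact hu _ (neut_le _ (hT hs) : s ∈ J.comap q)
    exact Subgroup.mem_bot.1 (h ▸ Subgroup.mem_map_of_mem q ht : q t ∈ (⊥ : Subgroup (Pt k Q)))))).2
  have hMN := hmax M hMc hMp hMn hMu
  obtain ⟨F, -, hF⟩ := exists_neut_cosets hcc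
  refine eq_bot_of_finite hp (((F.finite_toSet).image q).subset fun y hy => ?_)
  obtain ⟨x, rfl⟩ := hsur y
  obtain ⟨r, hr, hrx⟩ := hF x hy
  refine ⟨r, hr, ?_⟩
  have := (hker _).2 (hMN hrx)
  rwa [_root_.map_mul, _root_.map_inv, inv_mul_eq_one] at this

variable [_root_.IsReduced A] {G : Over (Spec (CommRingCat.of k))} [GrpObj G] [IsAffine G.left] [Smooth G.hom]
  (v : sp k A ≅ G) [IsMonHom v.hom]

/-- A Borel subgroup is a torus times its unipotent radical. -/
theorem exists_torus_mul {Bo : Over (Spec (CommRingCat.of k))} [GrpObj Bo] {iB : Bo ⟶ G} [IsMonHom iB]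
    (hB : Red.IsBorelOver k iB) {U : Over (Spec (CommRingCat.of k))} [GrpObj U] {u : U ⟶ Bo}
    (hU : Par.IsUnipotentRadical u) [IsMonHom (u ≫ iB)] :
    ∃ S : Subgroup (Pt k A), S ≤ ptsSub v iB ∧ IsTor S ∧
      ∀ x ∈ ptsSub v iB, ∃ s ∈ S, ∃ n ∈ ptsSub v (u ≫ iB), s * n = x := by
  obtain ⟨S, hSB, hS, hnorm, hgen⟩ := exists_torus_gen v hB hU
  obtain ⟨hcl, hsm, hp, -, -⟩ := uni_data v iB hB u hU
  haveI := hcl; haveI := hsm
  refine ⟨S, hSB, hS, fun x hx => ?_⟩
  exact hgen (prodSub S (ptsSub v (u ≫ iB)) hnorm) (isClosed_prodSub hnorm hS.closed hS.conn (isClosed_ptsSub v) hp).1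
    (fun s hs => ⟨s, hs, 1, Subgroup.one_mem _, _root_.mul_one s⟩)
    (fun n hn => ⟨1, Subgroup.one_mem _, n, hn, _root_.one_mul n⟩) hx

end Groth.Agent.ObsLib

end
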