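import Groth.Agent.ObsLib.Main
import Groth.Agent.BorelLib.RedBridge
import Groth.Agent.BorelLib.RedUnip
import Groth.Agent.ObsLib.ParabQuot
import Groth.Agent.GrpFieldLib.Identity
import Groth.Agent.GrpSchLib.Cartier
import Mathlib.AlgebraicGeometry.Morphisms.FlatMono

/-!
# Reductive groups from reductive groups of points, without connectedness
-/

set_option autoImplicit false
set_option linter.style.haveILetI false
set_option linter.unusedSectionVars false
set_option backward.isDefEq.respectTransparency false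
set_option backward.isDefEq.respectTransparency.types false
set_option maxHeartbeats 2000000
set_option synthInstance.maxHeartbeats 400000

noncomputable section

universe u

open CategoryTheory MonoidalCategory CartesianMonoidalCategory AlgebraicGeometry WithConv
open scoped MonObj TensorProduct
open CoactBr (sp pt)

namespace Groth.Agent.ObsLib

open BorelLib BlowRegLib

attribute [-instance] CategoryTheory.Hom.commGroup
attribute [local instance] pTop pTopTensor

variable {k : Type u} [Field k] [IsAlgClosed k] {A : Type u} [CommRing A] [HopfAlgebra k A] [Algebra.FiniteType k A]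
  [_root_.IsReduced A]

/-- The neutral component inherits the absence of normal connected unipotent subgroups. -/
theorem isRedSub_neut (h : IsRedPts k A) : IsRedSub (neut (⊤ : Subgroup (Pt k A))) := by
  classical
  set K := neut (⊤ : Subgroup (Pt k A))
  have hKc : IsClosed (K : Set (Pt k A)) := isClosed_neut (by rw [Subgroup.coe_top]; exact isClosed_univ)
  have hKn : ∀ p, BorelLib.conjSub p K ≤ K := fun p =>
    le_neut (isPreconnected_conjSub (isPreconnected_neut _)) le_top
  obtain ⟨C, _, _, j, hC, hC', hjm, hjind, hjinj, hjr, -⟩ := exists_frame hKc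
  haveI := hC; haveI := hC'
  have hconn : _root_.IsPreconnected (Set.univ : Set (Pt k C)) :=
    isPreconnected_univ_frame hjind (hjr.symm ▸ isPreconnected_neut _)
  obtain ⟨hRc0, hRp0, hRs0, hRn0, -⟩ := radSub_facts (k := k) (A := C) hconn
  obtain ⟨D, hD⟩ := exists_flag_uni hRc0 hRp0 hRs0
  set R := neut (D.U 1) with hRdef
  have hRle : ∀ J : Subgroup (Pt k C), IsClosed (J : Set (Pt k C)) → _root_.IsPreconnected (J : Set (Pt k C)) →
      (∀ g, BorelLib.conjSub g J ≤ J) → (∀ x ∈ J, IsUni x) → J ≤ R := fun J hJc hJp hJn hJu =>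
    le_neut hJp fun x hx => (hD x).2 ⟨le_radSub hconn hJp hJn (isSol_of_uni hJc hJp hJu) hx, hJu x hx⟩
  have hRc : IsClosed (R : Set (Pt k C)) := isClosed_neut (D.isClosed_U hRc0 1)
  have hRn : ∀ g, BorelLib.conjSub g R ≤ R := fun g =>
    le_neut (isPreconnected_conjSub (isPreconnected_neut _)) ((conjSub_mono (neut_le _)).trans (by
      rintro _ ⟨x, hx, rfl⟩
      exact (hD _).2 ⟨hRn0 g ⟨x, ((hD x).1 hx).1, rfl⟩, ((hD x).1 hx).2.conj g⟩))
  obtain ⟨hR'c, hR'p⟩ := BorelLib.isClosed_map hjm hRc (isPreconnected_neut _)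
  have hR'u : ∀ x ∈ R.map j, IsUni x := by
    rintro _ ⟨x, hx, rfl⟩
    exact ((hD x).1 (neut_le _ hx)).2.map j hjm
  have hjK : ∀ c, j c ∈ K := fun c => hjr ▸ ⟨c, rfl⟩
  have hR'n : ∀ p, BorelLib.conjSub p (R.map j) ≤ R.map j := by
    intro p
    have hle : BorelLib.conjSub p (R.map j) ≤ K := (conjSub_mono (by
      rintro _ ⟨c, -, rfl⟩
      exact hjK c)).trans (hKn p)
    have hJc : IsClosed ((BorelLib.conjSub p (R.map j)).comap j : Set (Pt k C)) :=
      (isClosed_conjSub hR'c).preimage hjind.continuous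
    have hJp : _root_.IsPreconnected ((BorelLib.conjSub p (R.map j)).comap j : Set (Pt k C)) :=
      isPreconnected_comap hjind (hjr.symm ▸ hle) (isPreconnected_conjSub hR'p)
    have hJu := uni_of_map hjm hjinj hJc hJp fun x hx => by
      obtain ⟨y, hy, hyx⟩ := hx
      rw [← hyx]
      exact (hR'u y hy).conj p
    have hJn : ∀ g, BorelLib.conjSub g ((BorelLib.conjSub p (R.map j)).comap j) ≤
        (BorelLib.conjSub p (R.map j)).comap j := fun g => by
      rintro _ ⟨x, hx, rfl⟩
      obtain ⟨y, hy, hyx⟩ := hx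
      simp only [MulEquiv.coe_toMonoidHom, MulAut.conj_apply] at hyx
      obtain ⟨c, hc⟩ : p⁻¹ * j g * p ∈ j.range := hjr ▸ (hKn p⁻¹ ⟨j g, hjK g, by simp⟩)
      obtain ⟨r, hr, rfl⟩ := hy
      refine ⟨j (c * r * c⁻¹), ⟨_, hRn c ⟨r, hr, rfl⟩, rfl⟩, ?_⟩
      simp only [MulEquiv.coe_toMonoidHom, MulAut.conj_apply, _root_.map_mul, _root_.map_inv, hc, ← hyx]
      group
    intro x hx
    obtain ⟨c, rfl⟩ : x ∈ j.range := hjr ▸ hle hx
    exact ⟨c, hRle _ hJc hJp hJn hJu hx, rfl⟩
  have hbot := h _ hR'c hR'p hR'n hR'u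
  intro N hNK hNc hNp hNn hNu
  refine le_bot_iff.1 fun x hx => ?_
  obtain ⟨c, rfl⟩ : x ∈ j.range := hjr ▸ hNK hx
  have hle := hRle (N.comap j) (hNc.preimage hjind.continuous) (isPreconnected_comap hjind (hjr.symm ▸ hNK) hNp)
    (fun g => by
      rintro _ ⟨y, hy, rfl⟩
      show j (g * y * g⁻¹) ∈ N
      rw [_root_.map_mul, _root_.map_mul, _root_.map_inv]
      exact hNn (j g) (hjK g) ⟨j y, hy, rfl⟩)
    (uni_of_map hjm hjinj (hNc.preimage hjind.continuous) (isPreconnected_comap hjind (hjr.symm ▸ hNK) hNp)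
      fun y hy => hNu _ hy)
  exact hbot ▸ ⟨c, hle hx, rfl⟩

/-- **A reductive group of points gives a group scheme with reductive neutral component.** -/
theorem isReductiveGrp_sp (h : IsRedPts k A) : VecGrp.IsReductiveGrp k (sp k A) := by
  haveI hlft : LocallyOfFiniteType (sp k A).hom := by
    show LocallyOfFiniteType (Spec.map (CommRingCat.ofHom (algebraMap k A)))
    rw [HasRingHomProperty.Spec_iff (P := @LocallyOfFiniteType), CommRingCat.hom_ofHom,
      RingHom.finiteType_algebraMap]
    infer_instance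
  haveI : AlgebraicGeometry.IsReduced (sp k A).left := inferInstanceAs (AlgebraicGeometry.IsReduced (Spec (CommRingCat.of A)))
  haveI : IsAffine (sp k A).left := inferInstanceAs (IsAffine (Spec (CommRingCat.of A)))
  haveI hsm : Smooth (sp k A).hom := GrpSchLib.smooth_of_isAlgClosed_of_isReduced (sp k A)
  haveI : IsMonHom (Iso.refl (sp k A)).hom := inferInstanceAs (IsMonHom (𝟙 _))
  refine ⟨inferInstance, hsm, ?_⟩
  obtain ⟨G₀, _, i, hi, hic, hifl, hr, hgi, -⟩ := GrpField.exists_identity_component (G := sp k A)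
  haveI := hi; haveI := hic; haveI := hifl; haveI := hgi
  haveI : IsLocallyNoetherian (sp k A).left := LocallyOfFiniteType.isLocallyNoetherian (sp k A).hom
  haveI : LocallyOfFinitePresentation i.left := LocallyOfFinitePresentation.iff_locallyOfFiniteType.2 inferInstance
  haveI : IsOpenImmersion i.left := IsOpenImmersion.of_flat_of_mono i.left
  haveI : Smooth G₀.hom := by rw [← Over.w i]; infer_instance
  haveI : ConnectedSpace G₀.left := by
    have hc : _root_.IsPreconnected (Set.range i.left) := by
      rw [hr, ← GrpField.connectedComponent_unit]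
      exact isPreconnected_connectedComponent
    haveI : PreconnectedSpace G₀.left := ⟨i.left.isClosedEmbedding.isInducing.isPreconnected_image.1 (by
      rwa [Set.image_univ])⟩
    exact { toNonempty := ⟨AVAmpleLib.pt (1 : RPt G₀)⟩ }
  exact ⟨G₀, inferInstance, i, hi, inferInstance, isReductiveOver_of_isRedSub (Iso.refl (sp k A)) i
    (by rw [ptsSub_open (Iso.refl (sp k A)) i]; exact isRedSub_neut h)⟩

end Groth.Agent.ObsLib

end
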