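import Groth.Agent.ObsLib.GLHom
import Groth.Agent.BorelLib.RedUnip

/-!
# Semi-invariant denominators of semi-invariant fractions
-/

set_option autoImplicit false
set_option linter.style.haveILetI false
set_option linter.unusedSectionVars false
set_option backward.isDefEq.respectTransparency false
set_option backward.isDefEq.respectTransparency.types false
set_option maxHeartbeats 1000000
set_option synthInstance.maxHeartbeats 400000

noncomputable section

universe u

open CategoryTheory MonoidalCategory CartesianMonoidalCategory AlgebraicGeometry WithConv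
open scoped MonObj TensorProduct
open CoactBr (sp pt)

namespace Groth.Agent.ObsLib

open BorelLib BlowRegLib

attribute [-instance] CategoryTheory.Hom.commGroup
attribute [local instance] pTop pTopTensor

variable {k : Type u} [Field k] [IsAlgClosed k] {A : Type u} [CommRing A] [HopfAlgebra k A] [Algebra.FiniteType k A]
  [_root_.IsReduced A]
  {G : Over (Spec (CommRingCat.of k))} [GrpObj G] (v : sp k A ≅ G) [IsMonHom v.hom]

/-- The orbit of a vector spans a finite-dimensional subspace. -/
theorem finiteDimensional_orbit {V : Type u} [AddCommGroup V] [Module k V] (m : VecGrp.GMod G V) (u : V) :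
    FiniteDimensional k (Submodule.span k (Set.range fun g => (toRep v m).ρ g u)) := by
  classical
  obtain ⟨S, hS⟩ := TensorProduct.exists_finset (R := k) (uval v m u)
  let T : Finset V := S.image Prod.snd
  have : FiniteDimensional k (Submodule.span k (T : Set V)) := FiniteDimensional.span_of_finite k T.finite_toSet
  refine Submodule.finiteDimensional_of_le (S₂ := Submodule.span k (T : Set V)) (Submodule.span_le.2 ?_)
  rintro _ ⟨g, rfl⟩
  show TensorProduct.lid k V (g.ofConv.toLinearMap.rTensor V (uval v m u)) ∈ _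
  rw [hS, map_sum, map_sum]
  refine Submodule.sum_mem _ fun i hi => ?_
  simp only [LinearMap.rTensor_tmul, TensorProduct.lid_tmul]
  exact Submodule.smul_mem _ _ (Submodule.subset_span (Finset.mem_image_of_mem _ hi))

/-- Points act multiplicatively. -/
lemma toRep_mul {R : Type u} [CommRing R] [Algebra k R] (m : VecGrp.GMod G R) (hm : m.IsMult) (g : Pt k A) (a b : R) :
    (toRep v m).ρ g (a * b) = (toRep v m).ρ g a * (toRep v m).ρ g b := by
  refine (TensorProduct.lid k R).symm.injective ?_
  show (1 : k) ⊗ₜ[k] (toRep v m).ρ g (a * b) = (1 : k) ⊗ₜ[k] ((toRep v m).ρ g a * (toRep v m).ρ g b)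
  have h := (hm k (ptk v g)).1 ((1 : k) ⊗ₜ[k] a) ((1 : k) ⊗ₜ[k] b)
  rw [Algebra.TensorProduct.tmul_mul_tmul, _root_.one_mul, rho_ptk, rho_ptk, rho_ptk,
    Algebra.TensorProduct.tmul_mul_tmul, _root_.one_mul] at h
  exact h

/-- A semi-invariant fraction of a connected solvable group has a semi-invariant denominator. -/
theorem exists_semiInv_den {R : Type u} [CommRing R] [IsDomain R] [Algebra k R] (m : VecGrp.GMod G R)
    (hm : m.IsMult) (hconn : _root_.IsPreconnected (Set.univ : Set (Pt k A)))
    (hsol : IsSol (⊤ : Subgroup (Pt k A))) (χ : Pt k A → k) {a₀ b₀ : R} (hb₀ : b₀ ≠ 0)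
    (h : ∀ g, (toRep v m).ρ g a₀ * b₀ = χ g • (a₀ * (toRep v m).ρ g b₀)) :
    ∃ (a b : R) (θ : Pt k A → k), b ≠ 0 ∧ a * b₀ = b * a₀ ∧ IsReg θ ∧
      (∀ g, (toRep v m).ρ g b = θ g • b) ∧ ∀ g, (toRep v m).ρ g a = (θ g * χ g) • a := by
  set r := toRep v m
  let W := Submodule.span k (Set.range fun g => r.ρ g b₀)
  haveI : FiniteDimensional k W := finiteDimensional_orbit v m b₀
  have hWs : r.Stable ⊤ W := fun g _ w hw => by
    induction hw using Submodule.span_induction with
    | mem y hy =>
      obtain ⟨g', rfl⟩ := hy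
      exact Submodule.subset_span ⟨g * g', r.mul_apply trivial trivial b₀⟩
    | zero => simp
    | add y y' _ _ hy hy' => rw [map_add]; exact add_mem hy hy'
    | smul d y _ hy => rw [map_smul]; exact Submodule.smul_mem _ d hy
  have hD : ∀ w ∈ W, ∃ a, a * b₀ = w * a₀ := fun w hw => by
    induction hw using Submodule.span_induction with
    | mem y hy =>
      obtain ⟨g, rfl⟩ := hy
      rcases eq_or_ne (χ g) 0 with h0 | h0
      · refine ⟨0, ?_⟩
        have h1 := h g
        rw [h0, zero_smul, mul_eq_zero] at h1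
        have h2 : r.ρ g a₀ = 0 := h1.resolve_right hb₀
        have h3 : a₀ = 0 := by
          have := r.inv_apply (g := g) trivial a₀
          rw [h2, map_zero] at this
          exact this.symm
        rw [h3, zero_mul, mul_zero]
      · refine ⟨(χ g)⁻¹ • r.ρ g a₀, ?_⟩
        rw [smul_mul_assoc, h g, smul_smul, inv_mul_cancel₀ h0, one_smul]
        exact mul_comm _ _
    | zero => exact ⟨0, by simp⟩
    | add y y' _ _ hy hy' =>
      obtain ⟨a, ha⟩ := hy
      obtain ⟨a', ha'⟩ := hy'
      exact ⟨a + a', by rw [add_mul, add_mul, ha, ha']⟩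
    | smul d y _ hy =>
      obtain ⟨a, ha⟩ := hy
      exact ⟨d • a, by rw [smul_mul_assoc, smul_mul_assoc, ha]⟩
  obtain ⟨r', hr'⟩ := r.exists_sub hWs
  have hb₀W : b₀ ∈ W := Submodule.subset_span ⟨1, by simp [r.map_one]⟩
  have hne : (⊤ : Submodule k W) ≠ ⊥ := (Submodule.ne_bot_iff _).2
    ⟨⟨b₀, hb₀W⟩, trivial, fun h0 => hb₀ (congrArg Subtype.val h0)⟩
  obtain ⟨w, -, hw0, hw⟩ := r'.exists_weight_of_isSol le_rfl (by rwa [Subgroup.coe_top]) hsol hne
    fun _ _ _ _ => trivial
  obtain ⟨θ, hθr, hθ⟩ := r'.exists_reg_weight hw0 hw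
  have hb : ∀ g, r.ρ g (w : R) = θ g • (w : R) := fun g =>
    (hr' g trivial w).symm.trans (congrArg Subtype.val (hθ g trivial))
  have hb0 : (w : R) ≠ 0 := fun h0 => hw0 (Subtype.ext h0)
  obtain ⟨a, ha⟩ := hD w w.2
  refine ⟨a, w, θ, hb0, ha, hθr, hb, fun g => ?_⟩
  have h1 : r.ρ g a * r.ρ g b₀ = θ g • (w : R) * r.ρ g a₀ := by
    rw [← toRep_mul v m hm, ha, toRep_mul v m hm, hb]
  have hgb₀ : r.ρ g b₀ ≠ 0 := r.apply_ne_zero trivial hb₀
  refine mul_right_cancel₀ hgb₀ (mul_right_cancel₀ hb₀ ?_)
  rw [h1, mul_assoc, h g, smul_mul_assoc, mul_smul_comm, smul_smul, smul_mul_assoc, smul_mul_assoc, ← mul_assoc, ← ha]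
  congr 1
  ring

end Groth.Agent.ObsLib
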