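import Groth.Agent.ObsLib.SubAlgMod
import Groth.Agent.ObsLib.Stable
import Groth.Agent.ObsLib.UFixed

/-!
# Stable finitely generated subalgebras
-/

set_option autoImplicit false
set_option linter.style.haveILetI false
set_option linter.unusedSectionVars false
set_option backward.isDefEq.respectTransparency false
set_option backward.isDefEq.respectTransparency.types false
set_option maxHeartbeats 2000000
set_option synthInstance.maxHeartbeats 400000

noncomputable section

universe u

open CategoryTheory MonoidalCategory CartesianMonoidalCategory AlgebraicGeometry WithConv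
open scoped MonObj TensorProduct
open CoactBr (sp pt)

namespace Groth.Agent.ObsLib

open BorelLib BlowRegLib

attribute [-instance] CategoryTheory.Hom.commGroup
attribute [local instance] pTop pTopTensor

variable {k : Type u} [Field k] [IsAlgClosed k] {A : Type u} [CommRing A] [HopfAlgebra k A] [Algebra.FiniteType k A]
  [_root_.IsReduced A] {G : Over (Spec (CommRingCat.of k))} [GrpObj G] (v : sp k A ≅ G) [IsMonHom v.hom]

/-- Stable subspaces are stable under points. -/
theorem pts_of_isStable {V : Type u} [AddCommGroup V] [Module k V] (m : VecGrp.GMod G V) {W : Submodule k V}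
    (hW : m.IsStable (𝟙 G) W) (x : Pt k A) {u : V} (hu : u ∈ W) : (toRep v m).ρ x u ∈ W := by
  have h := hW k (ptk v x) u hu
  rw [Category.comp_id, rho_ptk] at h
  obtain ⟨z, hz⟩ := h
  have e : ∀ z : k ⊗[k] ↥W, TensorProduct.lid k V (W.subtype.baseChange k z) = (TensorProduct.lid k ↥W z : V) :=
    fun z => by
      induction z using TensorProduct.induction_on with
      | zero => simp
      | add p q hp hq => simp only [map_add, hp, hq, Submodule.coe_add]
      | tmul p q => simp
  have h2 := e z
  rw [hz, TensorProduct.lid_tmul, one_smul] at h2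
  exact h2 ▸ (TensorProduct.lid k ↥W z).2

variable {R : Type u} [CommRing R] [Algebra k R] (m : VecGrp.GMod G R) (hm : m.IsMult)
include hm

/-- Finitely many elements lie in a smallest stable subalgebra, which is finitely generated. -/
theorem exists_stable_fg (t : Finset R) :
    ∃ C : Subalgebra k R, C.FG ∧ ↑t ⊆ (C : Set R) ∧ m.IsStable (𝟙 G) (Subalgebra.toSubmodule C) ∧
      ∀ S : Subalgebra k R, (↑t : Set R) ⊆ S → (∀ x, ∀ a ∈ S, (toRep v m).ρ x a ∈ S) → C ≤ S := by
  classical
  let W : Submodule k R := Submodule.span k (⋃ a ∈ t, Set.range fun g => (toRep v m).ρ g a)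
  have hWst : ∀ g, ∀ w ∈ W, (toRep v m).ρ g w ∈ W := fun g w hw => by
    induction hw using Submodule.span_induction with
    | mem y hy =>
      obtain ⟨a, ha, g', rfl⟩ := Set.mem_iUnion₂.1 hy
      exact Submodule.subset_span (Set.mem_iUnion₂.2 ⟨a, ha, g * g', (toRep v m).mul_apply trivial trivial a⟩)
    | zero => rw [map_zero]; exact zero_mem _
    | add y y' _ _ hy hy' => rw [map_add]; exact add_mem hy hy'
    | smul d y _ hy => rw [map_smul]; exact Submodule.smul_mem _ d hy
  have hWfg : W.FG := by
    have : W = ⨆ a ∈ t, Submodule.span k (Set.range fun g => (toRep v m).ρ g a) := by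
      simp only [W, Submodule.span_iUnion₂]
    rw [this]
    refine Submodule.fg_biSup t _ fun a _ => ?_
    haveI := finiteDimensional_orbit v m a
    exact Module.Finite.iff_fg.1 inferInstance
  obtain ⟨s, hs⟩ := hWfg
  refine ⟨Algebra.adjoin k (↑s : Set R), ⟨s, rfl⟩, fun a ha => ?_, isStable_of_pts v m fun g w hw => ?_,
    fun S hS hSst => ?_⟩
  · have h : a ∈ W := Submodule.subset_span (Set.mem_iUnion₂.2 ⟨a, ha, 1, by simp [(toRep v m).map_one]⟩)
    rw [← hs] at h
    exact Algebra.span_le_adjoin k (↑s : Set R) h
  · replace hw : w ∈ Algebra.adjoin k (↑s : Set R) := hw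
    show (toRep v m).ρ g w ∈ Algebra.adjoin k (↑s : Set R)
    induction hw using Algebra.adjoin_induction with
    | mem y hy =>
      have h : (toRep v m).ρ g y ∈ W := hWst g y (hs ▸ Submodule.subset_span hy)
      rw [← hs] at h
      exact Algebra.span_le_adjoin k (↑s : Set R) h
    | algebraMap c =>
      rw [Algebra.algebraMap_eq_smul_one, map_smul, toRep_one v m hm]
      exact Subalgebra.smul_mem _ (one_mem _) c
    | add p q _ _ hp hq => rw [map_add]; exact add_mem hp hq
    | mul p q _ _ hp hq => rw [toRep_mul v m hm]; exact mul_mem hp hq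
  · refine Algebra.adjoin_le fun y hy => ?_
    have h : y ∈ W := hs ▸ Submodule.subset_span hy
    refine (Submodule.span_le (p := Subalgebra.toSubmodule S)).2 ?_ h
    intro z hz
    obtain ⟨a, ha, g, rfl⟩ := Set.mem_iUnion₂.1 hz
    exact hSst g a (hS ha)

end Groth.Agent.ObsLib

end
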