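import Groth.Agent.ObsLib.AlgModule

/-!
# The action on a stable subalgebra
-/

set_option autoImplicit false
set_option linter.style.haveILetI false
set_option linter.unusedSectionVars false
set_option backward.isDefEq.respectTransparency false
set_option backward.isDefEq.respectTransparency.types false
set_option maxHeartbeats 2000000
set_option synthInstance.maxHeartbeats 400000

noncomputable section

universe u

open CategoryTheory MonoidalCategory CartesianMonoidalCategory AlgebraicGeometry WithConv
open scoped MonObj TensorProduct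
open CoactBr (sp pt)

namespace Groth.Agent.ObsLib

open BorelLib BlowRegLib

attribute [-instance] CategoryTheory.Hom.commGroup
attribute [local instance] pTop pTopTensor

variable {k : Type u} [Field k] [IsAlgClosed k] {A : Type u} [CommRing A] [HopfAlgebra k A] [Algebra.FiniteType k A]
  [_root_.IsReduced A] {G : Over (Spec (CommRingCat.of k))} [GrpObj G] (v : sp k A ≅ G) [IsMonHom v.hom]
  {R : Type u} [CommRing R] [Algebra k R] (C : Subalgebra k R)

/-- The inclusion of a subalgebra after base change. -/
def subIncl (B : Type u) [CommRing B] [Algebra k B] : B ⊗[k] ↥C →ₐ[k] B ⊗[k] R :=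
  Algebra.TensorProduct.map (AlgHom.id k B) C.val

lemma subIncl_injective (B : Type u) [CommRing B] [Algebra k B] : Function.Injective (subIncl C B) :=
  Module.Flat.lTensor_preserves_injective_linearMap (M := B) C.val.toLinearMap Subtype.val_injective

lemma evR_subIncl (x : Pt k A) (z : A ⊗[k] ↥C) : evR x (subIncl C A z) = C.val (evR x z) := by
  induction z using TensorProduct.induction_on with
  | zero => simp
  | add p q hp hq => simp only [map_add, hp, hq]
  | tmul p q => simp [subIncl]

/-- **The action on a stable subalgebra.** -/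
theorem exists_subMod (m : VecGrp.GMod G R) (hm : m.IsMult) (hC : m.IsStable (𝟙 G) (Subalgebra.toSubmodule C)) :
    ∃ mC : VecGrp.GMod G ↥C, mC.IsMult ∧ (∀ x c, ((toRep v mC).ρ x c : R) = (toRep v m).ρ x c) ∧
      VecGrp.GMod.IsCompat mC m := by
  have hmem : ∀ c : ↥C, uvalAlg v m hm (c : R) ∈ (subIncl C A).range := fun c => by
    have h := hC A (gpt v (AlgHom.id k A)) (c : R) c.2
    rw [Category.comp_id] at h
    obtain ⟨z, hz⟩ := h
    exact ⟨z, hz⟩
  let δ : ↥C →ₐ[k] A ⊗[k] ↥C := (AlgEquiv.ofInjective (subIncl C A) (subIncl_injective C A)).symm.toAlgHom.comp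
    (((uvalAlg v m hm).comp C.val).codRestrict (subIncl C A).range hmem)
  have hδ : ∀ c, subIncl C A (δ c) = uvalAlg v m hm (c : R) := fun c => by
    have h := (AlgEquiv.ofInjective (subIncl C A) (subIncl_injective C A)).apply_symm_apply
      ⟨uvalAlg v m hm (c : R), hmem c⟩
    exact congrArg Subtype.val h
  have hev : ∀ x c, ((evR x (δ c) : ↥C) : R) = (toRep v m).ρ x (c : R) := fun x c => by
    rw [← evR_uvalAlg v m hm, ← hδ, evR_subIncl]
    rfl
  have h1 : ∀ c, evR 1 (δ c) = c := fun c => Subtype.ext (by rw [hev, (toRep v m).map_one]; rfl)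
  have h2 : ∀ x y c, evR (x * y) (δ c) = evR x (δ (evR y (δ c))) := fun x y c => Subtype.ext (by
    rw [hev, hev, hev, (toRep v m).mul_apply trivial trivial])
  obtain ⟨mC, hmC, h⟩ := exists_algMod v δ h1 h2
  have hrep : ∀ x c, ((toRep v mC).ρ x c : R) = (toRep v m).ρ x c := fun x c => by rw [h, hev]
  refine ⟨mC, hmC, hrep, fun B _ _ g x y => ?_⟩
  obtain ⟨φ, rfl⟩ := exists_gpt v g
  have hu : ∀ c : ↥C, subIncl C A (uvalAlg v mC hmC c) = uvalAlg v m hm (c : R) := fun c => evR_ext fun z => by
    rw [evR_subIncl, evR_uvalAlg, evR_uvalAlg, ← hrep]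
    rfl
  have hW : ∀ z : A ⊗[k] ↥C, subIncl C B (VecGrp.Wmap φ z) = VecGrp.Wmap φ (subIncl C A z) := fun z => by
    induction z using TensorProduct.induction_on with
    | zero => simp
    | add p q hp hq => simp only [map_add, hp, hq]
    | tmul p q => simp [subIncl]
  have hS : ∀ (p : B ⊗[k] ↥C) (q : B ⊗[k] R), VecGrp.GMod.smulW k ↥C R B p q = subIncl C B p * q := fun p q => by
    induction p using TensorProduct.induction_on with
    | zero => simp
    | add p p' hp hp' => simp only [map_add, LinearMap.add_apply, add_mul, hp, hp']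
    | tmul b c =>
      induction q using TensorProduct.induction_on with
      | zero => simp
      | add q q' hq hq' => simp only [map_add, mul_add, hq, hq']
      | tmul b' r => simp [VecGrp.GMod.smulW, subIncl, TensorProduct.map₂_apply_tmul, Subalgebra.smul_def]
  have hρ : ∀ p : B ⊗[k] ↥C, subIncl C B (mC.ρ B (gpt v φ) p) = m.ρ B (gpt v φ) (subIncl C B p) := fun p => by
    induction p using TensorProduct.induction_on with
    | zero => simp
    | add p p' hp hp' => simp only [map_add, hp, hp']
    | tmul b c =>
      have e : (b ⊗ₜ[k] c : B ⊗[k] ↥C) = b • ((1 : B) ⊗ₜ[k] c) := by rw [TensorProduct.smul_tmul', smul_eq_mul, _root_.mul_one]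
      have e' : subIncl C B (b ⊗ₜ[k] c) = b • ((1 : B) ⊗ₜ[k] (c : R)) := by
        rw [TensorProduct.smul_tmul', smul_eq_mul, _root_.mul_one]
        rfl
      have hlin : ∀ z : B ⊗[k] ↥C, subIncl C B (b • z) = b • subIncl C B z := fun z => by
        induction z using TensorProduct.induction_on with
        | zero => simp
        | add p q hp hq => simp only [smul_add, map_add, hp, hq]
        | tmul p q => simp [subIncl, TensorProduct.smul_tmul']
      rw [e', e, map_smul (mC.ρ B (gpt v φ)), hlin, map_smul (m.ρ B (gpt v φ)), rho_gpt, rho_gpt, hW]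
      exact congrArg (fun z => b • VecGrp.Wmap φ z) (hu c)
  rw [hS, hS, hρ]
  exact (hm B _).1 _ _

end Groth.Agent.ObsLib

end
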