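import Groth.Agent.ObsLib.AlgMod

/-!
# The transfer principle for invariants
-/

set_option autoImplicit false
set_option linter.style.haveILetI false
set_option linter.unusedSectionVars false
set_option backward.isDefEq.respectTransparency false
set_option backward.isDefEq.respectTransparency.types false
set_option maxHeartbeats 2000000
set_option synthInstance.maxHeartbeats 400000

noncomputable section

universe u

open CategoryTheory MonoidalCategory CartesianMonoidalCategory AlgebraicGeometry WithConv
open scoped MonObj TensorProduct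
open CoactBr (sp pt)

namespace Groth.Agent.ObsLib

open BorelLib BlowRegLib

attribute [-instance] CategoryTheory.Hom.commGroup
attribute [local instance] pTop pTopTensor

variable {k : Type u} [Field k] [IsAlgClosed k] {A : Type u} [CommRing A] [HopfAlgebra k A] [Algebra.FiniteType k A]
  [_root_.IsReduced A] {R : Type u} [CommRing R] [Algebra k R] {S : Subgroup (Pt k A)}

/-- The inclusion of invariants tensored with an algebra. -/
def invTensor (S : Subgroup (Pt k A)) (R : Type u) [CommRing R] [Algebra k R] :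
    ↥(invAlg S) ⊗[k] R →ₐ[k] A ⊗[k] R :=
  Algebra.TensorProduct.map (invAlg S).val (AlgHom.id k R)

lemma invTensor_injective : Function.Injective (invTensor S R) :=
  Module.Flat.rTensor_preserves_injective_linearMap (M := R) (invAlg S).val.toLinearMap Subtype.val_injective

lemma evR_invTensor (d : ↥(invAlg S)) (r : R) (x : Pt k A) :
    evR x (invTensor S R (d ⊗ₜ r)) = x.ofConv (d : A) • r := by simp [invTensor]

lemma evR_invTensor_inv (t : ↥(invAlg S) ⊗[k] R) (x : Pt k A) {h : Pt k A} (hh : h ∈ S) :
    evR (x * h) (invTensor S R t) = evR x (invTensor S R t) := by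
  induction t using TensorProduct.induction_on with
  | zero => simp
  | add p q hp hq => simp only [map_add, hp, hq]
  | tmul d r => rw [evR_invTensor, evR_invTensor, (d.2 : Inv S _) x h hh]

lemma exists_invTensor {z : A ⊗[k] R} (hz : ∀ x : Pt k A, ∀ h ∈ S, evR (x * h) z = evR x z) :
    ∃ t, invTensor S R t = z := by
  let b := Module.Free.chooseBasis k R
  obtain ⟨c, rfl⟩ := TensorProduct.eq_repr_basis_right b z
  have hc : ∀ i, c i ∈ invAlg S := fun i x h hh => by
    have e := congrArg (fun r => b.repr r i) (hz x h hh)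
    by_cases hi : i ∈ c.support
    · simpa [Finsupp.sum, map_sum, Finsupp.single_apply, hi] using e
    · simp [Finsupp.notMem_support_iff.1 hi]
  refine ⟨c.sum fun i _ => (⟨c i, hc i⟩ : ↥(invAlg S)) ⊗ₜ b i, ?_⟩
  simp only [Finsupp.sum, map_sum]
  rfl

/-- The universal value of the left translations on invariants. -/
theorem exists_invLeft (S : Subgroup (Pt k A)) :
    ∃ δ : ↥(invAlg S) →ₐ[k] A ⊗[k] ↥(invAlg S), ∀ (x : Pt k A) (d : ↥(invAlg S)),
      (((evR x (δ d) : ↥(invAlg S))) : A) = lT x⁻¹ (d : A) := by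
  classical
  let δ₀ : ↥(invAlg S) →ₐ[k] A ⊗[k] A :=
    ((Algebra.TensorProduct.map (HopfAlgebra.antipodeAlgHom k A) (AlgHom.id k A)).comp
      (Bialgebra.comulAlgHom k A)).comp (invAlg S).val
  have hδ₀ : ∀ (x y : Pt k A) d, (pair x y).ofConv (δ₀ d) = (x⁻¹ * y).ofConv (d : A) := fun x y d => by
    rw [mul_ofConv]
    simp only [δ₀, AlgHom.coe_comp, Function.comp_apply, Bialgebra.comulAlgHom_apply, Subalgebra.coe_val]
    generalize CoalgebraStruct.comul (R := k) (d : A) = t
    induction t using TensorProduct.induction_on with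
    | zero => simp
    | add p q hp hq => simp only [map_add, hp, hq]
    | tmul p q =>
      rw [Algebra.TensorProduct.map_tmul, pair_tmul, pair_tmul]
      rfl
  let inc : A ⊗[k] ↥(invAlg S) →ₐ[k] A ⊗[k] A := Algebra.TensorProduct.map (AlgHom.id k A) (invAlg S).val
  have hinc : Function.Injective inc :=
    Module.Flat.lTensor_preserves_injective_linearMap (M := A) (invAlg S).val.toLinearMap Subtype.val_injective
  have hrange : ∀ d, δ₀ d ∈ inc.range := fun d => by
    let b := Module.Free.chooseBasis k A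
    obtain ⟨c, hc0⟩ := TensorProduct.eq_repr_basis_left b (δ₀ d)
    have hc : ∀ i, c i ∈ invAlg S := fun i y h hh => by
      have e1 : ∀ (y : Pt k A) (x : Pt k A), (pair x y).ofConv (δ₀ d) =
          x.ofConv (c.sum fun i a => y.ofConv a • b i) := fun y x => by
        rw [← hc0]
        simp [Finsupp.sum, map_sum, mul_comm]
      have e2 : (c.sum fun i a => (y * h).ofConv a • b i) = c.sum fun i a => y.ofConv a • b i :=
        ext_pts (k := k) fun x => by
          rw [← e1, ← e1, hδ₀, hδ₀, ← mul_assoc]
          exact d.2 _ h hh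
      have e := congrArg (fun r => b.repr r i) e2
      by_cases hi : i ∈ c.support
      · simpa [Finsupp.sum, map_sum, Finsupp.single_apply, hi] using e
      · simp [Finsupp.notMem_support_iff.1 hi]
    refine ⟨c.sum fun i _ => b i ⊗ₜ (⟨c i, hc i⟩ : ↥(invAlg S)), ?_⟩
    rw [← hc0]
    simp only [AlgHom.toRingHom_eq_coe, RingHom.coe_coe, Finsupp.sum, map_sum]
    rfl
  refine ⟨(AlgEquiv.ofInjective inc hinc).symm.toAlgHom.comp (δ₀.codRestrict inc.range hrange), fun x d => ?_⟩
  have e : inc ((AlgEquiv.ofInjective inc hinc).symm (δ₀.codRestrict inc.range hrange d)) = δ₀ d :=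
    congrArg Subtype.val ((AlgEquiv.ofInjective inc hinc).apply_symm_apply (δ₀.codRestrict inc.range hrange d))
  refine ext_pts (k := k) fun y => ?_
  have e3 : ∀ t : A ⊗[k] ↥(invAlg S),
      y.ofConv ((evR x t : ↥(invAlg S)) : A) = (pair x y).ofConv (inc t) := fun t => by
    induction t using TensorProduct.induction_on with
    | zero => simp
    | add p q hp hq => simp only [map_add, Subalgebra.coe_add, hp, hq]
    | tmul p q => simp [inc]
  rw [eval_lT, ← hδ₀, ← e]
  exact e3 _

section Group

variable {G : Over (Spec (CommRingCat.of k))} [GrpObj G] (v : sp k A ≅ G) [IsMonHom v.hom]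

/-- **The transfer principle**: invariants of a Grosshans subgroup on algebras are finitely generated. -/
theorem fg_fixed_of_fg_invAlg (hG : VecGrp.IsReductiveGrp k G) (thmA : VecGrp.ReductiveInvariantsFG k)
    (hfg : (invAlg S).FG) [Algebra.FiniteType k R] (m : VecGrp.GMod G R) (hm : m.IsMult) :
    ∃ T : Subalgebra k R, T.FG ∧ ∀ a, a ∈ T ↔ ∀ g ∈ S, (toRep v m).ρ g a = a := by
  classical
  haveI hD : Algebra.FiniteType k ↥(invAlg S) := ⟨(Subalgebra.fg_top _).2 hfg⟩
  obtain ⟨δD, hδD⟩ := exists_invLeft S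
  let δR := uvalAlg v m hm
  let δ : ↥(invAlg S) ⊗[k] R →ₐ[k] A ⊗[k] (↥(invAlg S) ⊗[k] R) := Algebra.TensorProduct.lift
    ((Algebra.TensorProduct.map (AlgHom.id k A) Algebra.TensorProduct.includeLeft).comp δD)
    ((Algebra.TensorProduct.map (AlgHom.id k A) Algebra.TensorProduct.includeRight).comp δR)
    fun _ _ => @Commute.all (A ⊗[k] (↥(invAlg S) ⊗[k] R)) _ _ _
  have hδ : ∀ x (d : ↥(invAlg S)) (r : R), evR x (δ (d ⊗ₜ r)) = evR x (δD d) ⊗ₜ (toRep v m).ρ x r := fun x d r => by
    rw [show δ (d ⊗ₜ r) = _ * _ from Algebra.TensorProduct.lift_tmul _ _ _ _ _, map_mul, ← evR_uvalAlg v m hm]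
    have e1 : ∀ t : A ⊗[k] ↥(invAlg S), evR x (Algebra.TensorProduct.map (AlgHom.id k A)
        (Algebra.TensorProduct.includeLeft : ↥(invAlg S) →ₐ[k] ↥(invAlg S) ⊗[k] R) t) = evR x t ⊗ₜ (1 : R) := fun t => by
      induction t using TensorProduct.induction_on with
      | zero => simp
      | add p q hp hq => simp only [map_add, TensorProduct.add_tmul, hp, hq]
      | tmul p q => simp [TensorProduct.smul_tmul']
    have e2 : ∀ t : A ⊗[k] R, evR x (Algebra.TensorProduct.map (AlgHom.id k A)
        (Algebra.TensorProduct.includeRight : R →ₐ[k] ↥(invAlg S) ⊗[k] R) t) = (1 : ↥(invAlg S)) ⊗ₜ evR x t := fun t => by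
      induction t using TensorProduct.induction_on with
      | zero => simp
      | add p q hp hq => simp only [map_add, TensorProduct.tmul_add, hp, hq]
      | tmul p q => simp
    simp only [AlgHom.coe_comp, Function.comp_apply]
    rw [e1, e2, Algebra.TensorProduct.tmul_mul_tmul, _root_.mul_one, _root_.one_mul]
  have hD1 : ∀ d : ↥(invAlg S), evR 1 (δD d) = d := fun d => Subtype.ext (by
    rw [hδD, inv_one, lT_one]; rfl)
  have hDm : ∀ x y (d : ↥(invAlg S)), evR (x * y) (δD d) = evR x (δD (evR y (δD d))) := fun x y d => Subtype.ext (by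
    rw [hδD, hδD, hδD, _root_.mul_inv_rev, lT_mul]
    rfl)
  obtain ⟨M, hM, hρ⟩ := exists_algMod v δ (fun t => by
      induction t using TensorProduct.induction_on with
      | zero => simp
      | add p q hp hq => simp only [map_add, hp, hq]
      | tmul d r => rw [hδ, hD1, (toRep v m).map_one]; rfl)
    (fun x y t => by
      induction t using TensorProduct.induction_on with
      | zero => simp
      | add p q hp hq => simp only [map_add, hp, hq]
      | tmul d r => rw [hδ, hδ, hδ, hDm, (toRep v m).mul_apply trivial trivial])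
  have hid : v.hom ≫ 𝟙 G = gpt v (AlgHom.id k A) := by
    rw [gpt, Category.comp_id, show pt (AlgHom.id k A) = 𝟙 _ from ?_]
    · exact (Category.id_comp _).symm
    refine Over.OverMorphism.ext ?_
    show Spec.map (CommRingCat.ofHom (AlgHom.id k A).toRingHom) = 𝟙 _
    exact Spec.map_id _
  have hP : ∀ t, t ∈ M.fixedUnder (𝟙 G) ↔ ∀ x, evR x (δ t) = t := fun t => by
    rw [fixedUnder_iff v v hid]
    exact forall_congr' fun y => by rw [hρ]; rfl
  -- evaluation of a translate
  have key : ∀ x y (t : ↥(invAlg S) ⊗[k] R), evR y (invTensor S R (evR x (δ t))) =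
      (toRep v m).ρ x (evR (x⁻¹ * y) (invTensor S R t)) := fun x y t => by
    induction t using TensorProduct.induction_on with
    | zero => simp
    | add p q hp hq => simp only [map_add, hp, hq]
    | tmul d r =>
      rw [hδ, evR_invTensor, evR_invTensor, map_smul]
      congr 1
      exact (congrArg y.ofConv (hδD x d)).trans (eval_lT _ _ _)
  haveI := finiteType_tensor (k := k) (R := ↥(invAlg S)) (R' := R)
  obtain ⟨s, hs, hgen⟩ := thmA G hG (↥(invAlg S) ⊗[k] R) M hM inferInstance
  let Φ : ↥(invAlg S) ⊗[k] R →ₐ[k] R := (evR 1).comp (invTensor S R)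
  refine ⟨Algebra.adjoin k (Φ '' (↑s : Set (↥(invAlg S) ⊗[k] R))), ⟨s.image Φ, by rw [Finset.coe_image]⟩, fun a => ⟨?_, ?_⟩⟩
  · intro ha g hg
    rw [← AlgHom.map_adjoin] at ha
    obtain ⟨t, ht, rfl⟩ := ha
    have ht' : ∀ x, evR x (δ t) = t := by
      intro x
      induction ht using Algebra.adjoin_induction with
      | mem z hz => exact (hP z).1 (hs hz) x
      | algebraMap c => rw [AlgHom.commutes, AlgHom.commutes]
      | add p q _ _ hp hq => rw [map_add, map_add, hp, hq]
      | mul p q _ _ hp hq => rw [map_mul, map_mul, hp, hq]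
    show (toRep v m).ρ g (evR 1 (invTensor S R t)) = evR 1 (invTensor S R t)
    have e := evR_invTensor_inv t 1 (S.inv_mem hg)
    rw [_root_.one_mul] at e
    conv_lhs => rw [← e]
    conv_rhs => rw [← ht' g]
    rw [key, _root_.mul_one]
  · intro ha
    obtain ⟨t, ht⟩ := exists_invTensor (S := S) (z := δR a) fun x h hh => by
      rw [evR_uvalAlg, evR_uvalAlg, (toRep v m).mul_apply trivial trivial, ha h hh]
    have hΦ : Φ t = a := by
      show evR 1 (invTensor S R t) = a
      rw [ht, evR_uvalAlg, (toRep v m).map_one]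
      rfl
    rw [← AlgHom.map_adjoin, ← hΦ]
    refine ⟨t, hgen ((hP t).2 fun x => invTensor_injective (evR_ext fun y => ?_)), rfl⟩
    rw [key, ht, evR_uvalAlg, evR_uvalAlg, ← (toRep v m).mul_apply trivial trivial, mul_inv_cancel_left]

variable {B : Type u} [CommRing B] [HopfAlgebra k B] [Algebra.FiniteType k B] [_root_.IsReduced B]
  {H : Over (Spec (CommRingCat.of k))} [GrpObj H] (w : sp k B ≅ H) [IsMonHom w.hom]
  {i : H ⟶ G} [IsMonHom i] {π : A →ₐ[k] B} (hπ : w.hom ≫ i = gpt v π)
include hπ

/-- The transfer principle for fixed subalgebras. -/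
theorem finiteType_fixedSubalgebra (hG : VecGrp.IsReductiveGrp k G) (thmA : VecGrp.ReductiveInvariantsFG k)
    (hfg : (invAlg (ptsSub v i)).FG) [Algebra.FiniteType k R] (m : VecGrp.GMod G R) (hm : m.IsMult) :
    Algebra.FiniteType k ↥(m.fixedSubalgebra hm i) := by
  obtain ⟨T, hT, hTm⟩ := fg_fixed_of_fg_invAlg v hG thmA hfg m hm
  suffices e : m.fixedSubalgebra hm i = T by
    rw [e]; exact ⟨(Subalgebra.fg_top _).2 hT⟩
  ext a
  rw [hTm]
  refine (fixedUnder_iff v w hπ m a).trans ⟨fun h g hg => ?_, fun h y => h _ (pull_mem v w hπ y)⟩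
  obtain ⟨y, rfl⟩ := (mem_sub_iff v w hπ).1 hg
  exact h y

/-- Finite generation on translations gives back the Grosshans property. -/
theorem fg_invAlg_of_forall (h : ∀ (m : VecGrp.GMod G A) (hm : m.IsMult),
    Algebra.FiniteType k ↥(m.fixedSubalgebra hm i)) : (invAlg (ptsSub v i)).FG := by
  obtain ⟨m, hm, hρ⟩ := exists_rTMod v
  have e : m.fixedSubalgebra hm i = invAlg (ptsSub v i) := by
    ext a
    refine (fixedUnder_iff v w hπ m a).trans ⟨fun h' x g hg => ?_, fun ha y => ?_⟩
    · obtain ⟨y, rfl⟩ := (mem_sub_iff v w hπ).1 hg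
      rw [← eval_rT, ← hρ, h']
    · rw [hρ]
      exact ext_pts (k := k) fun x => by rw [eval_rT]; exact ha x _ (pull_mem v w hπ y)
  have h1 := h m hm
  rw [e] at h1
  exact (Subalgebra.fg_top _).1 h1.out

/-- The translation action of a subgroup on the functions of the group. -/
theorem exists_actMod [IsAffine G.left] : ∃ m : VecGrp.GMod H A, m.IsMult ∧ ∀ y u, (toRep w m).ρ y u = rT (pull π y) u := by
  let δ : A →ₐ[k] B ⊗[k] A := (Algebra.TensorProduct.comm k A B).toAlgHom.comp
    ((Algebra.TensorProduct.map (AlgHom.id k A) π).comp (Bialgebra.comulAlgHom k A))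
  have hδ : ∀ (y : Pt k B) (u : A), evR y (δ u) = rT (pull π y) u := fun y u => by
    refine ext_pts (k := k) fun x => ?_
    rw [eval_rT, mul_ofConv]
    simp only [δ, AlgHom.coe_comp, Function.comp_apply, Bialgebra.comulAlgHom_apply]
    generalize CoalgebraStruct.comul (R := k) u = t
    induction t using TensorProduct.induction_on with
    | zero => simp
    | add p q hp hq => simp only [map_add, hp, hq]
    | tmul p q => simp [mul_comm]
  obtain ⟨m, hm, hρ⟩ := exists_algMod w δ
    (fun u => by rw [hδ, show pull π (1 : Pt k B) = 1 from (subHom v w hπ).map_one, rT_one]; rfl)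
    (fun y y' u => by rw [hδ, hδ, hδ, pull_mul v w hπ, rT_mul]; rfl)
  exact ⟨m, hm, fun y u => by rw [hρ, hδ]⟩

end Group

end Groth.Agent.ObsLib

end
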