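import Groth.Agent.ObsLib.UFixFG
import Groth.Agent.ObsLib.TorGen
import Groth.Agent.ObsLib.UFixed
import Groth.Agent.ObsLib.Groups
import Groth.Agent.CohenLib.RegularField
import Groth.Agent.NormalLib.Regular
import Mathlib.RingTheory.LocalProperties.IntegrallyClosed

/-!
# The unipotent radical of a Borel subgroup has finitely generated invariants
-/

set_option autoImplicit false
set_option linter.style.haveILetI false
set_option linter.unusedSectionVars false
set_option backward.isDefEq.respectTransparency false
set_option backward.isDefEq.respectTransparency.types false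
set_option maxHeartbeats 2000000
set_option synthInstance.maxHeartbeats 400000

noncomputable section

universe u

open CategoryTheory MonoidalCategory CartesianMonoidalCategory AlgebraicGeometry WithConv
open scoped MonObj TensorProduct
open CoactBr (sp pt)

namespace Groth.Agent.ObsLib

open BorelLib BlowRegLib

attribute [-instance] CategoryTheory.Hom.commGroup
attribute [local instance] pTop pTopTensor

/-- A smooth domain over a field is integrally closed. -/
theorem isIntegrallyClosed_of_smooth (k C : Type u) [Field k] [CommRing C] [IsDomain C] [Algebra k C]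
    [Algebra.Smooth k C] : IsIntegrallyClosed C := by
  haveI : IsRegularRing C := CohenLib.isRegularRing_of_smooth k C
  refine IsIntegrallyClosed.of_localization_maximal fun p _ hp => ?_
  haveI := hp.isPrime
  haveI : IsRegularLocalRing (Localization.AtPrime p) := IsRegularRing.isRegularLocalRing_localization p
  exact NormalLib.isIntegrallyClosed_of_isRegularLocalRing _

variable {k : Type u} [Field k] [IsAlgClosed k]

/-- The coordinate ring of a smooth group scheme is smooth. -/
theorem smooth_coord {C : Type u} [CommRing C] [HopfAlgebra k C] {H : Over (Spec (CommRingCat.of k))}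
    (w : sp k C ≅ H) [Smooth H.hom] : Algebra.Smooth k C := by
  haveI : IsIso w.hom.left := (Over.forget _).map_isIso w.hom
  have h2 : Smooth (Spec.map (CommRingCat.ofHom (algebraMap k C))) := by
    rw [show Spec.map (CommRingCat.ofHom (algebraMap k C)) = w.hom.left ≫ H.hom from (Over.w w.hom).symm]
    infer_instance
  exact RingHom.smooth_algebraMap.1 ((HasRingHomProperty.Spec_iff (P := @Smooth)).1 h2)

/-- A connected reduced group has a domain as coordinate ring. -/
theorem isDomain_of_connected {C : Type u} [CommRing C] [HopfAlgebra k C] [Algebra.FiniteType k C]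
    [_root_.IsReduced C] (hconn : _root_.IsPreconnected (Set.univ : Set (Pt k C))) : IsDomain C := by
  have h := isIrreducible_of_connected (K := (⊤ : Subgroup (Pt k C))) (by simp) (by simpa using hconn)
  have hp : (vanish (k := k) (Set.univ : Set (Pt k C))).IsPrime := isPrime_vanish (by simpa using h)
  have hbot : vanish (k := k) (Set.univ : Set (Pt k C)) = ⊥ :=
    le_bot_iff.1 fun a ha => eq_zero_of_forall (k := k) fun x => ha x trivial
  haveI : (⊥ : Ideal C).IsPrime := by rw [← hbot]; exact hp
  exact IsDomain.of_bot_isPrime _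

variable {A : Type u} [CommRing A] [HopfAlgebra k A] [Algebra.FiniteType k A] [_root_.IsReduced A]
  {G : Over (Spec (CommRingCat.of k))} [GrpObj G] [IsAffine G.left] [Smooth G.hom] (v : sp k A ≅ G) [IsMonHom v.hom]

/-- **Functions invariant under the unipotent radical of a Borel subgroup form a finitely generated algebra.** -/
theorem fg_invAlg_uniRad {Bo : Over (Spec (CommRingCat.of k))} [GrpObj Bo] {iB : Bo ⟶ G} [IsMonHom iB]
    (hB : Red.IsBorelOver k iB) {U : Over (Spec (CommRingCat.of k))} [GrpObj U] {u : U ⟶ Bo}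
    (hU : Par.IsUnipotentRadical u) [IsMonHom (u ≫ iB)] : (invAlg (ptsSub v (u ≫ iB))).FG := by
  classical
  obtain ⟨-, hBc, hBsm, hBconn, -, -⟩ := id hB
  haveI := hBc; haveI := hBsm; haveI := hBconn
  haveI : QuasiCompact G.hom := inferInstance
  have hBor := isBor_ptsSub v hB
  obtain ⟨S, hSB, hS, hnorm, hgen⟩ := exists_torus_gen v hB hU
  set B := ptsSub v iB
  set N := ptsSub v (u ≫ iB)
  have hNB : N ≤ B := ptsSub_le_of_factor v rfl
  -- the identity component
  set K : Subgroup (Pt k A) := neut ⊤
  have hKc : IsClosed (K : Set (Pt k A)) := isClosed_neut (by rw [Subgroup.coe_top]; exact isClosed_univ)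
  obtain ⟨G₀, _, i₀, hi₀, hi₀c, hG₀, hpts, -, -⟩ := exists_scheme_sub v hKc
  haveI := hi₀; haveI := hi₀c; haveI := hG₀
  obtain ⟨C, _, _, w, hw, π, hGa, hC, hC', hπ, hsur⟩ := exists_sub_data v i₀
  haveI := hw; haveI := hGa; haveI := hC; haveI := hC'
  let f := subHom v w hπ
  have hrange : f.range = K := (range_subHom v w hπ).trans hpts
  have hind : Topology.IsInducing f := isInducing_subHom v w hπ hsur
  have hinj : Function.Injective f := pull_injective_of_surjective hsur
  have hconn : _root_.IsPreconnected (Set.univ : Set (Pt k C)) :=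
    isPreconnected_univ_frame hind (hrange.symm ▸ isPreconnected_neut _)
  haveI : IsDomain C := isDomain_of_connected hconn
  haveI : Algebra.Smooth k C := smooth_coord w
  haveI : IsIntegrallyClosed C := isIntegrallyClosed_of_smooth k C
  obtain ⟨F, -, hF⟩ := exists_neut_cosets (P := (⊤ : Subgroup (Pt k A))) (by rw [Subgroup.coe_top]; exact isClosed_univ)
  have hfin : FinIdx f.range ⊤ := ⟨F, fun r _ => trivial, fun g hg => by
    obtain ⟨r, hr, hrg⟩ := hF g hg
    exact ⟨r, hr, hrange.symm ▸ hrg⟩⟩
  have ho : IsOpen (f.range : Set (Pt k A)) := by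
    rw [hrange, ← isClosed_compl_iff]
    have e : (K : Set (Pt k A))ᶜ = ⋃ r ∈ F.filter (fun r => r ∉ K), (fun x => r⁻¹ * x) ⁻¹' (K : Set (Pt k A)) := by
      ext g
      simp only [Set.mem_compl_iff, SetLike.mem_coe, Set.mem_iUnion, Finset.mem_filter, Set.mem_preimage]
      constructor
      · intro hg
        obtain ⟨r, hr, hrg⟩ := hF g trivial
        exact ⟨r, ⟨hr, fun hrK => hg (by simpa using K.mul_mem hrK hrg)⟩, hrg⟩
      · rintro ⟨r, ⟨-, hrK⟩, hrg⟩ hg
        exact hrK (by simpa [mul_assoc] using K.mul_mem hg (K.inv_mem hrg))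
    rw [e]
    exact (Finset.finite_toSet _).isClosed_biUnion fun r _ => hKc.preimage (BorelLib.continuous_const_mul r⁻¹)
  have hBK : B ≤ K := le_neut hBor.conn le_top
  refine (fg_invAlg_open (N := N) hsur f (fun _ => rfl) ho (hrange.symm ▸ hKc) hfin
    (hrange.symm ▸ hNB.trans hBK)).2 ?_
  have hBK' : IsBor K B := ⟨hBK, hBor.closed, hBor.conn, hBor.sol,
    fun H _ hHc hH hHs hle => hBor.maximal H le_top hHc hH hHs hle⟩
  refine fg_invAlg_uni (hBK'.comap hind hinj hrange hKc) (Subgroup.comap_mono hNB)
    (IsTor.comap hind hinj hS (hrange.symm ▸ hSB.trans hBK)) (Subgroup.comap_mono hSB) (fun s hs x hx => ?_) ?_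
  · show f (s * x * s⁻¹) ∈ N
    rw [map_mul, map_mul, map_inv]
    exact hnorm _ hs _ hx
  intro M hM hSM hUM x hx
  have hmap := hgen (M.map f) (isClosed_map_frame hind (hrange.symm ▸ hKc) hM) (fun y hy => by
    obtain ⟨z, rfl⟩ := (hrange.symm ▸ hBK (hSB hy) : y ∈ f.range)
    exact ⟨z, hSM hy, rfl⟩) (fun y hy => by
    obtain ⟨z, rfl⟩ := (hrange.symm ▸ hBK (hNB hy) : y ∈ f.range)
    exact ⟨z, hUM hy, rfl⟩) hx
  obtain ⟨z, hz, hzx⟩ := hmap
  rwa [hinj hzx] at hz

end Groth.Agent.ObsLib

end
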