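import Groth.Agent.ObsLib.DiagQuot
import Groth.Agent.ObsLib.Height
import Groth.Agent.ObsLib.InvFG

/-!
# Products of weight spaces of functions on a reductive group
-/

set_option autoImplicit false
set_option linter.style.haveILetI false
set_option linter.unusedSectionVars false
set_option backward.isDefEq.respectTransparency false
set_option backward.isDefEq.respectTransparency.types false
set_option maxHeartbeats 2000000
set_option synthInstance.maxHeartbeats 400000

noncomputable section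

universe u

open WithConv
open scoped TensorProduct

namespace Groth.Agent.ObsLib

open BorelLib

attribute [local instance] pTop pTopTensor

variable {k : Type u} [Field k] [IsAlgClosed k] {A : Type u} [CommRing A] [HopfAlgebra k A] [Algebra.FiniteType k A]
  [_root_.IsReduced A]

lemma isClosed_point (t : Pt k A) : IsClosed ({t} : Set (Pt k A)) := by
  have e : ({t} : Set (Pt k A)) = ⋂ a, {x : Pt k A | x.ofConv a = t.ofConv a} := by
    ext x
    simp only [Set.mem_singleton_iff, Set.mem_iInter, Set.mem_setOf_eq]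
    exact ⟨fun h a => by rw [h], fun h => WithConv.ext (AlgHom.ext h)⟩
  rw [e]
  exact isClosed_iInter fun a => (IsReg.eval a).isClosed_eq (IsReg.const _)

/-- A double coset with a non-empty open part whose representative carries a given maximal torus into the Borel subgroup. -/
theorem exists_cell_torus [IsDomain A] (hred : IsRedPts k A) {B T : Subgroup (Pt k A)} (hB : IsBor ⊤ B)
    (hT : IsMaxTor B T) :
    ∃ (d : Pt k A) (O : Set (Pt k A)), IsOpen O ∧ O.Nonempty ∧ (∀ t ∈ T, d⁻¹ * t * d ∈ B) ∧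
      ∀ x ∈ O, ∃ b ∈ B, ∃ b' ∈ B, x = b * d * b' := by
  obtain ⟨D⟩ := exists_heightData hred hB
  have hKc : IsClosed ((⊤ : Subgroup (Pt k A)) : Set (Pt k A)) := by rw [Subgroup.coe_top]; exact isClosed_univ
  have hK : IsPreconnected ((⊤ : Subgroup (Pt k A)) : Set (Pt k A)) := by
    rw [Subgroup.coe_top]
    exact (isIrreducible_univ (k := k) (R := A)).isConnected.isPreconnected
  have hS : IsMaxTor B D.S := ⟨D.le, D.tor, fun T' hT'B hT' hle => le_antisymm (fun t ht => by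
    obtain ⟨p, hp, hlim, -⟩ := D.limit t (hT'B ht)
    have h : p ∈ ({t} : Set (Pt k A)) := hlim.mem (isClosed_point t) fun z => by
      rw [Set.mem_singleton_iff, hT'.comm _ (hle (D.mem z)) _ ht, DynLib.lamAt_inv, mul_inv_cancel_right]
    rwa [← Set.mem_singleton_iff.1 h]) hle⟩
  obtain ⟨g, -, hg⟩ := hB.exists_conj hKc hK D.bor
  have hgS : conjSub g⁻¹ D.S ≤ B := by
    have := conjSub_mono (a := g⁻¹) D.leNeg
    rwa [← hg, conjSub_conjSub, inv_mul_cancel, conjSub_one] at this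
  obtain ⟨h', hh', hle'⟩ := hT.exists_conj_le hB.closed hB.conn hgS (D.tor.conjSub g⁻¹)
  obtain ⟨h, -, hh⟩ := hS.exists_conj hB.closed hB.conn hT
  rw [conjSub_conjSub] at hle'
  have e : conjSub (h' * g⁻¹) D.S = T := by
    have h1 : conjSub (h⁻¹ * (h' * g⁻¹)) D.S ≤ D.S := by
      have := conjSub_mono (a := h⁻¹) hle'
      rw [conjSub_conjSub, ← hh, conjSub_conjSub, inv_mul_cancel, conjSub_one] at this
      exact this
    have h2 := conjSub_eq_of_le D.tor.closed h1
    calc conjSub (h' * g⁻¹) D.S = conjSub h (conjSub (h⁻¹ * (h' * g⁻¹)) D.S) := by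
          rw [conjSub_conjSub, mul_inv_cancel_left]
      _ = conjSub h D.S := by rw [h2]
      _ = T := hh
  obtain ⟨O, hO, ⟨x₀, hx₀⟩, hcell⟩ := D.cell
  refine ⟨h' * g⁻¹, (fun x => g * x) ⁻¹' O, hO.preimage (continuous_const_mul g), ⟨g⁻¹ * x₀, by simpa using hx₀⟩,
    fun t ht => ?_, fun x hx => ?_⟩
  · rw [← e] at ht
    obtain ⟨s, hs, rfl⟩ := ht
    simpa [mul_assoc] using D.le hs
  · obtain ⟨b, hb, c, hc, hbc⟩ := hcell (g * x) hx
    rw [← hg] at hb
    obtain ⟨b₁, hb₁, rfl⟩ := hb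
    refine ⟨b₁ * h'⁻¹, B.mul_mem hb₁ (B.inv_mem hh'), c, hc, ?_⟩
    rw [show x = g⁻¹ * (g * x) by rw [inv_mul_cancel_left], hbc]
    simp [mul_assoc]

/-- A function invariant on both sides under the unipotent part with torus-stable zero set is determined at one point. -/
theorem eq_zero_of_cell [IsDomain A] {B N S : Subgroup (Pt k A)} (hn : ∀ s ∈ S, ∀ u ∈ N, s * u * s⁻¹ ∈ N)
    (hgen : ∀ M : Subgroup (Pt k A), IsClosed (M : Set (Pt k A)) → S ≤ M → N ≤ M → B ≤ M)
    {d : Pt k A} {O : Set (Pt k A)} (hO : IsOpen O) (hOne : O.Nonempty) (hd : ∀ t ∈ S, d⁻¹ * t * d ∈ B)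
    (hcell : ∀ x ∈ O, ∃ b ∈ B, ∃ b' ∈ B, x = b * d * b')
    {a : A} (hl : ∀ u ∈ N, ∀ x : Pt k A, (u * x).ofConv a = x.ofConv a) (hr : Inv N a)
    (hz : ∀ s ∈ S, ∀ x : Pt k A, x.ofConv a = 0 → (x * s).ofConv a = 0) (h0 : d.ofConv a = 0) : a = 0 := by
  let Z : Set (Pt k A) := {x | x.ofConv a = 0}
  have hZc : IsClosed Z := (IsReg.eval a).isClosed_eq (IsReg.const 0)
  -- the right stabiliser of the zero set
  let Mr : Subgroup (Pt k A) :=
    { carrier := {g | ∀ x ∈ Z, x * g ∈ Z ∧ x * g⁻¹ ∈ Z}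
      one_mem' := fun x hx => by simpa using hx
      mul_mem' := fun {g g'} hg hg' x hx => ⟨by rw [← mul_assoc]; exact (hg' _ (hg x hx).1).1,
        by rw [mul_inv_rev, ← mul_assoc]; exact (hg _ (hg' x hx).2).2⟩
      inv_mem' := fun {g} hg x hx => by rw [inv_inv]; exact (hg x hx).symm }
  have hMrc : IsClosed (Mr : Set (Pt k A)) := by
    have e : (Mr : Set (Pt k A)) = ⋂ x ∈ Z, ((fun g => x * g) ⁻¹' Z ∩ (fun g => x * g⁻¹) ⁻¹' Z) := by
      ext g
      simp only [Set.mem_iInter, Set.mem_inter_iff, Set.mem_preimage]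
      rfl
    rw [e]
    exact isClosed_biInter fun x _ =>
      (hZc.preimage (continuous_const_mul x)).inter (hZc.preimage ((IsMor.const x).mul IsMor.id.inv).continuous)
  have hBr : B ≤ Mr := hgen Mr hMrc (fun s hs x hx => ⟨hz s hs x hx, hz _ (S.inv_mem hs) x hx⟩) fun u hu x hx =>
    ⟨(hr x u hu).trans hx, (hr x _ (N.inv_mem hu)).trans hx⟩
  -- the left stabiliser
  let Z' : Set (Pt k A) := {x | ∀ t ∈ S, t * x ∈ Z}
  have hZ'c : IsClosed Z' := by
    have e : Z' = ⋂ t ∈ S, (fun x => t * x) ⁻¹' Z := by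
      ext x
      simp only [Set.mem_iInter, Set.mem_preimage]
      rfl
    rw [e]
    exact isClosed_biInter fun t _ => hZc.preimage (continuous_const_mul t)
  let Ml : Subgroup (Pt k A) :=
    { carrier := {g | ∀ x ∈ Z', g * x ∈ Z' ∧ g⁻¹ * x ∈ Z'}
      one_mem' := fun x hx => by simpa using hx
      mul_mem' := fun {g g'} hg hg' x hx => ⟨by rw [mul_assoc]; exact (hg _ (hg' x hx).1).1,
        by rw [mul_inv_rev, mul_assoc]; exact (hg' _ (hg x hx).2).2⟩
      inv_mem' := fun {g} hg x hx => by rw [inv_inv]; exact (hg x hx).symm }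
  have hMlc : IsClosed (Ml : Set (Pt k A)) := by
    have e : (Ml : Set (Pt k A)) = ⋂ x ∈ Z', ((fun g => g * x) ⁻¹' Z' ∩ (fun g => g⁻¹ * x) ⁻¹' Z') := by
      ext g
      simp only [Set.mem_iInter, Set.mem_inter_iff, Set.mem_preimage]
      rfl
    rw [e]
    exact isClosed_biInter fun x _ =>
      (hZ'c.preimage (continuous_mul_const x)).inter (hZ'c.preimage (IsMor.id.inv.mul (IsMor.const x)).continuous)
  have hSZ : ∀ s ∈ S, ∀ x ∈ Z', s * x ∈ Z' := fun s hs x hx t ht => by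
    rw [← mul_assoc]; exact hx _ (S.mul_mem ht hs)
  have hNZ : ∀ u ∈ N, ∀ x ∈ Z', u * x ∈ Z' := fun u hu x hx t ht => by
    show (t * (u * x)).ofConv a = 0
    rw [show t * (u * x) = (t * u * t⁻¹) * (t * x) by group, hl _ (hn t ht u hu)]
    exact hx t ht
  have hBl : B ≤ Ml := hgen Ml hMlc (fun s hs x hx => ⟨hSZ s hs x hx, hSZ _ (S.inv_mem hs) x hx⟩)
    fun u hu x hx => ⟨hNZ u hu x hx, hNZ _ (N.inv_mem hu) x hx⟩
  have hd' : d ∈ Z' := fun t ht => by
    rw [show t * d = d * (d⁻¹ * t * d) by group]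
    exact (hBr (hd t ht) d h0).1
  refine ext_pts (k := k) fun x => ?_
  rw [map_zero]
  by_contra hne
  obtain ⟨y, -, hy1, hy2⟩ := (isIrreducible_univ (k := k) (R := A)).2 O {g | g.ofConv a ≠ 0} hO (BorelLib.isOpen_ne _)
    (by simpa using hOne) ⟨x, trivial, hne⟩
  obtain ⟨b, hb, b', hb', rfl⟩ := hcell y hy1
  have h1 := (hBl hb d hd').1 1 S.one_mem
  rw [one_mul] at h1
  exact hy2 (hBr hb' _ h1).1

section Weights

variable (N : Subgroup (Pt k A)) {ι : Type u} (s : ι → Pt k A) (χ : ι → k)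

/-- Functions invariant under a subgroup and semi-invariant along given points. -/
def wt : Submodule k A where
  carrier := {a | Inv N a ∧ ∀ i x, (x * s i).ofConv a = χ i * x.ofConv a}
  add_mem' {a b} ha hb := ⟨fun x h hh => by rw [map_add, map_add, ha.1 x h hh, hb.1 x h hh],
    fun i x => by rw [map_add, map_add, ha.2, hb.2, mul_add]⟩
  zero_mem' := ⟨fun x h _ => by rw [map_zero, map_zero], fun i x => by rw [map_zero, map_zero, mul_zero]⟩
  smul_mem' c a ha := ⟨fun x h hh => by rw [map_smul, map_smul, ha.1 x h hh],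
    fun i x => by rw [map_smul, map_smul, ha.2, smul_eq_mul, smul_eq_mul, mul_left_comm]⟩

variable {N s}

lemma mem_wt {a : A} : a ∈ wt N s χ ↔ Inv N a ∧ ∀ i x, (x * s i).ofConv a = χ i * x.ofConv a := Iff.rfl

variable {χ}

lemma lT_mem_wt {a : A} (ha : a ∈ wt N s χ) (g : Pt k A) : lT g a ∈ wt N s χ :=
  ⟨ha.1.lT g, fun i x => by rw [eval_lT, eval_lT, ← mul_assoc, ha.2]⟩

lemma mul_mem_wt {ψ : ι → k} {a b : A} (ha : a ∈ wt N s χ) (hb : b ∈ wt N s ψ) :
    a * b ∈ wt N s (fun i => χ i * ψ i) :=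
  ⟨fun x h hh => by rw [map_mul, map_mul, ha.1 x h hh, hb.1 x h hh],
    fun i x => by rw [map_mul, map_mul, ha.2, hb.2]; ring⟩

/-- **Products of non-zero weight spaces span**, given that stable subspaces containing the invariants are everything. -/
theorem wt_le_mul [IsDomain A] {B S : Subgroup (Pt k A)} {ψ φ : ι → k} (hS : IsTor S) (hs : ∀ i, s i ∈ S)
    (hsS : ∀ t ∈ S, ∃ i, s i = t)
    (hn : ∀ t ∈ S, ∀ u ∈ N, t * u * t⁻¹ ∈ N)
    (hgen : ∀ M : Subgroup (Pt k A), IsClosed (M : Set (Pt k A)) → S ≤ M → N ≤ M → B ≤ M)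
    {d : Pt k A} {O : Set (Pt k A)} (hO : IsOpen O) (hOne : O.Nonempty) (hd : ∀ t ∈ S, d⁻¹ * t * d ∈ B)
    (hcell : ∀ x ∈ O, ∃ b ∈ B, ∃ b' ∈ B, x = b * d * b')
    (hφ : ∀ i, φ i = χ i * ψ i) (hφ0 : ∀ i, φ i ≠ 0)
    (hstable : ∀ W : Submodule k A, (∀ a ∈ W, Inv N a) → (∀ g : Pt k A, ∀ a ∈ W, lT g a ∈ W) →
      (∀ a, Inv N a → (∀ u ∈ N, lT u a = a) → a ∈ W) → ∀ a, Inv N a → a ∈ W)
    {a₀ b₀ : A} (ha₀ : a₀ ∈ wt N s χ) (hb₀ : b₀ ∈ wt N s ψ) (ha0 : a₀ ≠ 0) (hb0 : b₀ ≠ 0)
    (hau : ∀ u ∈ N, lT u a₀ = a₀) (hbu : ∀ u ∈ N, lT u b₀ = b₀) :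
    wt N s φ ≤ Submodule.span k {c | ∃ a ∈ wt N s χ, ∃ b ∈ wt N s ψ, c = a * b} := by
  classical
  have hφe : φ = fun i => χ i * ψ i := funext hφ
  set P := Submodule.span k {c | ∃ a ∈ wt N s χ, ∃ b ∈ wt N s ψ, c = a * b}
  have hPV : P ≤ wt N s φ := Submodule.span_le.2 fun c hc => by
    obtain ⟨a, ha, b, hb, rfl⟩ := hc
    rw [hφe]
    exact mul_mem_wt ha hb
  have hlT_mul : ∀ (g : Pt k A) (a b : A), lT g (a * b) = lT g a * lT g b := fun g a b =>
    ext_pts (k := k) fun x => by rw [eval_lT, map_mul, map_mul, eval_lT, eval_lT]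
  have hPl : ∀ g : Pt k A, ∀ c ∈ P, lT g c ∈ P := fun g => by
    suffices h : P ≤ P.comap (lT g) from fun c hc => h hc
    refine Submodule.span_le.2 fun c hc => ?_
    obtain ⟨a, ha, b, hb, rfl⟩ := hc
    exact Submodule.subset_span ⟨_, lT_mem_wt ha g, _, lT_mem_wt hb g, hlT_mul g a b⟩
  let op : ι → Module.End k A := fun i => (φ i)⁻¹ • rT (s i)
  have hop : ∀ i a x, x.ofConv (op i a) = (φ i)⁻¹ * (x * s i).ofConv a := fun i a x => by
    simp [op, eval_rT]
  have hfix : ∀ a, a ∈ fixed op ↔ ∀ i x, (x * s i).ofConv a = φ i * x.ofConv a := fun a => by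
    rw [mem_fixed]
    refine forall_congr' fun i => ⟨fun h x => ?_, fun h => ext_pts (k := k) fun x => ?_⟩
    · conv_rhs => rw [← h, hop, mul_inv_cancel_left₀ (hφ0 i)]
    · rw [hop, h, inv_mul_cancel_left₀ (hφ0 i)]
  have hopinv : ∀ i a, Inv N a → Inv N (op i a) := fun i a ha x h hh => by
    rw [hop, hop, show x * h * s i = x * s i * ((s i)⁻¹ * h * (s i)⁻¹⁻¹) by group,
      ha _ _ (hn _ (S.inv_mem (hs i)) h hh)]
  have hcomm : ∀ i j x, op i (op j x) = op j (op i x) := fun i j x => ext_pts (k := k) fun y => by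
    simp only [hop]
    rw [mul_assoc y (s i) (s j), mul_assoc y (s j) (s i), hS.comm _ (hs i) _ (hs j), mul_left_comm]
  have hss : ∀ i x, op i (op i x - x) = op i x - x → op i x = x := by
    intro i x hx
    obtain ⟨W, hWf, hxW, hW⟩ := exists_stable (k := k) ({x} : Finset A)
    haveI := hWf
    obtain ⟨κ, _, b, μ, -, hb⟩ := hS.exists_weight_basis (funRep W hW)
    have hWop : ∀ w ∈ W, op i w ∈ W := fun w hw => W.smul_mem _ (hW _ w hw)
    let w : W := ⟨x, hxW (by simp)⟩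
    let o : W →ₗ[k] W := (op i).restrict hWop
    have hob : ∀ j, o (b j) = ((φ i)⁻¹ * μ j (s i)) • b j := fun j => by
      rw [mul_smul, ← hb j _ (hs i)]
      rfl
    have hcoord : ∀ (y : W) j, b.repr (o y) j = ((φ i)⁻¹ * μ j (s i)) * b.repr y j := fun y j => by
      have e : o y = ∑ l, (((φ i)⁻¹ * μ l (s i)) * b.repr y l) • b l := by
        conv_lhs => rw [← b.sum_repr y]
        rw [map_sum]
        exact Finset.sum_congr rfl fun l _ => by rw [map_smul, hob, smul_smul, mul_comm]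
      rw [e, b.repr_sum_self]
    suffices h : o w = w from congrArg Subtype.val h
    refine b.repr.injective (Finsupp.ext fun j => ?_)
    have h2 := congrArg (fun y => b.repr y j) (Subtype.ext hx : o (o w - w) = o w - w)
    simp only [hcoord, map_sub, Finsupp.sub_apply] at h2
    rw [hcoord]
    generalize (φ i)⁻¹ * μ j (s i) = c at h2 ⊢
    have h3 : ((c - 1) * (c - 1)) * b.repr w j = 0 := by linear_combination h2
    rcases mul_eq_zero.1 h3 with h4 | h4
    · rw [sub_eq_zero.1 (mul_self_eq_zero.1 h4), one_mul]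
    · rw [h4, mul_zero]
  let R₀ : Submodule k A := (invAlg N).toSubmodule
  have hfin : ∀ a, Inv N a → ∃ W : Submodule k A, FiniteDimensional k W ∧ W ≤ R₀ ∧ a ∈ W ∧
      ∀ i, ∀ w ∈ W, op i w ∈ W := fun a ha => by
    obtain ⟨W, hWf, haW, hW⟩ := exists_stable (k := k) ({a} : Finset A)
    haveI := hWf
    exact ⟨W ⊓ R₀, Submodule.finiteDimensional_inf_left W R₀, inf_le_right, ⟨haW (by simp), ha⟩,
      fun i w hw => ⟨W.smul_mem _ (hW _ w hw.1), hopinv i w hw.2⟩⟩
  set Mv := moved op R₀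
  have hMvR : ∀ x ∈ Mv, Inv N x := fun x hx => by
    refine (iSup_le fun i => ?_ : Mv ≤ R₀) hx
    rintro _ ⟨y, hy, rfl⟩
    exact sub_mem (show op i y ∈ R₀ from hopinv i y hy) hy
  have hdis : ∀ x ∈ Mv, x ∈ fixed op → x = 0 := fun x hx hfx => by
    have key : ∃ W : Submodule k A, FiniteDimensional k W ∧ (∀ i, ∀ w ∈ W, op i w ∈ W) ∧ x ∈ moved op W := by
      clear hfx
      refine Submodule.iSup_induction _ (motive := fun x => ∃ W : Submodule k A, FiniteDimensional k W ∧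
        (∀ i, ∀ w ∈ W, op i w ∈ W) ∧ x ∈ moved op W) hx ?_ ⟨⊥, inferInstance, fun i w hw => by simp_all, zero_mem _⟩ ?_
      · intro i y hy
        obtain ⟨z, hz, rfl⟩ := hy
        obtain ⟨W, hWf, -, hzW, hW⟩ := hfin z hz
        exact ⟨W, hWf, hW, Submodule.mem_iSup_of_mem i ⟨z, hzW, rfl⟩⟩
      · rintro y z ⟨W, hWf, hW, hy⟩ ⟨W', hWf', hW', hz⟩
        haveI := hWf; haveI := hWf'
        refine ⟨W ⊔ W', inferInstance, fun i w hw => ?_, add_mem ?_ ?_⟩
        · obtain ⟨p, hp, q, hq, rfl⟩ := Submodule.mem_sup.1 hw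
          rw [map_add]
          exact Submodule.add_mem_sup (hW i p hp) (hW' i q hq)
        · exact iSup_mono (fun i => Submodule.map_mono le_sup_left) hy
        · exact iSup_mono (fun i => Submodule.map_mono le_sup_right) hz
    obtain ⟨W, hWf, hW, hxW⟩ := key
    haveI := hWf
    exact (split_fixed hcomm hss W hW).2 x hxW hfx
  have hlTop : ∀ g i a, lT g (op i a) = op i (lT g a) := fun g i a => ext_pts (k := k) fun x => by
    rw [eval_lT, hop, hop, eval_lT, mul_assoc]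
  have hMvl : ∀ g : Pt k A, ∀ x ∈ Mv, lT g x ∈ Mv := fun g => by
    suffices h : Mv ≤ Mv.comap (lT g) from fun x hx => h hx
    refine iSup_le fun i => ?_
    rintro _ ⟨y, hy, rfl⟩
    refine Submodule.mem_iSup_of_mem i ⟨lT g y, (hy : Inv N y).lT g, ?_⟩
    simp [hlTop]
  -- fixed vectors of the weight space
  have huniq : ∀ a ∈ wt N s φ, (∀ u ∈ N, lT u a = a) → a ∈ P := fun a ha hua => by
    have hzero : ∀ c ∈ wt N s φ, (∀ u ∈ N, lT u c = c) → d.ofConv c = 0 → c = 0 := fun c hc huc h0 =>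
      eq_zero_of_cell hn hgen hO hOne hd hcell (fun u hu x => by rw [← eval_lT, huc u hu]) hc.1
        (fun t ht x hx => by
          obtain ⟨i, rfl⟩ := hsS t ht
          rw [hc.2, hx, mul_zero]) h0
    set e := a₀ * b₀
    have he : e ∈ P := Submodule.subset_span ⟨a₀, ha₀, b₀, hb₀, rfl⟩
    have heu : ∀ u ∈ N, lT u e = e := fun u hu => by rw [hlT_mul, hau u hu, hbu u hu]
    have hed : d.ofConv e ≠ 0 := fun h => mul_ne_zero ha0 hb0 (hzero e (hPV he) heu h)
    set c := d.ofConv a / d.ofConv e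
    have h := hzero (a - c • e) (sub_mem ha (Submodule.smul_mem _ _ (hPV he)))
      (fun u hu => by rw [map_sub, map_smul, hua u hu, heu u hu])
      (by rw [map_sub, map_smul, smul_eq_mul, div_mul_cancel₀ _ hed, sub_self])
    rw [sub_eq_zero.1 h]
    exact P.smul_mem _ he
  have hW : ∀ a, Inv N a → a ∈ P ⊔ Mv := by
    refine hstable (P ⊔ Mv) (fun a ha => ?_) (fun g a ha => ?_) fun a ha hua => ?_
    · obtain ⟨p, hp, q, hq, rfl⟩ := Submodule.mem_sup.1 ha
      exact add_mem (show p ∈ invAlg N from (hPV hp).1) (hMvR q hq)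
    · obtain ⟨p, hp, q, hq, rfl⟩ := Submodule.mem_sup.1 ha
      rw [map_add]
      exact Submodule.add_mem_sup (hPl g p hp) (hMvl g q hq)
    obtain ⟨W, hWf, hWR, haW, hWop⟩ := hfin a ha
    haveI := hWf
    obtain ⟨p, hp, q, hq, hpq⟩ := Submodule.mem_sup.1 ((split_fixed hcomm hss W hWop).1 haW)
    have hq' : q ∈ Mv := iSup_mono (fun i => Submodule.map_mono hWR) hq
    have hpN : Inv N p := by
      rw [eq_sub_of_add_eq hpq]
      exact sub_mem (show a ∈ invAlg N from ha) (hMvR q hq')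
    have hpV : p ∈ wt N s φ := ⟨hpN, (hfix p).1 hp⟩
    have hpu : ∀ u ∈ N, lT u p = p := fun u hu => by
      have h1 := hua u hu
      rw [← hpq, map_add] at h1
      refine sub_eq_zero.1 (hdis _ ?_ (sub_mem ((hfix _).2 (lT_mem_wt hpV u).2) hp))
      rw [show lT u p - p = q - lT u q by linear_combination h1]
      exact sub_mem hq' (hMvl u q hq')
    rw [← hpq]
    exact Submodule.add_mem_sup (huniq p hpV hpu) hq'
  intro a ha
  obtain ⟨p, hp, q, hq, rfl⟩ := Submodule.mem_sup.1 (hW a ha.1)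
  have hqf : q ∈ fixed op := by
    have := sub_mem ((hfix _).2 ha.2) ((hfix _).2 (hPV hp).2)
    rwa [add_sub_cancel_left] at this
  rw [hdis q hq hqf, add_zero]
  exact hp

/-- A member of the span of products as a finite sum of products over distinct second factors. -/
theorem exists_finset_sum_mul {S₁ S₂ : Submodule k A} {f : A}
    (hf : f ∈ Submodule.span k {c | ∃ a ∈ S₁, ∃ b ∈ S₂, c = a * b}) :
    ∃ t : Finset (A × A), (∀ p ∈ t, p.1 ∈ S₁ ∧ p.2 ∈ S₂) ∧ f = ∑ p ∈ t, p.1 * p.2 := by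
  classical
  obtain ⟨n, c, g, rfl⟩ := Submodule.mem_span_set'.1 hf
  choose a ha b hb hg using fun i => (g i).2
  let e : A ↪ A × A := ⟨fun y => (∑ i ∈ Finset.univ.filter (fun i => b i = y), c i • a i, y),
    fun y y' h => congrArg Prod.snd h⟩
  refine ⟨(Finset.univ.image b).map e, fun p hp => ?_, ?_⟩
  · obtain ⟨y, hy, rfl⟩ := Finset.mem_map.1 hp
    obtain ⟨i, -, rfl⟩ := Finset.mem_image.1 hy
    exact ⟨show (∑ j ∈ Finset.univ.filter (fun j => b j = b i), c j • a j) ∈ S₁ from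
      Submodule.sum_mem _ fun j _ => S₁.smul_mem _ (ha j), hb i⟩
  rw [Finset.sum_map, ← Finset.sum_fiberwise_of_maps_to (g := b) (t := Finset.univ.image b)
    (fun i _ => Finset.mem_image_of_mem _ (Finset.mem_univ i))]
  refine Finset.sum_congr rfl fun y _ => ?_
  show _ = (∑ i ∈ Finset.univ.filter (fun i => b i = y), c i • a i) * y
  rw [Finset.sum_mul]
  refine Finset.sum_congr rfl fun i hi => ?_
  rw [hg i, (Finset.mem_filter.1 hi).2, smul_mul_assoc]

end Weights

end Groth.Agent.ObsLib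

end
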